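import Cfsg.Agent.Omega.NO3S.FarQ.Abs

/-!
# NO-3S, `q ≥ 4`, the world without `FullK`: `M_τ`, `rad`, `N⁺` (helper471 #21459, section 0)

`Flag T lam U Kh` of `FarQ/Abs.lean`; `K` is the point `p` as an abstract group, `Kh = K̂ ≤ Hom(M, K)`.

* `OnL lam Kh` : `{φ a : φ ∈ K̂} = K` for `1 ≠ a ∈ lam`;
* `Mt Kh D = {m | K̂(m) ≤ D}`, `D < K` (`M_τ`, `D = ker τ`), `rad Kh = Mt Kh ⊥`, `Np Kh = ⨆_{D < K} Mt Kh D` (`N⁺`);
* `cq N = C_H(M / N)`;
* `Flag.cq_mt` : `C_H(M / M_τ) = C_H(M / rad)`; `Flag.mt_inf` : `M_τ ∩ lam = 1`;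
* `Flag.dual` : duality.
-/

set_option autoImplicit false
set_option linter.unusedSectionVars false

namespace Cfsg.Agent.Omega.NO3S.FullQ

open Subgroup Cfsg.Agent.ZN Cfsg.Agent.Omega.NO3S.PT Cfsg.Agent.Omega.NO3S.FarQ
open Cfsg.Agent.ClassTwoFusion.Quad (cv mem_cv cv_anti)

variable {H M K : Type*} [Group H] [CommGroup M] [MulDistribMulAction H M] [CommGroup K]

/-- `N` is `H`-invariant. -/
def HInv (H : Type*) {M : Type*} [Group H] [CommGroup M] [MulDistribMulAction H M] (N : Subgroup M) : Prop :=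
  ∀ h : H, ∀ n ∈ N, h • n ∈ N

/-- `K̂` is onto `K` at every element of `lam#`. -/
def OnL (lam : Subgroup M) (Kh : Subgroup (M →* K)) : Prop := ∀ a ∈ lam, a ≠ 1 → ∀ r : K, ∃ φ ∈ Kh, φ a = r

/-- `M_τ`, `D = ker τ`. -/
def Mt (Kh : Subgroup (M →* K)) (D : Subgroup K) : Subgroup M where
  carrier := {m | ∀ φ ∈ Kh, φ m ∈ D}
  one_mem' := fun φ _ => by rw [map_one]; exact one_mem _
  mul_mem' := fun {a b} ha hb φ hφ => by rw [map_mul]; exact mul_mem (ha φ hφ) (hb φ hφ)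
  inv_mem' := fun {a} ha φ hφ => by rw [map_inv]; exact inv_mem (ha φ hφ)

theorem mem_Mt {Kh : Subgroup (M →* K)} {D : Subgroup K} {m : M} : m ∈ Mt Kh D ↔ ∀ φ ∈ Kh, φ m ∈ D := Iff.rfl

/-- `rad = N_p / p` -/
def rad (Kh : Subgroup (M →* K)) : Subgroup M := Mt Kh ⊥

theorem mem_rad {Kh : Subgroup (M →* K)} {m : M} : m ∈ rad Kh ↔ ∀ φ ∈ Kh, φ m = 1 := by
  constructor
  · intro h φ hφ
    exact mem_bot.1 (h φ hφ)
  · intro h φ hφ
    exact mem_bot.2 (h φ hφ)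

/-- `N⁺` -/
def Np (Kh : Subgroup (M →* K)) : Subgroup M := ⨆ D : {D : Subgroup K // D ≠ ⊤}, Mt Kh D

theorem Mt_mono {Kh : Subgroup (M →* K)} {D D' : Subgroup K} (h : D ≤ D') : Mt Kh D ≤ Mt Kh D' :=
  fun _ hm φ hφ => h (hm φ hφ)

theorem rad_le_Mt (Kh : Subgroup (M →* K)) (D : Subgroup K) : rad Kh ≤ Mt Kh D := Mt_mono bot_le

theorem Mt_le_Np (Kh : Subgroup (M →* K)) {D : Subgroup K} (h : D ≠ ⊤) : Mt Kh D ≤ Np Kh :=
  le_iSup (fun D : {D : Subgroup K // D ≠ ⊤} => Mt Kh D) ⟨D, h⟩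

theorem Np_le {Kh : Subgroup (M →* K)} {E : Subgroup M} (h : ∀ D : Subgroup K, D ≠ ⊤ → Mt Kh D ≤ E) :
    Np Kh ≤ E := iSup_le fun D => h D.1 D.2

/-- `C_H(M / N)` -/
def cq (N : Subgroup M) : Subgroup H where
  carrier := {h | ∀ m : M, (h • m) * m⁻¹ ∈ N}
  one_mem' := fun m => by rw [one_smul, mul_inv_cancel]; exact one_mem _
  mul_mem' := by
    intro a b ha hb m
    have e1 : (a * b) • m * m⁻¹ = (a • (b • m)) * (b • m)⁻¹ * ((b • m) * m⁻¹) := by
      rw [mul_smul]; group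
    rw [e1]
    exact mul_mem (ha _) (hb m)
  inv_mem' := by
    intro a ha m
    have h1 := inv_mem (ha (a⁻¹ • m))
    rw [smul_inv_smul, mul_inv_rev, inv_inv] at h1
    exact h1

theorem mem_cq {N : Subgroup M} {h : H} : h ∈ cq N ↔ ∀ m : M, (h • m) * m⁻¹ ∈ N := Iff.rfl

theorem cq_mono {N N' : Subgroup M} (h : N ≤ N') : cq (H := H) N ≤ cq N' := fun _ hx m => h (hx m)

/-- a map out of `HInv` -/
theorem HInv.conj_mem {N : Subgroup M} (hN : HInv H N) {h g : H} (hh : h ∈ cq N) : g * h * g⁻¹ ∈ cq N := by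
  intro m
  have h1 := hN g _ (hh (g⁻¹ • m))
  rw [smul_mul', smul_inv', smul_inv_smul] at h1
  rw [mul_smul, mul_smul]
  exact h1

theorem HInv.normal {N : Subgroup M} (hN : HInv H N) : (cq (H := H) N).Normal := ⟨fun _ hh _ => hN.conj_mem hh⟩

theorem HInv.sup {N N' : Subgroup M} (h : HInv H N) (h' : HInv H N') : HInv H (N ⊔ N') := by
  intro g m hm
  obtain ⟨a, ha, b, hb, rfl⟩ := mem_sup.1 hm
  rw [smul_mul']
  exact mem_sup.2 ⟨_, h g a ha, _, h' g b hb, rfl⟩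

theorem HInv.iSup {ι : Sort*} {N : ι → Subgroup M} (h : ∀ i, HInv H (N i)) : HInv H (⨆ i, N i) := by
  intro g
  have h1 : (⨆ i, N i) ≤ (⨆ i, N i).comap (MulDistribMulAction.toMonoidHom M g) := by
    refine iSup_le fun i m hm => ?_
    exact (le_iSup N i) (h i g m hm)
  exact fun m hm => h1 hm

/-- a line vector orbit generates: `N` contains one `a ∈ lam#` is impossible if something `≠ 1` centralises `N` -/
theorem zm_hinv {J : Subgroup H} {N : Subgroup M} (h : N ≤ zm M J) {n : M} (hn : n ∈ N) {j : H} (hj : j ∈ J) :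
    j • n = n := (mem_cv.1 (h hn)) j hj

section flag

variable {T : Subgroup H} {lam U : Subgroup M} {Kh : Subgroup (M →* K)} (F : Flag T lam U Kh)
include F

/-- `K̂` is `H`-invariant: the composition -/
theorem _root_.Cfsg.Agent.Omega.NO3S.FarQ.Flag.comp_mem {φ : M →* K} (hφ : φ ∈ Kh) (h : H) :
    φ.comp (MulDistribMulAction.toMonoidHom M h) ∈ Kh := by
  obtain ⟨ψ, hψ, e⟩ := F.kh φ hφ h
  have e1 : φ.comp (MulDistribMulAction.toMonoidHom M h) = ψ := by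
    ext m
    exact (e m).symm
  rw [e1]
  exact hψ

theorem _root_.Cfsg.Agent.Omega.NO3S.FarQ.Flag.hinv_Mt (D : Subgroup K) : HInv H (Mt Kh D) := by
  intro h m hm φ hφ
  exact hm _ (F.comp_mem hφ h)

theorem _root_.Cfsg.Agent.Omega.NO3S.FarQ.Flag.hinv_rad : HInv H (rad Kh) := F.hinv_Mt ⊥

theorem _root_.Cfsg.Agent.Omega.NO3S.FarQ.Flag.hinv_Np : HInv H (Np Kh) := HInv.iSup fun D => F.hinv_Mt D.1

/-- `φ ∈ K̂` is trivial or bijective on `lam` -/
theorem _root_.Cfsg.Agent.Omega.NO3S.FarQ.Flag.onto {φ : M →* K} (hφ : φ ∈ Kh) {a : M} (ha : a ∈ lam) (h : φ a ≠ 1)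
    (r : K) : ∃ b ∈ lam, φ b = r := by
  have := F.finM
  have hinj : Function.Injective fun x : lam => φ x := by
    intro x y hxy
    have h1 : φ ((x : M) * (y : M)⁻¹) = 1 := by
      rw [map_mul, map_inv, mul_inv_eq_one]
      exact hxy
    by_contra hne
    have h2 : (x : M) * (y : M)⁻¹ ≠ 1 := fun e => hne (Subtype.ext (mul_inv_eq_one.1 e))
    exact h (F.ti φ hφ _ (mul_mem x.2 (inv_mem y.2)) h2 h1 a ha)
  have : Finite K := by
    have h1 : Nat.card K ≠ 0 := by rw [F.cardR]; exact Nat.card_pos.ne'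
    exact Nat.finite_of_card_ne_zero h1
  have hb := (Nat.bijective_iff_injective_and_card (fun x : lam => φ x)).2 ⟨hinj, F.cardR.symm⟩
  obtain ⟨x, hx⟩ := hb.2 r
  exact ⟨x, x.2, hx⟩

/-- `φ ∈ K̂` with values in a proper subgroup on the line `g lam` is trivial on it -/
theorem _root_.Cfsg.Agent.Omega.NO3S.FarQ.Flag.eq_one_of_lam {D : Subgroup K} (hD : D ≠ ⊤) {φ : M →* K} (hφ : φ ∈ Kh)
    (g : H) (h : ∀ a ∈ lam, φ (g • a) ∈ D) : ∀ a ∈ lam, φ (g • a) = 1 := by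
  intro a ha
  by_contra hne
  apply hD
  rw [eq_top_iff]
  intro r _
  obtain ⟨b, hb, e⟩ := F.onto (F.comp_mem hφ g) ha hne r
  rw [← e]
  exact h b hb

/-- `φ ∈ K̂` with values in a proper subgroup is trivial -/
theorem _root_.Cfsg.Agent.Omega.NO3S.FarQ.Flag.eq_one_of {D : Subgroup K} (hD : D ≠ ⊤) {φ : M →* K} (hφ : φ ∈ Kh)
    (h : ∀ m, φ m ∈ D) : φ = 1 := by
  have h1 : φ.ker = ⊤ := F.gen _ fun g a ha => F.eq_one_of_lam hD hφ g (fun b _ => h _) a ha
  ext m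
  have h2 : m ∈ φ.ker := by rw [h1]; exact mem_top m
  exact h2

/-- `C_H(M / M_τ) = C_H(M / rad)` -/
theorem _root_.Cfsg.Agent.Omega.NO3S.FarQ.Flag.cq_Mt {D : Subgroup K} (hD : D ≠ ⊤) :
    cq (H := H) (Mt Kh D) = cq (rad Kh) := by
  apply le_antisymm _ (cq_mono (rad_le_Mt Kh D))
  intro h hh m
  rw [mem_rad]
  intro φ hφ
  have h1 : φ.comp (MulDistribMulAction.toMonoidHom M h) * φ⁻¹ = 1 := by
    refine F.eq_one_of hD (mul_mem (F.comp_mem hφ h) (inv_mem hφ)) fun m => ?_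
    have h2 := hh m φ hφ
    rw [map_mul, map_inv] at h2
    exact h2
  have h3 := DFunLike.congr_fun h1 m
  rw [map_mul, map_inv]
  exact h3

/-- `M_τ ∩ lam = 1` -/
theorem _root_.Cfsg.Agent.Omega.NO3S.FarQ.Flag.Mt_lam (hO : OnL lam Kh) {D : Subgroup K} (hD : D ≠ ⊤) {a : M}
    (ha : a ∈ lam) (h : a ∈ Mt Kh D) : a = 1 := by
  by_contra hne
  apply hD
  rw [eq_top_iff]
  intro r _
  obtain ⟨φ, hφ, e⟩ := hO a ha hne r
  rw [← e]
  exact h φ hφ

/-- `⊥ ≠ ⊤` in `K` -/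
theorem _root_.Cfsg.Agent.Omega.NO3S.FarQ.Flag.bot_ne_top : (⊥ : Subgroup K) ≠ ⊤ := by
  intro e
  have h1 : Nat.card (⊥ : Subgroup K) = Nat.card (⊤ : Subgroup K) := by rw [e]
  rw [card_bot, card_top, F.cardR] at h1
  have := F.four
  omega

/-- an element centralising some `a ∈ lam#` and its conjugates is trivial -/
theorem _root_.Cfsg.Agent.Omega.NO3S.FarQ.Flag.eq_one_of_cent {N : Subgroup M} (hN : HInv H N) {a : M} (ha : a ∈ lam)
    (ha1 : a ≠ 1) (haN : a ∈ N) {j : H} (hj : ∀ n ∈ N, j • n = n) : j = 1 := by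
  apply F.faith
  have h1 : cv M ({j} : Set H) = ⊤ := F.gen _ fun h b hb => by
    rw [mem_cv]
    intro x hx
    rw [Set.mem_singleton_iff.1 hx]
    have h2 : (h⁻¹ * j * h) • a = a := by
      rw [mul_smul, mul_smul, hj _ (hN h a haN), inv_smul_smul]
    have h3 := F.lin a ha ha1 _ h2 b hb
    rw [mul_smul, mul_smul, inv_smul_eq_iff] at h3
    exact h3
  intro m
  have h2 : m ∈ cv M ({j} : Set H) := by rw [h1]; exact mem_top m
  exact (mem_cv.1 h2) j rfl

/-! ### Duality -/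

/-- **Duality**: `D` of index 2 in `K`, `M_τ ≤ E`, `m ∉ E`: some `φ ∈ K̂` has `φ(E) ≤ D`, `φ(m) ∉ D`. -/
theorem _root_.Cfsg.Agent.Omega.NO3S.FarQ.Flag.dual {D : Subgroup K} (hD : D.index = 2) {E : Subgroup M}
    (hE : Mt Kh D ≤ E) {m : M} (hm : m ∉ E) : ∃ φ ∈ Kh, (∀ e ∈ E, φ e ∈ D) ∧ φ m ∉ D := by
  classical
  have := F.finM
  let _ : Module (ZMod 2) (Additive M) := AddCommGroup.zmodModule (n := 2) (fun x => by
    rw [two_nsmul]
    exact congrArg Additive.ofMul (F.sq x.toMul))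
  have hKD : Nat.card (K ⧸ D) = 2 := hD
  have hex : ∃ χ : K →* Multiplicative (ZMod 2), χ.ker = D := by
    have h1 : IsCyclic (K ⧸ D) := isCyclic_of_prime_card (p := 2) hKD
    have h2 : Nat.card (K ⧸ D) = Nat.card (Multiplicative (ZMod 2)) := by
      rw [hKD]
      exact (Nat.card_zmod 2).symm
    let e := mulEquivOfCyclicCardEq h2
    refine ⟨e.toMonoidHom.comp (QuotientGroup.mk' D), ?_⟩
    ext x
    rw [MonoidHom.mem_ker]
    constructor
    · intro h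
      have h3 : e (QuotientGroup.mk' D x) = 1 := h
      rw [map_eq_one_iff e e.injective] at h3
      exact (QuotientGroup.eq_one_iff x).1 h3
    · intro h
      have h3 : QuotientGroup.mk' D x = 1 := (QuotientGroup.eq_one_iff x).2 h
      show e (QuotientGroup.mk' D x) = 1
      rw [h3, map_one]
  obtain ⟨χ, hχ⟩ := hex
  have hχD : ∀ x : K, χ x = 1 ↔ x ∈ D := fun x => by rw [← hχ, MonoidHom.mem_ker]
  let toD : (M →* K) → Module.Dual (ZMod 2) (Additive M) := fun φ =>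
    AddMonoidHom.toZModLinearMap 2 (AddMonoidHom.mk' (fun x : Additive M => (χ (φ x.toMul)).toAdd) (by
      intro a b
      show (χ (φ (a.toMul * b.toMul))).toAdd = _
      rw [map_mul, map_mul]
      rfl))
  have htoD : ∀ φ (x : M), toD φ (Additive.ofMul x) = 0 ↔ φ x ∈ D := by
    intro φ x
    rw [← hχD]
    exact Iff.rfl
  let W : Submodule (ZMod 2) (Module.Dual (ZMod 2) (Additive M)) :=
    AddSubgroup.toZModSubmodule 2
      { carrier := {f | ∃ φ ∈ Kh, toD φ = f}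
        zero_mem' := ⟨1, one_mem _, by
          ext x
          show (χ 1).toAdd = 0
          rw [map_one]
          rfl⟩
        add_mem' := by
          rintro _ _ ⟨φ, hφ, rfl⟩ ⟨ψ, hψ, rfl⟩
          refine ⟨φ * ψ, mul_mem hφ hψ, ?_⟩
          ext x
          show (χ (φ x.toMul * ψ x.toMul)).toAdd = _
          rw [map_mul]
          rfl
        neg_mem' := by
          rintro _ ⟨φ, hφ, rfl⟩
          refine ⟨φ⁻¹, inv_mem hφ, ?_⟩
          ext x
          show (χ (φ x.toMul)⁻¹).toAdd = _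
          rw [map_inv]
          rfl }
  have hW : ∀ f, f ∈ W ↔ ∃ φ ∈ Kh, toD φ = f := fun f => Iff.rfl
  let E' : Submodule (ZMod 2) (Additive M) := AddSubgroup.toZModSubmodule 2 (Subgroup.toAddSubgroup E)
  have hE' : ∀ x : M, Additive.ofMul x ∈ E' ↔ x ∈ E := fun x => Iff.rfl
  have h1 : W.dualCoannihilator ≤ E' := by
    intro x hx
    rw [Submodule.mem_dualCoannihilator] at hx
    refine hE ?_
    intro φ hφ
    exact (htoD φ x.toMul).1 (hx _ ((hW _).2 ⟨φ, hφ, rfl⟩))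
  have hm' : Additive.ofMul m ∉ E' := hm
  obtain ⟨f, hf, hfE⟩ := Submodule.exists_le_ker_of_notMem hm'
  have h2 : f ∈ W := by
    rw [← Subspace.dualCoannihilator_dualAnnihilator_eq (W := W), Submodule.mem_dualAnnihilator]
    intro x hx
    exact hfE (h1 hx)
  obtain ⟨φ, hφ, rfl⟩ := (hW _).1 h2
  refine ⟨φ, hφ, fun e he => ?_, fun h3 => hf ((htoD φ m).2 h3)⟩
  exact (htoD φ e).1 (hfE ((hE' e).2 he))

/-- there is a subgroup of index 2 in `K` -/
theorem _root_.Cfsg.Agent.Omega.NO3S.FarQ.Flag.exists_index_two : ∃ D : Subgroup K, D.index = 2 := by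
  classical
  have := F.finM
  have : Finite K := by
    have h1 : Nat.card K ≠ 0 := by rw [F.cardR]; exact Nat.card_pos.ne'
    exact Nat.finite_of_card_ne_zero h1
  let _ : Module (ZMod 2) (Additive K) := AddCommGroup.zmodModule (n := 2) (fun x => by
    rw [two_nsmul]
    exact congrArg Additive.ofMul (F.sqR x.toMul))
  have hnt : Nontrivial K := by
    rw [← Finite.one_lt_card_iff_nontrivial, F.cardR]
    have := F.four
    omega
  obtain ⟨k, hk⟩ := exists_ne (1 : K)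
  have hk' : Additive.ofMul k ∉ (⊥ : Submodule (ZMod 2) (Additive K)) := by
    rw [Submodule.mem_bot]
    exact hk
  obtain ⟨f, hf, -⟩ := Submodule.exists_le_ker_of_notMem hk'
  let g : K →* Multiplicative (ZMod 2) := MonoidHom.mk' (fun x => Multiplicative.ofAdd (f (Additive.ofMul x)))
    (fun a b => by rw [ofMul_mul, map_add, ofAdd_add])
  have hg : g k ≠ 1 := hf
  refine ⟨g.ker, ?_⟩
  have h1 : g.range = ⊤ := by
    have h2 : Nat.card g.range ∣ Nat.card (Multiplicative (ZMod 2)) := card_subgroup_dvd_card _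
    have h3 : Nat.card (Multiplicative (ZMod 2)) = 2 := Nat.card_zmod 2
    rw [h3] at h2
    rcases (Nat.dvd_prime Nat.prime_two).1 h2 with h4 | h4
    · exfalso
      rw [card_eq_one] at h4
      have h5 : g k ∈ g.range := ⟨k, rfl⟩
      rw [h4, mem_bot] at h5
      exact hg h5
    · apply eq_top_of_card_eq
      rw [h4, h3]
  rw [index_ker, h1, card_top]
  exact Nat.card_zmod 2

omit F in
theorem ne_top_of_index {D : Subgroup K} (hD : D.index = 2) : D ≠ ⊤ := by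
  rintro rfl
  rw [index_top] at hD
  omega

/-- **Duality for lines**: `μ = g lam`: `φ(μ) ≤ D` implies `φ(μ) = 1`. For `E = μ₁ μ₂ N⁺` etc. -/
theorem _root_.Cfsg.Agent.Omega.NO3S.FarQ.Flag.dual_line {E : Subgroup M} (hE : Np Kh ≤ E) {m : M} (hm : m ∉ E) :
    ∃ φ ∈ Kh, (∀ g : H, (∀ a ∈ lam, g • a ∈ E) → ∀ a ∈ lam, φ (g • a) = 1) ∧ φ m ≠ 1 := by
  obtain ⟨D, hD⟩ := F.exists_index_two
  have hDt := ne_top_of_index hD
  obtain ⟨φ, hφ, h1, h2⟩ := F.dual hD ((Mt_le_Np Kh hDt).trans hE) hm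
  refine ⟨φ, hφ, fun g hg => F.eq_one_of_lam hDt hφ g fun a ha => h1 _ (hg a ha), fun e => h2 ?_⟩
  rw [e]
  exact one_mem _

end flag

end Cfsg.Agent.Omega.NO3S.FullQ
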