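import Cfsg.Agent.Omega.NO3S.FarQ.Abs

/-!
# FULL, `q ≥ 4`: the count of class P (helper471 #21459, (2b), (2c))

`M = W_p / p`, `Q = M / N⁺` an `F`-space on which `H` acts linearly, `π : M → Q`, `F a₀` = the image of `lam`.
`Dat π a₀ A` : `A ≤ O₂(C_H(a₀))` has exponent 2, `|M : C_M(A)| ≤ |A|`, and every `a ∈ A`, `a ≠ 1`, inverts an element
`h ≠ 1` of odd order for which the span of `h a₀`, `h⁻¹ a₀` contains `a₀` and is invariant under `A` and `h`.

* `Dat.le` : `[Q, A] ≤ F a₀`;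
* `Dat.fixM` : `C_M(A)` is the full preimage of `C_Q(A)`; so `A` centralises `ker π`;
* `Dat.inj` : `A` is faithful on `Q`;
* `Dat.all` : `A` = all homomorphisms `Q / C_Q(A) → F a₀`;
* `Dat.theta` : for `c ≠ 0` there is `θ` of odd order, trivial on `ker π`, `θ a₀ = c a₀`.
-/

set_option autoImplicit false
set_option linter.unusedSectionVars false

namespace Cfsg.Agent.Omega.NO3S.FullQ.Cnt

open Subgroup Cfsg.Agent.ZN Cfsg.Agent.Omega.NO3S.FarQ
open Cfsg.Agent.MinSimple.VModule (le_o2 o2_le o2_isPGroup le_normalizer_o2)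
open Cfsg.Agent.ClassTwoFusion.Quad (cv mem_cv cv_anti)

section lin

variable {F X : Type*} [Field F] [Finite F] [AddCommGroup X] [Module F X] [Finite X]

/-- `|Hom_F(X / W, F)| = |X : W|` -/
theorem card_annihilator (W : Submodule F X) : Nat.card W.dualAnnihilator = W.toAddSubgroup.index := by
  have e1 : Nat.card W.dualAnnihilator = Nat.card (Module.Dual F (X ⧸ W)) :=
    Nat.card_congr (W.dualQuotEquivDualAnnihilator).toEquiv.symm
  have hX : Finite (X ⧸ W) := Quotient.finite _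
  have e2 : Nat.card (Module.Dual F (X ⧸ W)) = Nat.card (X ⧸ W) := by
    have hD : Finite (Module.Dual F (X ⧸ W)) := Module.finite_of_finite F
    rw [Module.natCard_eq_pow_finrank (K := F) (V := X ⧸ W),
      Module.natCard_eq_pow_finrank (K := F) (V := Module.Dual F (X ⧸ W)), Subspace.dual_finrank_eq]
  rw [e1, e2]
  rfl

end lin

variable {F H M Q : Type*} [Field F] [AddCommGroup Q] [Module F Q] [Group H] [DistribMulAction H Q]
  [SMulCommClass H F Q] [CommGroup M] [MulDistribMulAction H M]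

/-- `C_H(a₀)` -/
abbrev st (H : Type*) [Group H] [DistribMulAction H Q] (a0 : Q) : Subgroup H := MulAction.stabilizer H a0

variable (F) in
/-- `⟨h a₀, h⁻¹ a₀⟩` -/
def pln (a0 : Q) (h : H) : Submodule F Q := Submodule.span F {h • a0, h⁻¹ • a0}

variable (F) in
/-- **The situation.** -/
structure Dat (π : M → Q) (a0 : Q) (A : Subgroup H) : Prop where
  pmul : ∀ m n, π (m * n) = π m + π n
  surj : Function.Surjective π
  act : ∀ (h : H) m, π (h • m) = h • π m
  ne : a0 ≠ 0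
  sq : ∀ a ∈ A, a * a = 1
  fix : ∀ a ∈ A, a • a0 = a0
  o2 : A ≤ o2 (st H a0)
  ex : (zm M A).index ≤ Nat.card A
  mv : ∀ a ∈ A, a ≠ 1 → ∃ h : H, h ≠ 1 ∧ Odd (orderOf h) ∧ a * h * a⁻¹ = h⁻¹ ∧ a0 ∈ pln F a0 h ∧
    (∀ b ∈ A, ∀ v ∈ pln F a0 h, b • v ∈ pln F a0 h) ∧ ∀ v ∈ pln F a0 h, h • v ∈ pln F a0 h

omit [AddCommGroup Q] [DistribMulAction H Q] in
theorem norm_o2 [Finite H] (K : Subgroup H) {g : H} (hg : ∀ x, x ∈ K ↔ g * x * g⁻¹ ∈ K) {a : H}
    (ha : a ∈ ZN.o2 K) : g * a * g⁻¹ ∈ ZN.o2 K := by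
  have h1 : ∀ x, x ∈ K ↔ g⁻¹ * x * g ∈ K := by
    intro x
    rw [hg (g⁻¹ * x * g)]
    have e : g * (g⁻¹ * x * g) * g⁻¹ = x := by group
    rw [e]
  have key : (ZN.o2 K).map (MulAut.conj g).toMonoidHom ≤ ZN.o2 K := by
    refine le_o2 ?_ ((o2_isPGroup K).map _) ?_
    · rintro _ ⟨x, hx, rfl⟩
      exact (hg x).1 (o2_le K hx)
    · intro k hk
      rw [mem_normalizer_iff]
      have hk' := le_normalizer_o2 K ((h1 k).1 hk)
      rw [mem_normalizer_iff] at hk'
      intro y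
      have hm : ∀ z : H, z ∈ (ZN.o2 K).map (MulAut.conj g).toMonoidHom ↔ g⁻¹ * z * g ∈ ZN.o2 K := by
        intro z
        constructor
        · rintro ⟨x, hx, rfl⟩
          have e : g⁻¹ * ((MulAut.conj g).toMonoidHom x) * g = x := by
            show g⁻¹ * (g * x * g⁻¹) * g = x
            group
          rw [e]
          exact hx
        · intro h
          refine ⟨_, h, ?_⟩
          show g * (g⁻¹ * z * g) * g⁻¹ = z
          group
      rw [hm, hm, hk' (g⁻¹ * y * g)]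
      have e : g⁻¹ * k * g * (g⁻¹ * y * g) * (g⁻¹ * k * g)⁻¹ = g⁻¹ * (k * y * k⁻¹) * g := by group
      rw [e]
  exact key ⟨a, ha, rfl⟩

namespace Dat

variable {π : M → Q} {a0 : Q} {A : Subgroup H}

/-! ### (2b): the plane -/

/-- `h²` does not normalise `F a₀` -/
theorem sq_ne [Finite H] (D : Dat F π a0 A) {a h : H} (ha : a ∈ A) (h1 : h ≠ 1) (ho : Odd (orderOf h))
    (hi : a * h * a⁻¹ = h⁻¹) (c : F) (hc : (h * h) • a0 = c • a0) : False := by
  have hc0 : c ≠ 0 := by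
    rintro rfl
    rw [zero_smul, smul_eq_zero_iff_eq] at hc
    exact D.ne hc
  set g := h * h with hg
  have hg' : g⁻¹ • a0 = c⁻¹ • a0 := by
    rw [inv_smul_eq_iff, smul_comm, hc, smul_smul, inv_mul_cancel₀ hc0, one_smul]
  have hn : ∀ x, x ∈ st H a0 ↔ g * x * g⁻¹ ∈ st H a0 := by
    intro x
    rw [MulAction.mem_stabilizer_iff, MulAction.mem_stabilizer_iff, mul_smul, mul_smul, hg']
    constructor
    · intro hx
      rw [smul_comm x, hx, smul_comm g, hc, smul_smul, inv_mul_cancel₀ hc0, one_smul]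
    · intro hx
      rw [smul_comm x, smul_comm g, inv_smul_eq_iff₀ hc0, ← hc, smul_left_cancel_iff] at hx
      exact hx
  have h2 : g * a * g⁻¹ ∈ ZN.o2 (st H a0) := norm_o2 _ hn (D.o2 ha)
  have h3 : g * g ∈ ZN.o2 (st H a0) := by
    have h4 := mul_mem h2 (inv_mem (D.o2 ha))
    have e1 : a * g⁻¹ * a⁻¹ = g := by
      have e2 : a * g⁻¹ * a⁻¹ = (a * h * a⁻¹)⁻¹ * (a * h * a⁻¹)⁻¹ := by rw [hg]; group
      rw [e2, hi, inv_inv]
    have e3 : g * a * g⁻¹ * a⁻¹ = g * g := by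
      rw [mul_assoc, mul_assoc, ← mul_assoc a, e1]
    rwa [e3] at h4
  obtain ⟨k, hk⟩ := (o2_isPGroup (st H a0)) ⟨g * g, h3⟩
  have h5 : (g * g) ^ 2 ^ k = 1 := congrArg Subtype.val hk
  have h6 : h ^ (4 * 2 ^ k) = 1 := by
    rw [pow_mul]
    have e : h ^ 4 = g * g := by rw [hg, ← pow_two, ← pow_two, ← pow_mul]
    rw [e, h5]
  have h7 : orderOf h ∣ 4 * 2 ^ k := orderOf_dvd_of_pow_eq_one h6
  have h8 : Nat.Coprime (orderOf h) (4 * 2 ^ k) := by
    have : (4 * 2 ^ k) = 2 ^ (k + 2) := by rw [pow_add]; ring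
    rw [this]
    exact (Nat.coprime_two_right.2 ho).pow_right _
  have h9 := Nat.Coprime.eq_one_of_dvd h8 h7
  exact h1 (orderOf_eq_one_iff.1 h9)

section plane

variable [Finite H] (D : Dat F π a0 A) {a h : H} (ha : a ∈ A) (h1 : h ≠ 1) (ho : Odd (orderOf h))
  (hi : a * h * a⁻¹ = h⁻¹)
include D ha h1 ho hi

/-- `h a₀ ∉ F a₀` -/
theorem notMem (c : F) : h • a0 ≠ c • a0 := by
  intro hc
  refine D.sq_ne ha h1 ho hi (c * c) ?_
  rw [mul_smul, hc, smul_comm, hc, smul_smul]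

/-- `h a₀ ∉ F h⁻¹ a₀` -/
theorem notMem' (c : F) : h • a0 ≠ c • h⁻¹ • a0 := by
  intro hc
  refine D.sq_ne ha h1 ho hi c ?_
  rw [mul_smul, hc, smul_comm, smul_inv_smul]

/-- `a h a₀ = h⁻¹ a₀` -/
theorem act_h : a • h • a0 = h⁻¹ • a0 := by
  have e : a * h = h⁻¹ * a := by rw [← hi]; group
  rw [← mul_smul, e, mul_smul, D.fix a ha]

theorem act_h' : a • h⁻¹ • a0 = h • a0 := by
  rw [← D.act_h ha h1 ho hi, ← mul_smul, D.sq a ha, one_smul]

/-- the plane is spanned by `a₀`, `h a₀` -/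
theorem exists_of_mem (h0 : a0 ∈ pln F a0 h) {v : Q} (hv : v ∈ pln F a0 h) :
    ∃ x y : F, v = x • a0 + y • h • a0 := by
  obtain ⟨x, y, hxy⟩ := Submodule.mem_span_pair.1 h0
  have hy : y ≠ 0 := by
    rintro rfl
    rw [zero_smul, add_zero] at hxy
    have hx : x ≠ 0 := by
      rintro rfl
      rw [zero_smul] at hxy
      exact D.ne hxy.symm
    refine D.notMem ha h1 ho hi x⁻¹ ?_
    rw [← smul_right_injective Q hx |>.eq_iff]
    change x • h • a0 = x • x⁻¹ • a0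
    rw [hxy, smul_smul, mul_inv_cancel₀ hx, one_smul]
  have e : h⁻¹ • a0 = y⁻¹ • a0 - (y⁻¹ * x) • h • a0 := by
    have e1 : y • h⁻¹ • a0 = a0 - x • h • a0 := by rw [eq_sub_iff_add_eq, add_comm, hxy]
    have e2 : h⁻¹ • a0 = y⁻¹ • y • h⁻¹ • a0 := by rw [smul_smul, inv_mul_cancel₀ hy, one_smul]
    rw [e2, e1, smul_sub, smul_smul]
  obtain ⟨r, s, hrs⟩ := Submodule.mem_span_pair.1 hv
  refine ⟨s * y⁻¹, r - s * (y⁻¹ * x), ?_⟩
  rw [← hrs, e, smul_sub, smul_smul, smul_smul, sub_smul]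
  abel

theorem act_plane [CharP F 2] (h0 : a0 ∈ pln F a0 h) (hA : ∀ b ∈ A, ∀ v ∈ pln F a0 h, b • v ∈ pln F a0 h)
    {b : H} (hb : b ∈ A) : ∃ x : F, b • h • a0 = h • a0 + x • a0 := by
  obtain ⟨x, y, hxy⟩ := D.exists_of_mem ha h1 ho hi h0 (hA b hb _ (Submodule.subset_span (Set.mem_insert _ _)))
  have h2 : h • a0 = (x + y * x) • a0 + (y * y) • h • a0 := by
    calc h • a0 = b • b • h • a0 := by rw [← mul_smul, D.sq b hb, one_smul]
      _ = (x + y * x) • a0 + (y * y) • h • a0 := by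
        rw [hxy, smul_add, smul_comm b x, D.fix b hb, smul_comm b y, hxy, smul_add, smul_smul, smul_smul,
          ← add_assoc, ← add_smul]
  have hy : y * y = 1 := by
    by_contra hne
    have h3 : (1 - y * y) • h • a0 = (x + y * x) • a0 := by
      rw [sub_smul, one_smul]
      nth_rewrite 1 [h2]
      abel
    have h4 : (1 - y * y) ≠ 0 := sub_ne_zero.2 (Ne.symm hne)
    refine D.notMem ha h1 ho hi ((1 - y * y)⁻¹ * (x + y * x)) ?_
    rw [mul_smul, ← h3, smul_smul, inv_mul_cancel₀ h4, one_smul]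
  have hy1 : y = 1 := by
    have h5 : (y - 1) ^ 2 = 0 := by
      have h6 : (2 : F) = 0 := CharTwo.two_eq_zero
      have : (y - 1) ^ 2 = y * y - 1 - 2 * (y - 1) := by ring
      rw [this, hy, h6]
      ring
    exact sub_eq_zero.1 (pow_eq_zero_iff (two_ne_zero) |>.1 h5)
  refine ⟨x, ?_⟩
  rw [hxy, hy1, one_smul, add_comm]

end plane

/-! ### the functionals -/

variable (F a0 A) in
/-- `{v | [v, A] ≤ F a₀}` -/
def V1 : Submodule F Q where
  carrier := {v | ∀ b ∈ A, b • v - v ∈ Submodule.span F {a0}}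
  zero_mem' := fun b _ => by rw [smul_zero, sub_zero]; exact zero_mem _
  add_mem' := fun {v w} hv hw b hb => by
    have e : b • (v + w) - (v + w) = (b • v - v) + (b • w - w) := by rw [smul_add]; abel
    rw [e]
    exact add_mem (hv b hb) (hw b hb)
  smul_mem' := fun c v hv b hb => by
    have e : b • c • v - c • v = c • (b • v - v) := by rw [smul_comm, smul_sub]
    rw [e]
    exact Submodule.smul_mem _ _ (hv b hb)

variable (F Q A) in
/-- `C_Q(A)` -/
def CQ : Submodule F Q where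
  carrier := {v | ∀ b ∈ A, b • v = v}
  zero_mem' := fun b _ => smul_zero b
  add_mem' := fun {v w} hv hw b hb => by rw [smul_add, hv b hb, hw b hb]
  smul_mem' := fun c v hv b hb => by rw [smul_comm, hv b hb]

theorem mem_V1 {v : Q} : v ∈ V1 F a0 A ↔ ∀ b ∈ A, b • v - v ∈ Submodule.span F {a0} := Iff.rfl

theorem mem_CQ {v : Q} : v ∈ CQ F Q A ↔ ∀ b ∈ A, b • v = v := Iff.rfl

theorem CQ_le : CQ F Q A ≤ V1 F a0 A := fun v hv b hb => by rw [hv b hb, sub_self]; exact zero_mem _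

variable (F) in
/-- `v ↦ ℓ [v, b]` -/
def fn (l : Module.Dual F Q) (b : H) : Module.Dual F Q :=
  l.comp (DistribSMul.toLinearMap F Q b - LinearMap.id)

theorem fn_apply (l : Module.Dual F Q) (b : H) (v : Q) : fn F l b v = l (b • v - v) := rfl

/-- `b v = v + ℓ([v, b]) a₀` on `V₁` -/
theorem eq_add {l : Module.Dual F Q} (hl : l a0 = 1) {b : H} {v : Q}
    (hv : b • v - v ∈ Submodule.span F {a0}) : b • v = v + fn F l b v • a0 := by
  obtain ⟨c, hc⟩ := Submodule.mem_span_singleton.1 hv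
  have h1 : fn F l b v = c := by rw [fn_apply, ← hc, map_smul, hl, smul_eq_mul, mul_one]
  rw [h1, hc]
  abel

section main

variable [Finite F] [CharP F 2] [Finite H] [Finite M]

theorem finQ (D : Dat F π a0 A) : Finite Q := Finite.of_surjective π D.surj

/-- every `a ≠ 1` moves a vector of `V₁` -/
theorem moves (D : Dat F π a0 A) {a : H} (ha : a ∈ A) (ha1 : a ≠ 1) : ∃ v ∈ V1 F a0 A, a • v ≠ v := by
  obtain ⟨h, h1, ho, hi, h0, hA, -⟩ := D.mv a ha ha1
  refine ⟨h • a0, fun b hb => ?_, fun e => ?_⟩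
  · obtain ⟨x, hx⟩ := D.act_plane ha h1 ho hi h0 hA hb
    rw [hx, add_sub_cancel_left]
    exact Submodule.smul_mem _ _ (Submodule.mem_span_singleton_self _)
  · rw [D.act_h ha h1 ho hi] at e
    exact D.notMem' ha h1 ho hi 1 (by rw [one_smul]; exact e.symm)

/-- `|A| ≤ |V₁ : C_Q(A)|` -/
theorem card_le (D : Dat F π a0 A) {l : Module.Dual F Q} (hl : l a0 = 1) :
    Nat.card A ≤ (CQ F Q A).toAddSubgroup.relIndex (V1 F a0 A).toAddSubgroup := by
  have hQ := D.finQ
  have e1 : (CQ F Q A).toAddSubgroup.relIndex (V1 F a0 A).toAddSubgroup =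
      Nat.card ((CQ F Q A).comap (V1 F a0 A).subtype).dualAnnihilator := by
    rw [card_annihilator]
    rfl
  rw [e1]
  have hf : Finite (Module.Dual F (V1 F a0 A)) := Module.finite_of_finite F
  let Φ : A → ((CQ F Q A).comap (V1 F a0 A).subtype).dualAnnihilator := fun b =>
    ⟨(fn F l (b : H)).comp (V1 F a0 A).subtype, by
      rw [Submodule.mem_dualAnnihilator]
      intro w hw
      show fn F l (b : H) (w : Q) = 0
      rw [fn_apply, show (b : H) • (w : Q) = w from hw b b.2, sub_self, map_zero]⟩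
  refine Nat.card_le_card_of_injective Φ fun b b' hbb => ?_
  have h1 : ∀ v ∈ V1 F a0 A, (b : H) • v = (b' : H) • v := by
    intro v hv
    have h2 : (fn F l (b : H)) v = fn F l (b' : H) v :=
      congrArg (fun t : ((CQ F Q A).comap (V1 F a0 A).subtype).dualAnnihilator =>
        (t : Module.Dual F (V1 F a0 A)) ⟨v, hv⟩) hbb
    rw [eq_add hl (hv b b.2), eq_add hl (hv b' b'.2), h2]
  by_contra hne
  have h3 : (b' : H)⁻¹ * b ≠ 1 := by
    intro e
    exact hne (Subtype.ext (inv_mul_eq_one.1 e).symm)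
  obtain ⟨v, hv, h4⟩ := D.moves (mul_mem (inv_mem b'.2) b.2) h3
  apply h4
  rw [mul_smul, h1 v hv, inv_smul_smul]

/-- the preimage of `C_Q(A)` -/
def pre (D : Dat F π a0 A) : Subgroup M where
  carrier := {m | π m ∈ CQ F Q A}
  one_mem' := by
    have h1 := D.pmul 1 1
    rw [mul_one] at h1
    have h2 : π 1 = 0 := by
      have := h1.symm
      rwa [add_eq_left] at this
    show π 1 ∈ CQ F Q A
    rw [h2]
    exact zero_mem _
  mul_mem' := fun {m n} hm hn => by
    show π (m * n) ∈ CQ F Q A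
    rw [D.pmul]
    exact add_mem hm hn
  inv_mem' := fun {m} hm => by
    have h1 := D.pmul 1 1
    rw [mul_one] at h1
    have h2 : π 1 = 0 := by
      have := h1.symm
      rwa [add_eq_left] at this
    have h3 := D.pmul m m⁻¹
    rw [mul_inv_cancel, h2] at h3
    show π m⁻¹ ∈ CQ F Q A
    rw [(neg_eq_of_add_eq_zero_right h3.symm).symm]
    exact neg_mem hm

theorem zm_le (D : Dat F π a0 A) : zm M A ≤ D.pre := by
  intro m hm b hb
  rw [← D.act, hm b hb]

theorem index_pre (D : Dat F π a0 A) : D.pre.index = (CQ F Q A).toAddSubgroup.index := by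
  let φ : M →* Multiplicative Q := MonoidHom.mk' (fun m => Multiplicative.ofAdd (π m)) fun m n => by
    rw [D.pmul]; rfl
  have h1 : D.pre = (AddSubgroup.toSubgroup (CQ F Q A).toAddSubgroup).comap φ := rfl
  have h2 : Function.Surjective φ := fun x => D.surj x
  rw [h1, Subgroup.index_comap_of_surjective _ h2]
  rfl

theorem exists_l (D : Dat F π a0 A) : ∃ l : Module.Dual F Q, l a0 = 1 := by
  obtain ⟨f, hf⟩ := Module.Projective.exists_dual_eq_one F D.ne
  exact ⟨f, hf⟩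

/-- all the numbers are equal -/
theorem eqs (D : Dat F π a0 A) : V1 F a0 A = ⊤ ∧ D.pre = zm M A ∧
    Nat.card A = (CQ F Q A).toAddSubgroup.index := by
  have hQ := D.finQ
  obtain ⟨l, hl⟩ := D.exists_l
  have i1 := D.card_le hl
  have i2 := AddSubgroup.relIndex_mul_index (H := (CQ F Q A).toAddSubgroup) (K := (V1 F a0 A).toAddSubgroup) CQ_le
  have i3 : D.pre.index ≤ (zm M A).index := Subgroup.index_antitone D.zm_le
  rw [D.index_pre] at i3
  have i4 := D.ex
  have p1 : 0 < (V1 F a0 A).toAddSubgroup.index := Nat.pos_of_ne_zero AddSubgroup.index_ne_zero_of_finite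
  have p2 : 0 < Nat.card A := Nat.card_pos
  have i5 : (V1 F a0 A).toAddSubgroup.index = 1 := by
    by_contra hne
    have h2 : 2 ≤ (V1 F a0 A).toAddSubgroup.index := by omega
    nlinarith
  refine ⟨?_, ?_, ?_⟩
  · have h3 := AddSubgroup.index_eq_one.1 i5
    exact Submodule.toAddSubgroup_injective h3
  · rw [i5, mul_one] at i2
    have h4 : (zm M A).index = D.pre.index := by
      rw [D.index_pre]
      omega
    have h5 := Subgroup.relIndex_mul_index D.zm_le
    have h6 : (zm M A).relIndex D.pre = 1 := by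
      rw [h4] at h5
      have h7 : 0 < D.pre.index := Nat.pos_of_ne_zero Subgroup.index_ne_zero_of_finite
      exact Nat.eq_of_mul_eq_mul_right h7 (by rw [h5, one_mul])
    exact le_antisymm (Subgroup.relIndex_eq_one.1 h6) D.zm_le
  · rw [i5, mul_one] at i2
    omega

/-- `[Q, A] ≤ F a₀` -/
theorem le (D : Dat F π a0 A) {b : H} (hb : b ∈ A) (v : Q) : b • v - v ∈ Submodule.span F {a0} := by
  have h1 : v ∈ V1 F a0 A := by rw [D.eqs.1]; exact Submodule.mem_top
  exact h1 b hb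

/-- `C_M(A)` is the full preimage of `C_Q(A)` -/
theorem fixM (D : Dat F π a0 A) {m : M} (hm : ∀ b ∈ A, b • π m = π m) : m ∈ zm M A := by
  rw [← D.eqs.2.1]
  exact hm

theorem fixK (D : Dat F π a0 A) {m : M} (hm : π m = 0) {b : H} (hb : b ∈ A) : b • m = m :=
  D.fixM (fun b _ => by rw [hm, smul_zero]) b hb

/-- `A` is faithful on `Q` -/
theorem inj (D : Dat F π a0 A) {b : H} (hb : b ∈ A) (h : ∀ v : Q, b • v = v) : b = 1 := by
  by_contra h1
  obtain ⟨v, -, hv⟩ := D.moves hb h1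
  exact hv (h v)

/-- `A` = all homomorphisms `Q / C_Q(A) → F a₀` -/
theorem all (D : Dat F π a0 A) (φ : Module.Dual F Q) (hφ : ∀ v, (∀ b ∈ A, b • v = v) → φ v = 0) :
    ∃ a ∈ A, ∀ v : Q, a • v = v + φ v • a0 := by
  have hQ := D.finQ
  obtain ⟨l, hl⟩ := D.exists_l
  have hf : Finite (Module.Dual F Q) := Module.finite_of_finite F
  let Φ : A → (CQ F Q A).dualAnnihilator := fun b => ⟨fn F l (b : H), by
      rw [Submodule.mem_dualAnnihilator]
      intro w hw
      rw [fn_apply, show (b : H) • (w : Q) = w from hw b b.2, sub_self, map_zero]⟩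
  have hinj : Function.Injective Φ := by
    intro b b' hbb
    have h1 : ∀ v : Q, (b : H) • v = (b' : H) • v := by
      intro v
      have h2 : (fn F l (b : H)) v = fn F l (b' : H) v :=
        congrArg (fun t : (CQ F Q A).dualAnnihilator => (t : Module.Dual F Q) v) hbb
      rw [eq_add hl (D.le b.2 v), eq_add hl (D.le b'.2 v), h2]
    have h3 : (b' : H)⁻¹ * b = 1 := D.inj (mul_mem (inv_mem b'.2) b.2) fun v => by
      rw [mul_smul, h1 v, inv_smul_smul]
    exact Subtype.ext (inv_mul_eq_one.1 h3).symm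
  have hcard : Nat.card A = Nat.card (CQ F Q A).dualAnnihilator := by rw [card_annihilator, D.eqs.2.2]
  have hb : Function.Bijective Φ := (Nat.bijective_iff_injective_and_card Φ).2 ⟨hinj, hcard⟩
  obtain ⟨a, ha⟩ := hb.2 ⟨φ, by
    rw [Submodule.mem_dualAnnihilator]
    exact fun w hw => hφ w hw⟩
  refine ⟨a, a.2, fun v => ?_⟩
  have h4 : fn F l (a : H) = φ := congrArg Subtype.val ha
  rw [eq_add hl (D.le a.2 v), h4]

/-! ### `θ` -/

theorem theta0 (D : Dat F π a0 A) (hA : A ≠ ⊥) {c : F} (hc : c ≠ 0) :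
    ∃ θ : H, (∀ m, π m = 0 → θ • m = m) ∧ θ • a0 = c • a0 := by
  obtain ⟨l, hl⟩ := D.exists_l
  obtain ⟨⟨a, ha⟩, ha1⟩ := Subgroup.ne_bot_iff_exists_ne_one.1 hA
  have ha1' : a ≠ 1 := fun e => ha1 (Subtype.ext e)
  obtain ⟨h, h1, ho, hi, h0, hP, hh⟩ := D.mv a ha ha1'
  set φ := fn F l a with hφd
  have hφ : ∀ v, a • v = v + φ v • a0 := fun v => eq_add hl (D.le ha v)
  have hφ0 : φ a0 = 0 := by rw [hφd, fn_apply, D.fix a ha, sub_self, map_zero]
  have hφ1 : φ (h • a0) ≠ 0 := by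
    intro e
    have h2 := hφ (h • a0)
    rw [e, zero_smul, add_zero, D.act_h ha h1 ho hi] at h2
    exact D.notMem' ha h1 ho hi 1 (by rw [one_smul]; exact h2.symm)
  have hφ2 : φ (h⁻¹ • a0) ≠ 0 := by
    intro e
    have h2 := hφ (h⁻¹ • a0)
    rw [e, zero_smul, add_zero, D.act_h' ha h1 ho hi] at h2
    exact D.notMem' ha h1 ho hi 1 (by rw [one_smul]; exact h2)
  have hu : ∀ x : F, ∃ b ∈ A, ∀ v : Q, b • v = v + (x * φ v) • a0 := fun x =>
    D.all (x • φ) fun v hv => by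
      show x • φ v = 0
      rw [hφd, fn_apply, hv a ha, sub_self, map_zero, smul_zero]
  -- `u(s) : h a₀ ↦ h a₀ + s a₀`
  have hU : ∀ s : F, ∃ u : H, (∀ m, π m = 0 → u • m = m) ∧ u • a0 = a0 ∧ u • h • a0 = h • a0 + s • a0 := by
    intro s
    obtain ⟨b, hb, hb'⟩ := hu (s * (φ (h • a0))⁻¹)
    refine ⟨b, fun m hm => D.fixK hm hb, D.fix b hb, ?_⟩
    rw [hb', mul_assoc, inv_mul_cancel₀ hφ1, mul_one]
  -- `w(t) : a₀ ↦ a₀ + t h a₀`
  have hL : ∀ t : F, ∃ w : H, (∀ m, π m = 0 → w • m = m) ∧ w • a0 = a0 + t • h • a0 ∧ w • h • a0 = h • a0 := by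
    intro t
    obtain ⟨b, hb, hb'⟩ := hu (t * (φ (h⁻¹ • a0))⁻¹)
    refine ⟨h * b * h⁻¹, fun m hm => ?_, ?_, ?_⟩
    · have h3 : π (h⁻¹ • m) = 0 := by rw [D.act, hm, smul_zero]
      rw [mul_smul, mul_smul, D.fixK h3 hb, smul_inv_smul]
    · rw [mul_smul, mul_smul, hb', mul_assoc, inv_mul_cancel₀ hφ2, mul_one, smul_add, smul_inv_smul, smul_comm h t]
    · rw [mul_smul, mul_smul, inv_smul_smul, hb', hφ0, mul_zero, zero_smul, add_zero]
  obtain ⟨w1, hw1, hw2, hw3⟩ := hL 1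
  obtain ⟨u, hu1, hu2, hu3⟩ := hU (c - 1)
  obtain ⟨w2, hw4, hw5, hw6⟩ := hL (-c⁻¹)
  refine ⟨w2 * u * w1, fun m hm => ?_, ?_⟩
  · rw [mul_smul, mul_smul, hw1 m hm, hu1 m hm, hw4 m hm]
  · have e1 : (w2 * u * w1) • a0 = w2 • ((1 + (c - 1)) • a0 + h • a0) := by
      rw [mul_smul, mul_smul, hw2, smul_add, one_smul, hu2, hu3, add_smul, one_smul]
      congr 1
      abel
    rw [e1, smul_add, hw6, smul_comm w2, hw5, add_sub_cancel, smul_add, smul_smul, mul_neg, mul_inv_cancel₀ hc,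
      neg_smul, one_smul, neg_add_cancel_right]

theorem pow_smul_eq {g : H} {c : F} (hg : g • a0 = c • a0) (n : ℕ) : g ^ n • a0 = c ^ n • a0 := by
  induction n with
  | zero => rw [pow_zero, pow_zero, one_smul, one_smul]
  | succ n ih => rw [pow_succ', mul_smul, ih, smul_comm, hg, smul_smul, pow_succ]

/-- **`θ`** : for `c ≠ 0` there is `θ` of odd order, trivial on `ker π`, with `θ a₀ = c a₀`. -/
theorem theta (D : Dat F π a0 A) (hA : A ≠ ⊥) {c : F} (hc : c ≠ 0) :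
    ∃ θ : H, Odd (orderOf θ) ∧ (∀ m, π m = 0 → θ • m = m) ∧ θ • a0 = c • a0 := by
  obtain ⟨k, m, hm, hkm⟩ := Nat.exists_eq_two_pow_mul_odd (n := Nat.card H) Nat.card_pos.ne'
  obtain ⟨c0, hc0⟩ := (bijective_iterateFrobenius F 2 k).2 c
  rw [iterateFrobenius_def] at hc0
  have hc1 : c0 ≠ 0 := by
    rintro rfl
    apply hc
    rw [← hc0, zero_pow (pow_ne_zero _ two_ne_zero)]
  obtain ⟨θ, h1, h2⟩ := D.theta0 hA hc1
  refine ⟨θ ^ 2 ^ k, ?_, fun n hn => ?_, ?_⟩
  · have h3 : (θ ^ 2 ^ k) ^ m = 1 := by rw [← pow_mul, ← hkm, pow_card_eq_one']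
    exact hm.of_dvd_nat (orderOf_dvd_of_pow_eq_one h3)
  · have : ∀ j : ℕ, θ ^ j • n = n := by
      intro j
      induction j with
      | zero => rw [pow_zero, one_smul]
      | succ j ih => rw [pow_succ', mul_smul, ih, h1 n hn]
    exact this _
  · rw [pow_smul_eq h2, hc0]

end main

end Dat

end Cfsg.Agent.Omega.NO3S.FullQ.Cnt
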