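import Mathlib

/-!
# NO-3S, `FullB`, `q ≥ 4`, class P (helper471 #21459, section 5): the count

`R = [W_p, W_q]` (written additively); `a : R →+ F` is the coordinate of `R` modulo `N⁺` on `λ`, `b : R →+ M` the
`C₀`-part (`b r = r̄ + s(a r)`), `a'`, `b'` the same for the other side. A commutator `β x y` (`x ∈ W_p`, `y ∈ W_q`) has
`a = φ x · ψ y`, `b = k ((φ x)² · ψ y)`.

* `exists_u` : some `u ≠ 0` in `R` has `b' u = 0` (`u ∈ V_ln`) and `a u = 0` (`ū ∈ N⁺`);
* `no_mover` : the end for `n ≥ 3`.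
-/

set_option autoImplicit false
set_option linter.unusedSectionVars false

namespace Cfsg.Agent.Omega.NO3S.FullQ

section Count

variable {F : Type*} [Field F] [Finite F] {R M M' X Y : Type*} [AddCommGroup R] [Finite R] [AddCommGroup M]
  [AddCommGroup M']

theorem exists_split (h4 : 4 ≤ Nat.card F) (t : F) : ∃ t₁ t₂ : F, t₁ ≠ 0 ∧ t₂ ≠ 0 ∧ t₁ + t₂ = t := by
  obtain ⟨c, hc0, hc1⟩ : ∃ c : F, c ≠ 0 ∧ c ≠ t := by
    by_contra hc
    push Not at hc
    have h5 : (Set.univ : Set F) ⊆ {0, t} := fun x _ => by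
      by_cases hx : x = 0
      · exact Or.inl hx
      · exact Or.inr (hc x hx)
    have h6 := Set.ncard_le_ncard h5 (Set.toFinite _)
    rw [Set.ncard_univ] at h6
    have h7 := Set.ncard_insert_le (0 : F) {t}
    rw [Set.ncard_singleton] at h7
    omega
  exact ⟨c, t - c, hc0, fun e => hc1 (sub_eq_zero.mp e).symm, by ring⟩

/-- `(a, b)` is onto `F × im k` -/
theorem ab_surj (h4 : 4 ≤ Nat.card F) (a : R →+ F) (b : R →+ M) (k : F →+ M) (β : X → Y → R) (φ : X → F) (ψ : Y → F)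
    (hs : ∀ x y : F, ∃ p q, φ p = x ∧ ψ q = y) (ha : ∀ p q, a (β p q) = φ p * ψ q)
    (hb : ∀ p q, b (β p q) = k (φ p ^ 2 * ψ q)) (t r : F) : ∃ u, a u = t ∧ b u = k r := by
  have key : ∀ t r : F, t ≠ 0 → r ≠ 0 → ∃ u, a u = t ∧ b u = k r := by
    intro t r ht hr
    obtain ⟨p, q, hp, hq⟩ := hs (r / t) (t ^ 2 / r)
    refine ⟨β p q, ?_, ?_⟩
    · rw [ha, hp, hq]; field_simp
    · rw [hb, hp, hq]; congr 1; field_simp
  obtain ⟨t₁, t₂, h1, h2, h3⟩ := exists_split h4 t
  obtain ⟨r₁, r₂, g1, g2, g3⟩ := exists_split h4 r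
  obtain ⟨u₁, a1, b1⟩ := key t₁ r₁ h1 g1
  obtain ⟨u₂, a2, b2⟩ := key t₂ r₂ h2 g2
  exact ⟨u₁ + u₂, by rw [map_add, a1, a2, h3], by rw [map_add, b1, b2, ← map_add, g3]⟩

/-- `|F| |im k| ≤ |R|`, with equality only if `(a, b)` is injective -/
theorem card_ge (h4 : 4 ≤ Nat.card F) (a : R →+ F) (b : R →+ M) (k : F →+ M) (β : X → Y → R) (φ : X → F) (ψ : Y → F)
    (hs : ∀ x y : F, ∃ p q, φ p = x ∧ ψ q = y) (ha : ∀ p q, a (β p q) = φ p * ψ q)
    (hb : ∀ p q, b (β p q) = k (φ p ^ 2 * ψ q)) (hgen : ∀ u, ∃ r, b u = k r) :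
    Nat.card F * Nat.card k.range ≤ Nat.card R ∧
      (Nat.card R ≤ Nat.card F * Nat.card k.range → ∀ u, a u = 0 → b u = 0 → u = 0) := by
  let g : R → F × k.range := fun u => (a u, ⟨b u, by obtain ⟨r, hr⟩ := hgen u; exact ⟨r, hr.symm⟩⟩)
  have hgs : Function.Surjective g := by
    rintro ⟨t, ⟨_, r, rfl⟩⟩
    obtain ⟨u, h1, h2⟩ := ab_surj h4 a b k β φ ψ hs ha hb t r
    exact ⟨u, Prod.ext h1 (Subtype.ext h2)⟩
  have : Finite k.range := Set.finite_range k
  refine ⟨?_, fun hle u hu hu' => ?_⟩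
  · rw [← Nat.card_prod]
    exact Nat.card_le_card_of_surjective g hgs
  · have hcard : Nat.card R = Nat.card (F × k.range) := by
      rw [Nat.card_prod]
      refine le_antisymm hle ?_
      rw [← Nat.card_prod]
      exact Nat.card_le_card_of_surjective g hgs
    have hb' : Function.Bijective g :=
      (Nat.bijective_iff_surjective_and_card g).mpr ⟨hgs, hcard⟩
    apply hb'.1
    refine Prod.ext ?_ (Subtype.ext ?_)
    · show a u = a 0
      rw [hu, map_zero]
    · show b u = b 0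
      rw [hu', map_zero]

/-- **section 5 of #21459**: `R ∩ V_ln` contains `u ≠ 1` with `ū ∈ N⁺` -/
theorem exists_u (h4 : 4 ≤ Nat.card F) (a a' : R →+ F) (b : R →+ M) (b' : R →+ M') (k : F →+ M) (k' : F →+ M')
    (β : X → Y → R) (φ ψ' : X → F) (ψ φ' : Y → F)
    (hgen : AddSubgroup.closure {u | ∃ x y, u = β x y} = ⊤)
    (hs : ∀ x y : F, ∃ p q, φ p = x ∧ ψ q = y) (ha : ∀ p q, a (β p q) = φ p * ψ q)
    (hb : ∀ p q, b (β p q) = k (φ p ^ 2 * ψ q))
    (hs' : ∀ x y : F, ∃ q p, φ' q = x ∧ ψ' p = y) (ha' : ∀ p q, a' (β p q) = φ' q * ψ' p)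
    (hb' : ∀ p q, b' (β p q) = k' (φ' q ^ 2 * ψ' p))
    (inj : ∀ u, b u = 0 → b' u = 0 → u = 0) : ∃ u, u ≠ 0 ∧ b' u = 0 ∧ a u = 0 := by
  have gb : ∀ u, ∃ r, b u = k r := by
    intro u
    have hu : u ∈ AddSubgroup.closure {u | ∃ x y, u = β x y} := by rw [hgen]; trivial
    refine AddSubgroup.closure_induction (p := fun u _ => ∃ r, b u = k r) ?_ ?_ ?_ ?_ hu
    · rintro _ ⟨x, y, rfl⟩; exact ⟨_, hb x y⟩
    · exact ⟨0, by rw [map_zero, map_zero]⟩
    · rintro x y - - ⟨r, hr⟩ ⟨r', hr'⟩; exact ⟨r + r', by rw [map_add, map_add, hr, hr']⟩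
    · rintro x - ⟨r, hr⟩; exact ⟨-r, by rw [map_neg, map_neg, hr]⟩
  have gb' : ∀ u, ∃ r, b' u = k' r := by
    intro u
    have hu : u ∈ AddSubgroup.closure {u | ∃ x y, u = β x y} := by rw [hgen]; trivial
    refine AddSubgroup.closure_induction (p := fun u _ => ∃ r, b' u = k' r) ?_ ?_ ?_ ?_ hu
    · rintro _ ⟨x, y, rfl⟩; exact ⟨_, hb' x y⟩
    · exact ⟨0, by rw [map_zero, map_zero]⟩
    · rintro x y - - ⟨r, hr⟩ ⟨r', hr'⟩; exact ⟨r + r', by rw [map_add, map_add, hr, hr']⟩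
    · rintro x - ⟨r, hr⟩; exact ⟨-r, by rw [map_neg, map_neg, hr]⟩
  let β' : Y → X → R := fun y x => β x y
  obtain ⟨c1, i1⟩ := card_ge h4 a b k β φ ψ hs ha hb gb
  obtain ⟨c2, i2⟩ := card_ge h4 a' b' k' β' φ' ψ' hs' (fun p q => ha' q p) (fun p q => hb' q p) gb'
  have : Finite k.range := Set.finite_range k
  have : Finite k'.range := Set.finite_range k'
  -- `|R| ≤ |im k| |im k'|`
  have c3 : Nat.card R ≤ Nat.card k.range * Nat.card k'.range := by
    rw [← Nat.card_prod]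
    let g : R → k.range × k'.range := fun u =>
      (⟨b u, by obtain ⟨r, hr⟩ := gb u; exact ⟨r, hr.symm⟩⟩, ⟨b' u, by obtain ⟨r, hr⟩ := gb' u; exact ⟨r, hr.symm⟩⟩)
    refine Nat.card_le_card_of_injective g fun u v huv => ?_
    have h1 : b u = b v := congrArg (fun z : k.range × k'.range => (z.1 : M)) huv
    have h2 : b' u = b' v := congrArg (fun z : k.range × k'.range => (z.2 : M')) huv
    rw [← sub_eq_zero]
    exact inj _ (by rw [map_sub, h1, sub_self]) (by rw [map_sub, h2, sub_self])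
  have c4 : Nat.card k.range ≤ Nat.card F :=
    Nat.card_le_card_of_surjective k.rangeRestrict k.rangeRestrict_surjective
  have c5 : Nat.card k'.range ≤ Nat.card F :=
    Nat.card_le_card_of_surjective k'.rangeRestrict k'.rangeRestrict_surjective
  have p1 : 0 < Nat.card k.range := Nat.card_pos
  have p2 : 0 < Nat.card k'.range := Nat.card_pos
  have p3 : 0 < Nat.card F := by omega
  have e1 : Nat.card k.range = Nat.card F := by
    refine le_antisymm c4 ?_
    have : Nat.card F * Nat.card k'.range ≤ Nat.card k.range * Nat.card k'.range := c2.trans c3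
    exact Nat.le_of_mul_le_mul_right this p2
  have e2 : Nat.card k'.range = Nat.card F := by
    refine le_antisymm c5 ?_
    have : Nat.card F * Nat.card k.range ≤ Nat.card k.range * Nat.card k'.range := c1.trans c3
    rw [mul_comm] at this
    exact Nat.le_of_mul_le_mul_left this p1
  have j1 := i1 (by rw [e1, e2] at c3; rw [e1]; exact c3)
  have j2 := i2 (by rw [e1, e2] at c3; rw [e2]; exact c3)
  have kinj : ∀ r, k' r = 0 → r = 0 := by
    have hb2 : Function.Bijective k'.rangeRestrict :=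
      (Nat.bijective_iff_surjective_and_card _).mpr ⟨k'.rangeRestrict_surjective, e2.symm⟩
    intro r hr
    apply hb2.1
    apply Subtype.ext
    show k' r = k' 0
    rw [hr, map_zero]
  obtain ⟨u, hu1, hu2⟩ := ab_surj h4 a' b' k' β' φ' ψ' hs' (fun p q => ha' q p) (fun p q => hb' q p) 1 0
  rw [map_zero] at hu2
  refine ⟨u, fun e => ?_, hu2, ?_⟩
  · rw [e, map_zero] at hu1
    exact zero_ne_one hu1
  · by_contra ht
    obtain ⟨r, hr⟩ := gb u
    have hr0 : r ≠ 0 := by
      rintro rfl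
      rw [map_zero] at hr
      have h0 := inj u hr hu2
      rw [h0, map_zero] at ht
      exact ht rfl
    obtain ⟨p, q, hp, hq⟩ := hs (r / a u) (a u ^ 2 / r)
    have h1 : u = β p q := by
      rw [← sub_eq_zero]
      apply j1
      · rw [map_sub, ha, hp, hq, sub_eq_zero]; field_simp
      · rw [map_sub, hb, hp, hq, hr, sub_eq_zero]; congr 1; field_simp
    rw [h1, hb'] at hu2
    rw [h1, ha'] at hu1
    have h2 := kinj _ hu2
    rcases mul_eq_zero.mp h2 with h3 | h3
    · rw [pow_eq_zero_iff two_ne_zero] at h3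
      rw [h3, zero_mul] at hu1; exact zero_ne_one hu1
    · rw [h3, mul_zero] at hu1; exact zero_ne_one hu1

end Count

section End

variable {G : Type*} [Group G]

/-- the end of class P (`n ≥ 3`): `u ∈ R ∩ V_ln`, `ū ∈ N⁺`, `f` a mover inverting `h` -/
theorem no_mover {f h u : G} (hf2 : f * f = 1) (ho : Odd (orderOf h)) (hi : f * h * f⁻¹ = h⁻¹)
    (hfu : f * u = u * f) (hup : ∃ r, h * u * h⁻¹ = u * r ∧ (h * f * h⁻¹) * r = r * (h * f * h⁻¹))
    (hcom : h * u * h⁻¹ = u → f * (h * f * h⁻¹) = (h * f * h⁻¹) * f) : h = 1 := by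
  have hfi : f⁻¹ = f := inv_eq_of_mul_eq_one_left hf2
  -- `(h f h⁻¹) f = h²`
  have e1 : (h * f * h⁻¹) * f = h * h := by
    have : f * h⁻¹ * f = h := by
      have h1 : f * h⁻¹ * f⁻¹ = h := by
        have h2 := congrArg (·⁻¹) hi
        simp only [mul_inv_rev, inv_inv] at h2
        rw [mul_assoc]; exact h2
      rw [hfi] at h1; exact h1
    calc (h * f * h⁻¹) * f = h * (f * h⁻¹ * f) := by group
      _ = h * h := by rw [this]
  obtain ⟨r, hr1, hr2⟩ := hup
  -- `h f h⁻¹` centralises `u`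
  have h3 : (h * f * h⁻¹) * u = u * (h * f * h⁻¹) := by
    have h4 : (h * f * h⁻¹) * (h * u * h⁻¹) = (h * u * h⁻¹) * (h * f * h⁻¹) := by
      calc (h * f * h⁻¹) * (h * u * h⁻¹) = h * (f * u) * h⁻¹ := by group
        _ = h * (u * f) * h⁻¹ := by rw [hfu]
        _ = _ := by group
    rw [hr1, ← mul_assoc, mul_assoc u r, ← hr2, ← mul_assoc] at h4
    exact mul_right_cancel h4
  have h5 : (h * h) * u = u * (h * h) := by
    rw [← e1, mul_assoc, hfu, ← mul_assoc, h3, mul_assoc]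
  have key : ∀ x : G, (h * h) * x = x * (h * h) → h * x = x * h := by
    intro x hx
    obtain ⟨m, hm⟩ := ho
    have h6 : h = (h * h) ^ (m + 1) := by
      rw [← pow_two, ← pow_mul, show 2 * (m + 1) = orderOf h + 1 by omega, pow_succ, pow_orderOf_eq_one, one_mul]
    have h7 : Commute (h * h) x := hx
    have h8 := h7.pow_left (m + 1)
    rw [← h6] at h8
    exact h8
  have h9 := key u h5
  have h10 := hcom (by rw [h9, mul_inv_cancel_right])
  have h11 : f * (h * h) = (h * h) * f := by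
    calc f * (h * h) = f * ((h * f * h⁻¹) * f) := by rw [e1]
      _ = (f * (h * f * h⁻¹)) * f := by group
      _ = ((h * f * h⁻¹) * f) * f := by rw [h10]
      _ = (h * h) * f := by rw [e1]
  have h12 := key f h11.symm
  rw [← h12, mul_inv_cancel_right] at hi
  -- `h = h⁻¹`
  have h13 : h * h = 1 := by
    nth_rw 1 [hi]; exact inv_mul_cancel h
  have h14 := orderOf_dvd_of_pow_eq_one (x := h) (n := 2) (by rw [pow_two]; exact h13)
  have h15 : orderOf h = 1 := by
    rcases (Nat.dvd_prime Nat.prime_two).mp h14 with e | e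
    · exact e
    · rw [e] at ho; exact absurd ho (by decide)
  exact orderOf_eq_one_iff.mp h15

end End

end Cfsg.Agent.Omega.NO3S.FullQ
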