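import Cfsg.Agent.Omega.NO3S.FullQ.Base
import Cfsg.Agent.Omega.NO3S.FarQ.Syl
import Cfsg.Agent.Omega.ML.Final

/-!
# NO-3S, `q ≥ 4`: (NO+) from (ML) (helper471 #21459)

`C` a K-group acting on the elementary abelian 2-group `V`, `T` a Sylow 2-subgroup of `C`, `s` a finite set of vectors
fixed by `T`, `A ≤ O₂(C_C(z))` for all `z ∈ s`, `U = ⟨s^C⟩`: **`|A : C_A(U)| ≤ |U : C_U(A)|`** (`no_plus`).

* `quoM N hN` : the action on `M / N`; `cvm N D = {m | [m, D] ≤ N}`;
* `no_step` : one vector, modulo `U₁`.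
-/

set_option autoImplicit false
set_option linter.unusedSectionVars false

namespace Cfsg.Agent.Omega.NO3S.FullQ

open Subgroup Cfsg Cfsg.Agent.ZN Cfsg.Agent.MinSimple.VModule Cfsg.Agent.Omega.NO3S.FarQ
open Cfsg.Agent.Omega.ML.MinFrame Cfsg.Agent.Omega.ML.Final
open Cfsg.Agent.ClassTwoFusion.Quad (cv mem_cv cv_anti)

universe u v

section quo

variable {H M : Type*} [Group H] [CommGroup M] [MulDistribMulAction H M]

/-- the action on `M / N` -/
@[reducible] def quoM (N : Subgroup M) (hN : HInv H N) : MulDistribMulAction H (M ⧸ N) where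
  smul h := QuotientGroup.map N N (MulDistribMulAction.toMonoidHom M h) fun n hn => hN h n hn
  one_smul := by
    rintro ⟨m⟩
    exact congrArg (QuotientGroup.mk (s := N)) (one_smul H m)
  mul_smul := by
    rintro g h ⟨m⟩
    exact congrArg (QuotientGroup.mk (s := N)) (mul_smul g h m)
  smul_mul h x y := map_mul (QuotientGroup.map N N (MulDistribMulAction.toMonoidHom M h) fun n hn => hN h n hn) x y
  smul_one h := map_one (QuotientGroup.map N N (MulDistribMulAction.toMonoidHom M h) fun n hn => hN h n hn)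

/-- `{m | [m, D] ≤ N}` -/
def cvm (N : Subgroup M) (hN : HInv H N) (D : Subgroup H) : Subgroup M where
  carrier := {m | ∀ d ∈ D, (d • m) * m⁻¹ ∈ N}
  one_mem' := fun d _ => by rw [smul_one, inv_one, mul_one]; exact one_mem _
  mul_mem' := by
    intro a b ha hb d hd
    have e : d • (a * b) * (a * b)⁻¹ = ((d • a) * a⁻¹) * ((d • b) * b⁻¹) := by
      rw [smul_mul', mul_inv]
      exact mul_mul_mul_comm _ _ _ _
    rw [e]
    exact mul_mem (ha d hd) (hb d hd)
  inv_mem' := by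
    intro a ha d hd
    have e : d • a⁻¹ * a⁻¹⁻¹ = ((d • a) * a⁻¹)⁻¹ := by rw [smul_inv', mul_inv]
    rw [e]
    exact inv_mem (ha d hd)

theorem mem_cvm {N : Subgroup M} {hN : HInv H N} {D : Subgroup H} {m : M} :
    m ∈ cvm N hN D ↔ ∀ d ∈ D, (d • m) * m⁻¹ ∈ N := Iff.rfl

theorem zm_le_cvm {N : Subgroup M} {hN : HInv H N} {D : Subgroup H} : zm M D ≤ cvm N hN D := by
  intro m hm d hd
  rw [mem_cv.1 hm d hd, mul_inv_cancel]
  exact one_mem _

theorem le_cvm {N : Subgroup M} {hN : HInv H N} {D : Subgroup H} : N ≤ cvm N hN D := fun _ hn d _ =>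
  mul_mem (hN d _ hn) (inv_mem hn)

end quo

section step

variable {C : Type u} [Group C] [Finite C] {V : Type v} [CommGroup V] [Finite V] [MulDistribMulAction C V]
variable {T D A : Subgroup C} {U₁ : Subgroup V} {z : V}

theorem orb_inv (z : V) : HInv C (orb (⊤ : Subgroup C) z) := fun g _ hm => smul_mem_orb (mem_top g) hm

/-- a subgroup of `C_C(U₁)` acting trivially on `U / U₁`, `U = U₁ ⟨z^C⟩`, acts trivially on `U` -/
theorem fix_of_quo (sq : ∀ v : V, v * v = 1) (two : IsPGroup 2 T) (odd : ¬ 2 ∣ T.index) (hU : HInv C U₁)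
    (hz : ∀ t ∈ T, t • z = z) {e : C} (he : ∀ u ∈ U₁, e • u = u)
    (he' : ∀ g : C, (e • g • z) * (g • z)⁻¹ ∈ U₁) (g : C) : e • g • z = g • z := by
  -- the normal subgroup `E` of all these elements
  let E : Subgroup C :=
    { carrier := {e | (∀ u ∈ U₁, e • u = u) ∧ ∀ g : C, (e • g • z) * (g • z)⁻¹ ∈ U₁}
      one_mem' := ⟨fun u _ => one_smul C u, fun g => by rw [one_smul, mul_inv_cancel]; exact one_mem _⟩
      mul_mem' := by
        rintro a b ⟨ha, ha'⟩ ⟨hb, hb'⟩
        refine ⟨fun u hu => by rw [mul_smul, hb u hu, ha u hu], fun g => ?_⟩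
        have e1 : (a * b) • g • z * (g • z)⁻¹ = (a • ((b • g • z) * (g • z)⁻¹)) * ((a • g • z) * (g • z)⁻¹) := by
          rw [smul_mul', smul_inv', mul_smul]
          group
        rw [e1, ha _ (hb' g)]
        exact mul_mem (hb' g) (ha' g)
      inv_mem' := by
        rintro a ⟨ha, ha'⟩
        have h1 : ∀ u ∈ U₁, a⁻¹ • u = u := fun u hu => by rw [inv_smul_eq_iff, ha u hu]
        refine ⟨h1, fun g => ?_⟩
        have h2 := h1 _ (ha' g)
        rw [smul_mul', inv_smul_smul, smul_inv'] at h2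
        have h3 := inv_mem (ha' g)
        rw [← h2, mul_inv_rev, inv_inv] at h3
        exact h3 }
  have hE : ∀ (x : C), x ∈ E ↔ (∀ u ∈ U₁, x • u = u) ∧ ∀ g : C, (x • g • z) * (g • z)⁻¹ ∈ U₁ := fun _ => Iff.rfl
  have hn : E.Normal := ⟨fun x hx k => by
    refine ⟨fun u hu => ?_, fun g => ?_⟩
    · rw [mul_smul, mul_smul, hx.1 _ (hU k⁻¹ u hu), smul_inv_smul]
    · have h1 := hU k _ (hx.2 (k⁻¹ * g))
      rw [smul_mul', smul_inv', mul_smul, smul_inv_smul] at h1
      rw [mul_smul, mul_smul]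
      exact h1⟩
  -- the homomorphism `x ↦ [x, z]`
  let φ : E →* V := MonoidHom.mk' (fun x => ((x : C) • z) * z⁻¹) (by
    intro a b
    have h1 := b.2.2 1
    rw [one_smul] at h1
    have h2 := a.2.1 _ h1
    rw [smul_mul', smul_inv', ← mul_smul] at h2
    show ((a * b : C) • z) * z⁻¹ = _
    rw [mul_comm (((a : C) • z) * z⁻¹), ← h2]
    group)
  have hker : Odd φ.ker.index := by
    have h1 : T.subgroupOf E ≤ φ.ker := by
      intro x hx
      rw [MonoidHom.mem_ker]
      show ((x : C) • z) * z⁻¹ = 1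
      rw [hz _ (mem_subgroupOf.1 hx), mul_inv_cancel]
    have h2 : ¬ 2 ∣ T.relIndex E := by
      have h4 : T ≤ normalizer (E : Set C) := by rw [normalizer_eq_top_iff.2 hn]; exact le_top
      have h5 := syl_of (S := T) (K := E) h4 (by
        intro h
        apply odd
        have h6 : T.relIndex (E ⊔ T) * (E ⊔ T).index = T.index := relIndex_mul_index le_sup_right
        rw [← h6]
        exact h.mul_right _)
      rwa [inf_relIndex_right] at h5
    rw [← Nat.not_even_iff_odd, even_iff_two_dvd]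
    intro h
    apply h2
    have h3 : (T.subgroupOf E).relIndex φ.ker * φ.ker.index = (T.subgroupOf E).index := relIndex_mul_index h1
    show 2 ∣ (T.subgroupOf E).index
    rw [← h3]
    exact h.mul_left _
  have hrange : φ.range = ⊥ := by
    rw [← card_eq_one]
    have h1 : Nat.card φ.range = φ.ker.index := (index_ker φ).symm
    have h2 : IsPGroup 2 φ.range := fun x => ⟨1, by rw [pow_one, pow_two]; exact Subtype.ext (sq x)⟩
    have hf : Fact (Nat.Prime 2) := ⟨Nat.prime_two⟩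
    obtain ⟨k, hk⟩ := IsPGroup.iff_card.1 h2
    rw [hk]
    rw [h1] at hk
    rw [hk] at hker
    rcases Nat.eq_zero_or_pos k with h3 | h3
    · rw [h3, pow_zero]
    · exfalso
      rw [← Nat.not_even_iff_odd] at hker
      exact hker ((Nat.even_pow.2 ⟨even_two, h3.ne'⟩))
  have hfix : ∀ x ∈ E, x • z = z := by
    intro x hx
    have h1 : φ ⟨x, hx⟩ ∈ φ.range := ⟨_, rfl⟩
    rw [hrange, mem_bot] at h1
    exact mul_inv_eq_one.1 h1
  have he1 : e ∈ E := ⟨he, he'⟩
  have h1 := hfix _ (hn.conj_mem e he1 g⁻¹)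
  rw [inv_inv, mul_smul, mul_smul, inv_smul_eq_iff] at h1
  exact h1

/-- **one step of (NO+)** -/
theorem no_step (hML : MLK.{u, v}) (hK : IsKGroup C) (sq : ∀ v : V, v * v = 1) (two : IsPGroup 2 T)
    (odd : ¬ 2 ∣ T.index) (hU : HInv C U₁) (hz : ∀ t ∈ T, t • z = z) (hDz : D ≤ o2 (MulAction.stabilizer C z))
    (hDU : ∀ d ∈ D, ∀ u ∈ U₁, d • u = u) (hD2 : ∀ d ∈ D, d * d = 1) :
    (D ⊓ fixer (U₁ ⊔ orb (⊤ : Subgroup C) z)).relIndex D ≤
      (cvm U₁ hU D).relIndex (U₁ ⊔ orb (⊤ : Subgroup C) z) := by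
  let _ := quoM U₁ hU
  have hmk : ∀ (g : C) (v : V), g • (QuotientGroup.mk v : V ⧸ U₁) = QuotientGroup.mk (g • v) := fun _ _ => rfl
  have hmk1 : ∀ a b : V, (QuotientGroup.mk a : V ⧸ U₁) = QuotientGroup.mk b ↔ a * b⁻¹ ∈ U₁ := by
    intro a b
    rw [eq_comm, QuotientGroup.eq, mul_comm]
  -- `Q = O₂(C_Y(z))`, `Y = C_C(U₁)`
  set Yz : Subgroup C := fixer U₁ ⊓ MulAction.stabilizer C z with hYz
  have hconj : ∀ g : C, (g • z) * z⁻¹ ∈ U₁ → ∀ y ∈ Yz, g * y * g⁻¹ ∈ Yz := by
    intro g hg y hy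
    have hy2 : y • z = z := hy.2
    have hg' : (g⁻¹ • z) * z⁻¹ ∈ U₁ := by
      have h1 := inv_mem (hU g⁻¹ _ hg)
      rw [smul_mul', inv_smul_smul, smul_inv', mul_inv_rev, inv_inv] at h1
      exact h1
    refine Subgroup.mem_inf.2 ⟨fun u hu => ?_, ?_⟩
    · rw [mul_smul, mul_smul, hy.1 _ (hU g⁻¹ u hu), smul_inv_smul]
    · show (g * y * g⁻¹) • z = z
      have h2 := hy.1 _ hg'
      rw [smul_mul', smul_inv', hy2] at h2
      have h3 : y • g⁻¹ • z = g⁻¹ • z := mul_right_cancel h2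
      rw [mul_smul, mul_smul, h3, smul_inv_smul]
  have hDY : D ≤ o2 Yz := by
    have h1 : o2 (MulAction.stabilizer C z) ⊓ Yz ≤ o2 Yz := by
      refine le_o2 inf_le_right ((o2_isPGroup _).to_le inf_le_left) ?_
      rw [le_normalizer_iff]
      intro y hy x hx
      refine Subgroup.mem_inf.2 ⟨?_, mul_mem (mul_mem hy hx.2) (inv_mem hy)⟩
      exact (mem_normalizer_iff.1 (le_normalizer_o2 (MulAction.stabilizer C z) hy.2) x).1 hx.1
    exact fun d hd => h1 (Subgroup.mem_inf.2 ⟨hDz hd, Subgroup.mem_inf.2 ⟨hDU d hd, o2_le _ (hDz hd)⟩⟩)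
  have hdat : Dat (V := V ⧸ U₁) T (o2 Yz) D (QuotientGroup.mk z : V ⧸ U₁) := by
    refine ⟨?_, two, odd, fun t ht => by rw [hmk, hz t ht], ?_, ?_, ?_, ?_, ?_⟩
    · rintro ⟨v⟩
      exact congrArg (QuotientGroup.mk (s := U₁)) (sq v)
    · intro q hq
      obtain ⟨n, hn⟩ := o2_isPGroup Yz ⟨q, hq⟩
      refine ⟨n, fun v => ?_⟩
      have h1 : q ^ 2 ^ n = 1 := congrArg Subtype.val hn
      rw [h1, one_smul]
    · intro q hq
      rw [hmk]
      have h1 : q • z = z := (o2_le _ hq).2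
      rw [h1]
    · intro g hg q hq
      rw [hmk, hmk1] at hg
      refine ⟨g * q * g⁻¹, ?_, fun _ => rfl⟩
      -- `O₂(C_Y(z))` is normalised
      have h1 : g ∈ normalizer (Yz : Set C) := by
        rw [mem_normalizer_iff]
        intro y
        constructor
        · exact hconj g hg y
        · intro h
          have hg' : (g⁻¹ • z) * z⁻¹ ∈ U₁ := by
            have h1 := inv_mem (hU g⁻¹ _ hg)
            rw [smul_mul', inv_smul_smul, smul_inv', mul_inv_rev, inv_inv] at h1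
            exact h1
          have h2 := hconj g⁻¹ hg' _ h
          have e : g⁻¹ * (g * y * g⁻¹) * g⁻¹⁻¹ = y := by group
          rwa [e] at h2
      have h2 : o2 Yz ≤ (o2 Yz).map (MulAut.conj g).toMonoidHom ⊔ o2 Yz := le_sup_right
      have h3 : (o2 Yz).map (MulAut.conj g).toMonoidHom ≤ o2 Yz := by
        refine le_o2 ?_ ((o2_isPGroup _).map _) ?_
        · rintro _ ⟨x, hx, rfl⟩
          exact (mem_normalizer_iff.1 h1 x).1 (o2_le _ hx)
        · rw [le_normalizer_iff]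
          rintro y hy _ ⟨x, hx, rfl⟩
          have h4 : g⁻¹ * y * g ∈ Yz := by
            rw [mem_normalizer_iff.1 h1]
            have e : g * (g⁻¹ * y * g) * g⁻¹ = y := by group
            rwa [e]
          refine ⟨(g⁻¹ * y * g) * x * (g⁻¹ * y * g)⁻¹, (mem_normalizer_iff.1 (le_normalizer_o2 Yz h4) x).1 hx, ?_⟩
          show g * ((g⁻¹ * y * g) * x * (g⁻¹ * y * g)⁻¹) * g⁻¹ = y * (g * x * g⁻¹) * y⁻¹
          group
      exact h3 ⟨q, hq, rfl⟩
    · exact fun a ha => ⟨a, hDY ha, fun _ => rfl⟩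
    · intro a ha v
      rw [← mul_smul, hD2 a ha, one_smul]
  have key := hML.act hK hdat
  -- translation
  set W := U₁ ⊔ orb (⊤ : Subgroup C) z with hW
  have hmap : W.map (QuotientGroup.mk' U₁) = orb (⊤ : Subgroup C) (QuotientGroup.mk z : V ⧸ U₁) := by
    rw [hW, Subgroup.map_sup]
    have h1 : U₁.map (QuotientGroup.mk' U₁) = ⊥ := by
      rw [(Subgroup.map_eq_bot_iff U₁), QuotientGroup.ker_mk']
    rw [h1, bot_sup_eq]
    apply le_antisymm
    · rintro _ ⟨v, hv, rfl⟩
      have h2 : orb (⊤ : Subgroup C) z ≤ (orb (⊤ : Subgroup C) (QuotientGroup.mk z : V ⧸ U₁)).comap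
          (QuotientGroup.mk' U₁) := orb_le fun g _ => by
        show (QuotientGroup.mk (g • z) : V ⧸ U₁) ∈ orb (⊤ : Subgroup C) (QuotientGroup.mk z : V ⧸ U₁)
        rw [← hmk]
        exact smul_mem_orb_self (mem_top g)
      exact h2 hv
    · exact orb_le fun g _ => ⟨g • z, smul_mem_orb_self (mem_top g), rfl⟩
  have hcv : (cv (V ⧸ U₁) (D : Set C)).comap (QuotientGroup.mk' U₁) = cvm U₁ hU D := by
    ext v
    constructor
    · intro h d hd
      exact (hmk1 _ _).1 (h d hd)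
    · intro h d hd
      exact (hmk1 _ _).2 (h d hd)
  have h1 : (cvm U₁ hU D).relIndex W = (cv (V ⧸ U₁) (D : Set C)).relIndex
      (orb (⊤ : Subgroup C) (QuotientGroup.mk z : V ⧸ U₁)) := by
    rw [← hcv, relIndex_comap, hmap]
  have h2 : D ⊓ fixer W = D ⊓ fxr C (orb (⊤ : Subgroup C) (QuotientGroup.mk z : V ⧸ U₁)) := by
    ext d
    rw [Subgroup.mem_inf, Subgroup.mem_inf]
    refine and_congr_right fun hd => ?_
    constructor
    · intro h
      rw [mem_fxr_orb]
      intro g _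
      rw [hmk, hmk, h _ (mem_sup_right (smul_mem_orb_self (mem_top g)))]
    · intro h
      rw [mem_fxr_orb] at h
      have h3 : ∀ g : C, d • g • z = g • z := fix_of_quo sq two odd hU hz (hDU d hd) fun g => by
        have h4 := h g (mem_top g)
        rw [hmk, hmk, hmk1] at h4
        exact h4
      have h5 : W ≤ cv V ({d} : Set C) := by
        refine sup_le (fun u hu x hx => ?_) (orb_le fun g _ x hx => ?_)
        · rw [Set.mem_singleton_iff.1 hx]
          exact hDU d hd u hu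
        · rw [Set.mem_singleton_iff.1 hx]
          exact h3 g
      exact fun w hw => h5 hw d rfl
  rw [h1, h2, inf_relIndex_left]
  exact key

/-- `⟨s^C⟩` -/
def orbs (C : Type u) [Group C] {V : Type v} [CommGroup V] [MulDistribMulAction C V] (s : Finset V) : Subgroup V :=
  s.sup fun z => orb (⊤ : Subgroup C) z

theorem orbs_inv (s : Finset V) : HInv C (orbs C s) := by
  classical
  unfold orbs
  induction s using Finset.induction_on with
  | empty =>
    intro g n hn
    rw [Finset.sup_empty, mem_bot] at hn ⊢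
    rw [hn, smul_one]
  | insert a s _ ih =>
    rw [Finset.sup_insert]
    exact (orb_inv a).sup ih

theorem card_rel (A B : Subgroup V) : Nat.card (A ⊓ B : Subgroup V) * A.relIndex B = Nat.card B := by
  have h1 : (A ⊓ B).relIndex B = A.relIndex B := inf_relIndex_right A B
  rw [← h1, ← Subgroup.relIndex_bot_left (A ⊓ B : Subgroup V), ← Subgroup.relIndex_bot_left B]
  exact relIndex_mul_relIndex ⊥ _ B bot_le inf_le_right

/-- **(NO+)**, with orders. -/
theorem no_plus_card (hML : MLK.{u, v}) (hK : IsKGroup C) (sq : ∀ v : V, v * v = 1) (two : IsPGroup 2 T)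
    (odd : ¬ 2 ∣ T.index) (hA2 : ∀ a ∈ A, a * a = 1) (s : Finset V) (hs : ∀ z ∈ s, ∀ t ∈ T, t • z = z)
    (hAs : ∀ z ∈ s, A ≤ o2 (MulAction.stabilizer C z)) :
    Nat.card A * Nat.card (orbs C s ⊓ zm V A : Subgroup V) ≤
      Nat.card (orbs C s) * Nat.card (A ⊓ fixer (orbs C s) : Subgroup C) := by
  classical
  induction s using Finset.induction_on with
  | empty =>
    have h1 : orbs C (∅ : Finset V) = ⊥ := Finset.sup_empty
    rw [h1, bot_inf_eq, card_bot, mul_one, one_mul]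
    refine Subgroup.card_le_of_le fun a ha => Subgroup.mem_inf.2 ⟨ha, fun v hv => ?_⟩
    rw [mem_bot.1 hv, smul_one]
  | insert z s _ ih =>
    have ih' := ih (fun y hy => hs y (Finset.mem_insert_of_mem hy)) fun y hy => hAs y (Finset.mem_insert_of_mem hy)
    set U₁ := orbs C s with hU₁
    have hinv : HInv C U₁ := orbs_inv s
    have hins : orbs C (insert z s) = U₁ ⊔ orb (⊤ : Subgroup C) z := by
      rw [hU₁, orbs, Finset.sup_insert, sup_comm]
      rfl
    rw [hins]
    set W := U₁ ⊔ orb (⊤ : Subgroup C) z with hW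
    set D := A ⊓ fixer U₁ with hD
    have hstep := no_step (D := D) hML hK sq two odd hinv (hs z (Finset.mem_insert_self z s))
      (inf_le_left.trans (hAs z (Finset.mem_insert_self z s))) (fun d hd => (Subgroup.mem_inf.1 hd).2)
      fun d hd => hA2 d (Subgroup.mem_inf.1 hd).1
    rw [← hW] at hstep
    -- `D ∩ C(W) = A ∩ C(W)`
    have hDW : D ⊓ fixer W = A ⊓ fixer W := by
      ext d
      rw [Subgroup.mem_inf, Subgroup.mem_inf]
      constructor
      · rintro ⟨h1, h2⟩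
        exact ⟨(Subgroup.mem_inf.1 h1).1, h2⟩
      · rintro ⟨h1, h2⟩
        exact ⟨Subgroup.mem_inf.2 ⟨h1, fun u hu => h2 u (mem_sup_left hu)⟩, h2⟩
    have h1 : Nat.card (A ⊓ fixer W : Subgroup C) * (D ⊓ fixer W).relIndex D = Nat.card D := by
      rw [← hDW, ← Subgroup.relIndex_bot_left (D ⊓ fixer W : Subgroup C), ← Subgroup.relIndex_bot_left D]
      exact relIndex_mul_relIndex ⊥ _ D bot_le inf_le_left
    have h2 := card_rel (cvm U₁ hinv D) W
    -- `|C_W(A)| |U₁| ≤ |C_{U₁}(A)| |C_W(D mod U₁)|`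
    have h3 : Nat.card (W ⊓ zm V A : Subgroup V) * Nat.card U₁ ≤
        Nat.card (U₁ ⊓ zm V A : Subgroup V) * Nat.card (cvm U₁ hinv D ⊓ W : Subgroup V) := by
      have h4 := card_rel U₁ (W ⊓ zm V A)
      have h5 : Nat.card (U₁ ⊓ (W ⊓ zm V A) : Subgroup V) = Nat.card (U₁ ⊓ zm V A : Subgroup V) := by
        rw [← inf_assoc, inf_eq_left.2 (le_sup_left : U₁ ≤ W)]
      rw [h5] at h4
      have h6 : U₁.relIndex (W ⊓ zm V A) ≤ U₁.relIndex (cvm U₁ hinv D ⊓ W) := by
        refine relIndex_le_of_le_right ?_ index_ne_zero_of_finite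
        refine le_inf ?_ inf_le_left
        exact inf_le_right.trans ((cv_anti (fun d hd => (Subgroup.mem_inf.1 hd).1)).trans zm_le_cvm)
      have h7 := card_rel U₁ (cvm U₁ hinv D ⊓ W)
      have h8 : Nat.card (U₁ ⊓ (cvm U₁ hinv D ⊓ W) : Subgroup V) = Nat.card U₁ := by
        rw [inf_eq_left.2 (le_inf le_cvm le_sup_left)]
      rw [h8] at h7
      calc Nat.card (W ⊓ zm V A : Subgroup V) * Nat.card U₁
          = Nat.card (U₁ ⊓ zm V A : Subgroup V) * U₁.relIndex (W ⊓ zm V A) * Nat.card U₁ := by rw [h4]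
        _ ≤ Nat.card (U₁ ⊓ zm V A : Subgroup V) * U₁.relIndex (cvm U₁ hinv D ⊓ W) * Nat.card U₁ :=
          Nat.mul_le_mul_right _ (Nat.mul_le_mul_left _ h6)
        _ = Nat.card (U₁ ⊓ zm V A : Subgroup V) * Nat.card (cvm U₁ hinv D ⊓ W : Subgroup V) := by
          rw [← h7]; ring
    have hpos : 0 < Nat.card U₁ := Nat.card_pos
    refine Nat.le_of_mul_le_mul_right ?_ hpos
    calc Nat.card A * Nat.card (W ⊓ zm V A : Subgroup V) * Nat.card U₁
        = Nat.card A * (Nat.card (W ⊓ zm V A : Subgroup V) * Nat.card U₁) := by ring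
      _ ≤ Nat.card A * (Nat.card (U₁ ⊓ zm V A : Subgroup V) * Nat.card (cvm U₁ hinv D ⊓ W : Subgroup V)) :=
        Nat.mul_le_mul_left _ h3
      _ = Nat.card A * Nat.card (U₁ ⊓ zm V A : Subgroup V) * Nat.card (cvm U₁ hinv D ⊓ W : Subgroup V) := by ring
      _ ≤ Nat.card U₁ * Nat.card D * Nat.card (cvm U₁ hinv D ⊓ W : Subgroup V) := Nat.mul_le_mul_right _ ih'
      _ = Nat.card U₁ * (Nat.card (A ⊓ fixer W : Subgroup C) * (D ⊓ fixer W).relIndex D) *
          Nat.card (cvm U₁ hinv D ⊓ W : Subgroup V) := by rw [h1]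
      _ ≤ Nat.card U₁ * (Nat.card (A ⊓ fixer W : Subgroup C) * (cvm U₁ hinv D).relIndex W) *
          Nat.card (cvm U₁ hinv D ⊓ W : Subgroup V) :=
        Nat.mul_le_mul_right _ (Nat.mul_le_mul_left _ (Nat.mul_le_mul_left _ hstep))
      _ = Nat.card W * Nat.card (A ⊓ fixer W : Subgroup C) * Nat.card U₁ := by rw [← h2]; ring

end step

end Cfsg.Agent.Omega.NO3S.FullQ
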