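import Cfsg.Agent.Omega.NO3S.FullQ.Orb
import Cfsg.Agent.Omega.NO3S.FullQ.NoPlus

/-!
# NO-3S, `q ≥ 4`: the dichotomy for atoms (helper471 #21459, sections 1 and 6)

`F : Flag T lam U Kh`, (ML) for K-groups, `H` a K-group.

* `Atom lam A₁` : a minimal exact group; `exists_atom`;
* `Flag.one_a` : (1a) `|M| ≤ |C_A(V_R)| |V_R C_M(A)|`, `V_R = ⟨Z^R⟩`, `T ≤ R`, `Z ≤ lam`;
* `Flag.one_b` : (1b) for every `H`-invariant `N`, `N ∩ lam = 1`: `A₁ ≤ C_H(M / N)`, or `A₁ ∩ C_H(M / N) = 1`,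
  `[N, A₁] = 1`, and then `A₁ ≤ O₂(C_H(a mod N))`, `1 ≠ a ∈ lam`;
* `ClassP lam Kh A₁`; **`Flag.dich`** : an exact `A` is in `C_H(M / rad)` or contains an atom of class P;
* `Flag.fixer_cq` : `C_H(N) ∩ C_H(M / N) = 1`; `Flag.np_lam`, `Flag.np_o2` : class P: `N⁺ ∩ lam = 1`, `A₁ ≤ O₂(C_H(a mod N⁺))`.
-/

set_option autoImplicit false
set_option linter.unusedSectionVars false

namespace Cfsg.Agent.Omega.NO3S.FullQ

open Subgroup Cfsg Cfsg.Agent.ZN Cfsg.Agent.MinSimple.VModule Cfsg.Agent.Omega.NO3S.FarQ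
open Cfsg.Agent.Omega.ML.MinFrame Cfsg.Agent.Omega.ML.Final
open Cfsg.Agent.ClassTwoFusion.Quad (cv mem_cv cv_anti)

universe u

section defs

variable {H M K : Type*} [Group H] [CommGroup M] [MulDistribMulAction H M] [CommGroup K]

/-- a minimal exact group -/
structure Atom (lam : Subgroup M) (A₁ : Subgroup H) : Prop where
  ex : Exact lam A₁
  min : ∀ D ≤ A₁, D ≠ ⊥ → (zm M D).index ≤ Nat.card D → D = A₁

/-- `C_H(a mod N)` -/
def cst (N : Subgroup M) (hN : HInv H N) (a : M) : Subgroup H where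
  carrier := {h | (h • a) * a⁻¹ ∈ N}
  one_mem' := by
    show ((1 : H) • a) * a⁻¹ ∈ N
    rw [one_smul, mul_inv_cancel]; exact one_mem _
  mul_mem' := by
    intro x y hx hy
    show ((x * y) • a) * a⁻¹ ∈ N
    have e : (x * y) • a * a⁻¹ = (x • ((y • a) * a⁻¹)) * ((x • a) * a⁻¹) := by
      rw [smul_mul', smul_inv', mul_smul]
      group
    rw [e]
    exact mul_mem (hN x _ hy) hx
  inv_mem' := by
    intro x hx
    show (x⁻¹ • a) * a⁻¹ ∈ N
    have h1 := inv_mem (hN x⁻¹ _ hx)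
    rw [smul_mul', inv_smul_smul, smul_inv', mul_inv_rev, inv_inv] at h1
    exact h1

theorem mem_cst {N : Subgroup M} {hN : HInv H N} {a : M} {h : H} : h ∈ cst N hN a ↔ (h • a) * a⁻¹ ∈ N := Iff.rfl

/-- **class P** -/
structure ClassP (lam : Subgroup M) (Kh : Subgroup (M →* K)) (A₁ : Subgroup H) : Prop where
  atom : Atom lam A₁
  bot : A₁ ⊓ cq (rad Kh) = ⊥
  np : ∀ n ∈ Np Kh, ∀ a ∈ A₁, a • n = n

/-- a subgroup of an exact group is quadratic etc. -/
theorem quad_mono {lam : Subgroup M} {A D : Subgroup H} (hA : Exact lam A) (hD : D ≤ A) :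
    D ≤ o2 (fixer lam) ∧ (∀ a ∈ D, ∀ b ∈ D, a * b = b * a) ∧ (∀ a ∈ D, a * a = 1) ∧
      ∀ a ∈ D, ∀ b ∈ D, ∀ m : M, b • ((a • m) * m⁻¹) = (a • m) * m⁻¹ :=
  ⟨hD.trans hA.le, fun a ha b hb => hA.comm a (hD ha) b (hD hb), fun a ha => hA.sq a (hD ha),
    fun a ha b hb m => hA.quad a (hD ha) b (hD hb) m⟩

theorem card_zm [Finite M] (A : Subgroup H) : Nat.card (zm M A) * (zm M A).index = Nat.card M :=
  Subgroup.card_mul_index _

/-- `M = X C_M(D)`: `|M : C_M(D)| = |X : C_X(D)|` -/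
theorem index_zm_of_sup [Finite M] {X Z : Subgroup M} (h : X ⊔ Z = ⊤) : Z.index = Z.relIndex X := by
  rw [← relIndex_top_right, ← h, relIndex_sup_right]

end defs

variable {H M K : Type u} [Group H] [CommGroup M] [MulDistribMulAction H M] [CommGroup K]
variable {T : Subgroup H} {lam U : Subgroup M} {Kh : Subgroup (M →* K)} (F : Flag T lam U Kh)
  (hML : MLK.{u, u}) (hK : IsKGroup H)
include F

/-- the stabiliser of `a ∈ lam#` is `C_H(lam)` -/
theorem _root_.Cfsg.Agent.Omega.NO3S.FarQ.Flag.stab {a : M} (ha : a ∈ lam) (ha1 : a ≠ 1) :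
    MulAction.stabilizer H a = fixer lam := by
  ext h
  exact ⟨fun hh => F.lin a ha ha1 h hh, fun hh => hh a ha⟩

theorem _root_.Cfsg.Agent.Omega.NO3S.FarQ.Flag.o2_le_T : o2 (fixer lam) ≤ T := by
  have := F.finH
  exact o2_le_of_sylow F.two (by
    intro h
    apply F.ndvd
    have h1 : T.relIndex (fixer lam) * (fixer (H := H) lam).index = T.index := relIndex_mul_index F.T_le
    rw [← h1]
    exact h.mul_right _)

/-- `O₂(H) = 1` -/
theorem _root_.Cfsg.Agent.Omega.NO3S.FarQ.Flag.two_normal {E : Subgroup H} (hE : E.Normal) (h2 : IsPGroup 2 E) :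
    E = ⊥ := by
  have := F.finH
  have hf : Fact (Nat.Prime 2) := ⟨Nat.prime_two⟩
  have hET : E ≤ T := by
    have h1 : IsPGroup 2 (T ⊔ E : Subgroup H) := IsPGroup.to_sup_of_normal_right' F.two h2 (by
      rw [normalizer_eq_top_iff.2 hE]; exact le_top)
    have h3 : (T ⊔ E : Subgroup H) = T := (F.two.toSylow F.ndvd).is_maximal' h1 le_sup_left
    exact le_sup_right.trans h3.le
  rw [eq_bot_iff]
  intro e he
  rw [mem_bot]
  apply F.faith
  have h1 : cv M ({e} : Set H) = ⊤ := F.gen _ fun h a ha => by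
    rw [mem_cv]
    intro x hx
    rw [Set.mem_singleton_iff.1 hx]
    have h2 := F.fix _ (hET (hE.conj_mem e he h⁻¹)) a ha
    rw [inv_inv, mul_smul, mul_smul, inv_smul_eq_iff] at h2
    exact h2
  intro m
  have h2 : m ∈ cv M ({e} : Set H) := by rw [h1]; exact mem_top m
  exact (mem_cv.1 h2) e rfl

include hML hK

/-- **(1a)** `|M| ≤ |C_A(V_R)| |V_R C_M(A)|` for `|A| = |M : C_M(A)|`, `A ≤ O₂(C_H(lam))`, `V_R = ⟨Z^R⟩`. -/
theorem _root_.Cfsg.Agent.Omega.NO3S.FarQ.Flag.one_a {A R : Subgroup H} (hTR : T ≤ R) (hA : A ≤ o2 (fixer lam))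
    (hsq : ∀ a ∈ A, a * a = 1) (hex : (zm M A).index ≤ Nat.card A) (s : Finset M) (hs : ∀ z ∈ s, z ∈ lam ∧ z ≠ 1) :
    ∃ V : Subgroup M, (∀ g ∈ R, ∀ v ∈ V, g • v ∈ V) ∧ (∀ z ∈ s, z ∈ V) ∧
      (∀ E : Subgroup M, (∀ z ∈ s, ∀ g ∈ R, g • z ∈ E) → V ≤ E) ∧
      Nat.card M ≤ Nat.card (A ⊓ fixer V : Subgroup H) * Nat.card (V ⊔ zm M A : Subgroup M) := by
  classical
  have := F.finH
  have := F.finM
  have hAR : A ≤ R := (hA.trans F.o2_le_T).trans hTR
  have hKR : IsKGroup R := kgroup_of_surj hK R (MonoidHom.id R) fun x => ⟨x, rfl⟩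
  have hR : ∀ (g : R) (m : M), g • m = (g : H) • m := fun _ _ => rfl
  have key := no_plus_card (C := R) (V := M) (T := T.subgroupOf R) (A := A.subgroupOf R) hML hKR F.sq
    (F.two.comap_of_injective R.subtype R.subtype_injective) (by
      intro h
      apply F.ndvd
      have h1 : T.relIndex R * R.index = T.index := relIndex_mul_index hTR
      rw [← h1]
      exact Dvd.dvd.mul_right h _) (fun a ha => Subtype.ext (hsq a (mem_subgroupOf.1 ha))) s
    (fun z hz t ht => F.fix _ (mem_subgroupOf.1 ht) z (hs z hz).1) (fun z hz => by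
      -- `A ≤ O₂(C_R(z))`
      have hst : ∀ g : R, g ∈ MulAction.stabilizer R z ↔ (g : H) ∈ fixer lam := by
        intro g
        rw [← F.stab (hs z hz).1 (hs z hz).2]
        exact Iff.rfl
      have h1 : (o2 (fixer (H := H) lam)).subgroupOf R ≤ o2 (MulAction.stabilizer R z) := by
        refine le_o2 ?_ ((o2_isPGroup _).comap_of_injective R.subtype R.subtype_injective) ?_
        · intro x hx
          rw [hst]
          exact o2_le _ (mem_subgroupOf.1 hx)
        · rw [le_normalizer_iff]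
          intro g hg x hx
          rw [mem_subgroupOf] at hx ⊢
          exact (mem_normalizer_iff.1 (le_normalizer_o2 _ ((hst g).1 hg)) _).1 hx
      exact fun a ha => h1 (mem_subgroupOf.2 (hA (mem_subgroupOf.1 ha))))
  set V := orbs R s with hV
  have hVinv : ∀ g ∈ R, ∀ v ∈ V, g • v ∈ V := fun g hg v hv => orbs_inv s (⟨g, hg⟩ : R) v hv
  refine ⟨V, hVinv, fun z hz => ?_, fun E hE => ?_, ?_⟩
  · exact (Finset.le_sup (f := fun z => orb (⊤ : Subgroup R) z) hz) (mem_orb_self _ z)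
  · exact Finset.sup_le fun z hz => orb_le fun g _ => hE z hz g g.2
  · have h1 : Nat.card (A.subgroupOf R) = Nat.card A := Nat.card_congr (subgroupOfEquivOfLe hAR).toEquiv
    have h2 : zm M (A.subgroupOf R) = zm M A := by
      ext m
      rw [mem_cv, mem_cv]
      constructor
      · exact fun h a ha => h ⟨a, hAR ha⟩ (mem_subgroupOf.2 ha)
      · exact fun h a ha => h a (mem_subgroupOf.1 ha)
    have h3 : Nat.card (A.subgroupOf R ⊓ fixer V : Subgroup R) = Nat.card (A ⊓ fixer V : Subgroup H) := by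
      have e : (A.subgroupOf R ⊓ fixer V : Subgroup R) = (A ⊓ fixer V : Subgroup H).subgroupOf R := by
        ext x
        rw [Subgroup.mem_inf, mem_subgroupOf, mem_subgroupOf, Subgroup.mem_inf]
        exact Iff.rfl
      rw [e]
      exact Nat.card_congr (subgroupOfEquivOfLe (inf_le_left.trans hAR)).toEquiv
    rw [h1, h2, h3] at key
    have h4 := card_rel (zm M A) V
    have h5 : (zm M A).relIndex V = (zm M A).relIndex (V ⊔ zm M A) := by rw [sup_comm, relIndex_sup_left]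
    have h6 : Nat.card (zm M A) * (zm M A).relIndex (V ⊔ zm M A) = Nat.card (V ⊔ zm M A : Subgroup M) :=
      card_mul_relIndex' le_sup_right
    have h7 := card_zm (M := M) A
    rw [inf_comm] at h4
    have hpos : 0 < Nat.card (V ⊓ zm M A : Subgroup M) := Nat.card_pos
    -- `|A| ≤ |V : C_V(A)| |C_A(V)|`
    have h8 : Nat.card A ≤ (zm M A).relIndex V * Nat.card (A ⊓ fixer V : Subgroup H) := by
      refine Nat.le_of_mul_le_mul_right ?_ hpos
      calc Nat.card A * Nat.card (V ⊓ zm M A : Subgroup M) ≤ Nat.card V * Nat.card (A ⊓ fixer V : Subgroup H) := key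
        _ = _ := by rw [← h4]; ring
    calc Nat.card M = Nat.card (zm M A) * (zm M A).index := h7.symm
      _ ≤ Nat.card (zm M A) * Nat.card A := Nat.mul_le_mul_left _ hex
      _ ≤ Nat.card (zm M A) * ((zm M A).relIndex V * Nat.card (A ⊓ fixer V : Subgroup H)) := Nat.mul_le_mul_left _ h8
      _ = Nat.card (A ⊓ fixer V : Subgroup H) * Nat.card (V ⊔ zm M A : Subgroup M) := by rw [← h6, ← h5]; ring


/-- **(NO)** in `(H, M)`, for elementary abelian subgroups of `O₂(C_H(lam))` -/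
theorem _root_.Cfsg.Agent.Omega.NO3S.FarQ.Flag.no {A : Subgroup H} (hA : A ≤ o2 (fixer lam))
    (hsq : ∀ a ∈ A, a * a = 1) : Nat.card A ≤ (zm M A).index := by
  classical
  have := F.finH
  have := F.finM
  have : Finite lam := inferInstance
  let s : Finset M := (Set.toFinite {a : M | a ∈ lam ∧ a ≠ 1}).toFinset
  have hs : ∀ a, a ∈ s ↔ a ∈ lam ∧ a ≠ 1 := fun a => by rw [Set.Finite.mem_toFinset]; exact Iff.rfl
  have key := no_plus_card (C := H) (V := M) (T := T) (A := A) hML hK F.sq F.two F.ndvd hsq s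
    (fun z hz t ht => F.fix t ht z ((hs z).1 hz).1) fun z hz => by
      rw [F.stab ((hs z).1 hz).1 ((hs z).1 hz).2]
      exact hA
  have htop : orbs H s = ⊤ := F.gen _ fun h a ha => by
    by_cases ha1 : a = 1
    · rw [ha1, smul_one]; exact one_mem _
    · exact orbs_inv s h _ ((Finset.le_sup (f := fun z => orb (⊤ : Subgroup H) z) ((hs a).2 ⟨ha, ha1⟩))
        (mem_orb_self _ a))
  rw [htop, top_inf_eq] at key
  have h1 : (A ⊓ fixer (⊤ : Subgroup M) : Subgroup H) = ⊥ := by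
    rw [eq_bot_iff]
    intro h hh
    rw [mem_bot]
    exact F.faith h fun m => (Subgroup.mem_inf.1 hh).2 m (mem_top m)
  rw [h1, Subgroup.card_bot, mul_one, Subgroup.card_top, ← card_zm (M := M) A, mul_comm] at key
  exact Nat.le_of_mul_le_mul_left key Nat.card_pos

omit hML hK in
/-- `M = N C_M(C_H(lam mod N))` -/
theorem _root_.Cfsg.Agent.Omega.NO3S.FarQ.Flag.sup_zm {N : Subgroup M} (hN : HInv H N) {D : Subgroup H} (hD : D ≤ cq N) :
    N ⊔ zm M D = ⊤ := by
  have := F.finH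
  have h1 : N ⊔ zm M (cq (H := H) N) = ⊤ := F.gen _ fun h a ha => by
    have hinv : HInv H (zm M (cq (H := H) N)) := by
      intro g m hm
      rw [mem_cv] at hm ⊢
      intro c hc
      have h2 := hm _ (hN.conj_mem (g := g⁻¹) hc)
      rw [inv_inv, mul_smul, mul_smul, inv_smul_eq_iff] at h2
      exact h2
    refine (hN.sup hinv) h a ?_
    have h2 := F.n0_mem (N := N) (hN := hN) ha
    have h3 : ov (cmod N lam hN) lam a ∈ zm M (cq (H := H) N) := by
      rw [mem_cv]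
      exact fun c hc => smul_ov (cq_le_cmod hc) ha
    have e : a = (n0 N lam hN a)⁻¹ * ov (cmod N lam hN) lam a := by
      unfold n0
      rw [mul_inv_rev, inv_inv, mul_assoc, inv_mul_cancel, mul_one]
    rw [e]
    exact mul_mem (mem_sup_left (inv_mem h2)) (mem_sup_right h3)
  rw [eq_top_iff, ← h1]
  exact sup_le_sup_left (cv_anti hD) N

/-- **(1b)** -/
theorem _root_.Cfsg.Agent.Omega.NO3S.FarQ.Flag.one_b {A₁ : Subgroup H} (hA : Atom lam A₁) {N : Subgroup M}
    (hN : HInv H N) (hNl : ∀ a ∈ lam, a ∈ N → a = 1) :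
    A₁ ≤ cq N ∨ (A₁ ⊓ cq N = ⊥ ∧ (∀ n ∈ N, ∀ a ∈ A₁, a • n = n) ∧
      ∀ a ∈ lam, a ≠ 1 → A₁ ≤ o2 (cst N hN a)) := by
  classical
  have := F.finH
  have := F.finM
  by_cases hcq : A₁ ≤ cq N
  · exact Or.inl hcq
  right
  -- `A₁ ≤ O₂(C_H(a mod N))`
  have ho2 : ∀ a ∈ lam, a ≠ 1 → A₁ ≤ o2 (cst N hN a) := by
    intro a ha ha1
    have hTR : T ≤ cst N hN a := fun t ht => by
      rw [mem_cst, F.fix t ht a ha, mul_inv_cancel]
      exact one_mem _
    obtain ⟨V, hV, haV, hVle, hcard⟩ := F.one_a hML hK hTR hA.ex.le hA.ex.sq hA.ex.card.ge {a}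
      (fun z hz => by rw [Finset.mem_singleton.1 hz]; exact ⟨ha, ha1⟩)
    have haV' : a ∈ V := haV a (Finset.mem_singleton_self a)
    -- `V ≤ ⟨a⟩ N`
    have hVN : V ≤ zpowers a ⊔ N := hVle _ fun z hz g hg => by
      rw [Finset.mem_singleton.1 hz]
      have e : g • a = a * ((g • a) * a⁻¹) := by rw [mul_comm, inv_mul_cancel_right]
      rw [e]
      exact mul_mem (mem_sup_left (mem_zpowers a)) (mem_sup_right hg)
    have hle : V ⊔ zm M A₁ ≤ N ⊔ zm M A₁ := by
      refine sup_le (hVN.trans (sup_le ?_ le_sup_left)) le_sup_right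
      rw [zpowers_le]
      refine mem_sup_right ?_
      rw [mem_cv]
      exact fun x hx => o2_le _ (hA.ex.le hx) a ha
    set D : Subgroup H := A₁ ⊓ fixer V with hD
    have hDex : (zm M D).index ≤ Nat.card D := by
      have h1 : V ⊔ zm M A₁ ≤ zm M D := sup_le (fun v hv => by
        rw [mem_cv]
        exact fun d hd => (Subgroup.mem_inf.1 hd).2 v hv) (cv_anti inf_le_left)
      have h2 := Subgroup.card_le_of_le h1
      have h3 := card_zm (M := M) D
      have h4 : Nat.card (zm M D) * (zm M D).index ≤ Nat.card (zm M D) * Nat.card D := by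
        rw [h3, mul_comm]
        exact hcard.trans (Nat.mul_le_mul_left _ h2)
      exact Nat.le_of_mul_le_mul_left h4 Nat.card_pos
    have hDA : D = A₁ := by
      by_cases hD1 : D = ⊥
      · exfalso
        apply hcq
        rw [hD1, Subgroup.card_bot, one_mul] at hcard
        have h1 : N ⊔ zm M A₁ = ⊤ := by
          apply Subgroup.eq_top_of_le_card
          exact hcard.trans (Subgroup.card_le_of_le hle)
        intro x hx m
        have h2 : m ∈ N ⊔ zm M A₁ := by rw [h1]; exact mem_top m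
        obtain ⟨n, hn, z, hz, rfl⟩ := mem_sup.1 h2
        rw [smul_mul', mem_cv.1 hz x hx, mul_inv, mul_mul_mul_comm, mul_inv_cancel, mul_one]
        exact mul_mem (hN x n hn) (inv_mem hn)
      · exact hA.min D inf_le_left hD1 hDex
    have hAV : A₁ ≤ fixer V := by rw [← hDA]; exact inf_le_right
    -- `O₂(C_H(lam)) ∩ C(V) ≤ O₂(C_H(a mod N))`
    set Y : Subgroup H := fixer V ⊓ cst N hN a with hY
    have hYl : Y ≤ fixer lam := fun y hy => F.lin a ha ha1 y ((Subgroup.mem_inf.1 hy).1 a haV')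
    have hYn : ∀ g ∈ cst N hN a, ∀ y ∈ Y, g * y * g⁻¹ ∈ Y := by
      intro g hg y hy
      refine Subgroup.mem_inf.2 ⟨fun v hv => ?_, mul_mem (mul_mem hg (Subgroup.mem_inf.1 hy).2) (inv_mem hg)⟩
      rw [mul_smul, mul_smul, (Subgroup.mem_inf.1 hy).1 _ (hV _ (inv_mem hg) v hv), smul_inv_smul]
    have hYn' : cst N hN a ≤ normalizer (Y : Set H) := by
      rw [le_normalizer_iff]
      exact hYn
    have hAY : A₁ ≤ o2 Y := by
      have h1 : o2 (fixer lam) ⊓ Y ≤ o2 Y := by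
        refine le_o2 inf_le_right ((o2_isPGroup _).to_le inf_le_left) ?_
        rw [le_normalizer_iff]
        intro y hy x hx
        refine Subgroup.mem_inf.2 ⟨?_, mul_mem (mul_mem hy (Subgroup.mem_inf.1 hx).2) (inv_mem hy)⟩
        exact (mem_normalizer_iff.1 (le_normalizer_o2 _ (hYl hy)) x).1 (Subgroup.mem_inf.1 hx).1
      refine fun x hx => h1 (Subgroup.mem_inf.2 ⟨hA.ex.le hx, Subgroup.mem_inf.2 ⟨hAV hx, ?_⟩⟩)
      exact hTR (F.o2_le_T (hA.ex.le hx))
    refine hAY.trans (le_o2 ((o2_le _).trans inf_le_right) (o2_isPGroup _) ?_)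
    -- `O₂(Y)` is normal in `C_H(a mod N)`
    rw [le_normalizer_iff]
    intro g hg x hx
    have h3 : (o2 Y).map (MulAut.conj g).toMonoidHom ≤ o2 Y := by
      refine le_o2 ?_ ((o2_isPGroup _).map _) ?_
      · rintro _ ⟨x, hx, rfl⟩
        exact hYn g hg x (o2_le _ hx)
      · rw [le_normalizer_iff]
        rintro y hy _ ⟨x, hx, rfl⟩
        have h4 : g⁻¹ * y * g ∈ Y := by
          have h5 := hYn g⁻¹ (inv_mem hg) y hy
          rwa [inv_inv] at h5
        refine ⟨(g⁻¹ * y * g) * x * (g⁻¹ * y * g)⁻¹, (mem_normalizer_iff.1 (le_normalizer_o2 Y h4) x).1 hx, ?_⟩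
        show g * ((g⁻¹ * y * g) * x * (g⁻¹ * y * g)⁻¹) * g⁻¹ = y * (g * x * g⁻¹) * y⁻¹
        group
    exact h3 ⟨x, hx, rfl⟩
  -- (NO+) on `M / N`
  let s : Finset (M ⧸ N) := ((Set.toFinite {a : M | a ∈ lam ∧ a ≠ 1}).toFinset).image QuotientGroup.mk
  have hs : ∀ z, z ∈ s ↔ ∃ a ∈ lam, a ≠ 1 ∧ (QuotientGroup.mk a : M ⧸ N) = z := fun z => by
    rw [Finset.mem_image]
    constructor
    · rintro ⟨a, ha, rfl⟩
      rw [Set.Finite.mem_toFinset] at ha
      exact ⟨a, ha.1, ha.2, rfl⟩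
    · rintro ⟨a, ha, ha1, rfl⟩
      exact ⟨a, by rw [Set.Finite.mem_toFinset]; exact ⟨ha, ha1⟩, rfl⟩
  let _ := quoM (H := H) N hN
  have hmk : ∀ (g : H) (v : M), g • (QuotientGroup.mk v : M ⧸ N) = QuotientGroup.mk (g • v) := fun _ _ => rfl
  have hmk1 : ∀ a b : M, (QuotientGroup.mk a : M ⧸ N) = QuotientGroup.mk b ↔ a * b⁻¹ ∈ N := by
    intro a b
    rw [eq_comm, QuotientGroup.eq, mul_comm]
  have key := no_plus_card (C := H) (V := M ⧸ N) (T := T) (A := A₁) hML hK (by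
      rintro ⟨v⟩
      exact congrArg (QuotientGroup.mk (s := N)) (F.sq v)) F.two F.ndvd hA.ex.sq s
    (fun z hz t ht => by
      obtain ⟨a, ha, -, rfl⟩ := (hs z).1 hz
      rw [hmk, F.fix t ht a ha]) fun z hz => by
      obtain ⟨a, ha, ha1, rfl⟩ := (hs z).1 hz
      have e : MulAction.stabilizer H (QuotientGroup.mk a : M ⧸ N) = cst N hN a := by
        ext h
        rw [MulAction.mem_stabilizer_iff, hmk, hmk1, mem_cst]
      rw [e]
      exact ho2 a ha ha1
  have htop : orbs H s = ⊤ := by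
    have h1 : (orbs H s).comap (QuotientGroup.mk' N) = ⊤ := F.gen _ fun h a ha => by
      show (QuotientGroup.mk (h • a) : M ⧸ N) ∈ orbs H s
      by_cases ha1 : a = 1
      · rw [ha1, smul_one]; exact one_mem _
      · rw [← hmk]
        exact orbs_inv s h _ ((Finset.le_sup (f := fun z => orb (⊤ : Subgroup H) z) ((hs _).2 ⟨a, ha, ha1, rfl⟩))
          (mem_orb_self _ _))
    rw [eq_top_iff]
    rintro ⟨m⟩ -
    have h2 : m ∈ (orbs H s).comap (QuotientGroup.mk' N) := by rw [h1]; exact mem_top m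
    exact h2
  rw [htop, top_inf_eq, Subgroup.card_top] at key
  have hfix : (A₁ ⊓ fixer (⊤ : Subgroup (M ⧸ N)) : Subgroup H) = A₁ ⊓ cq N := by
    ext h
    rw [Subgroup.mem_inf, Subgroup.mem_inf]
    refine and_congr_right fun _ => ?_
    constructor
    · intro hh m
      exact (hmk1 _ _).1 (hh (QuotientGroup.mk m) (mem_top _))
    · rintro hh ⟨m⟩ -
      exact (hmk1 _ _).2 (hh m)
  rw [hfix] at key
  set D : Subgroup H := A₁ ⊓ cq N with hD
  -- `|N C_M(A₁)| ≤ |C_{M/N}(A₁)| |N|`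
  have h1 : Nat.card (N ⊔ zm M A₁ : Subgroup M) ≤ Nat.card (zm (M ⧸ N) A₁) * Nat.card N := by
    have h2 : N.relIndex (N ⊔ zm M A₁) ≤ Nat.card (zm (M ⧸ N) A₁) := by
      have h3 : N.relIndex (N ⊔ zm M A₁) = Nat.card ((N ⊔ zm M A₁).map (QuotientGroup.mk' N)) := by
        have h4 : N = (QuotientGroup.mk' N).ker := (QuotientGroup.ker_mk' N).symm
        conv_lhs => rw [h4]
        rw [← Subgroup.relIndex_bot_left ((N ⊔ zm M A₁).map (QuotientGroup.mk' N)), ← relIndex_comap,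
          MonoidHom.comap_bot, QuotientGroup.ker_mk']
      rw [h3]
      refine Subgroup.card_le_of_le ?_
      rintro _ ⟨m, hm, rfl⟩
      obtain ⟨n, hn, z, hz, rfl⟩ := mem_sup.1 hm
      rw [mem_cv]
      intro x hx
      show (QuotientGroup.mk (x • (n * z)) : M ⧸ N) = QuotientGroup.mk (n * z)
      rw [hmk1, smul_mul', mem_cv.1 hz x hx, mul_inv, mul_mul_mul_comm, mul_inv_cancel, mul_one]
      exact mul_mem (hN x n hn) (inv_mem hn)
    have h5 : Nat.card N * N.relIndex (N ⊔ zm M A₁) = Nat.card (N ⊔ zm M A₁ : Subgroup M) :=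
      card_mul_relIndex' le_sup_left
    rw [← h5, mul_comm]
    exact Nat.mul_le_mul_right _ h2
  have h2 : Nat.card (M ⧸ N) * Nat.card N = Nat.card M := by
    rw [mul_comm]; exact N.card_mul_index
  -- `|N : C_N(A₁)| ≤ |D|`
  have h3 : (zm M A₁).relIndex N ≤ Nat.card D := by
    have h4 : Nat.card (zm M A₁) * (zm M A₁).relIndex N = Nat.card (N ⊔ zm M A₁ : Subgroup M) := by
      have h5 : (zm M A₁).relIndex N = (zm M A₁).relIndex (N ⊔ zm M A₁) := by rw [relIndex_sup_right]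
      rw [h5]
      exact card_mul_relIndex' le_sup_right
    have h5 := card_zm (M := M) A₁
    rw [← hA.ex.card] at h5
    have hpos : 0 < Nat.card (zm M A₁) * Nat.card A₁ := Nat.mul_pos Nat.card_pos Nat.card_pos
    refine Nat.le_of_mul_le_mul_right ?_ hpos
    calc (zm M A₁).relIndex N * (Nat.card (zm M A₁) * Nat.card A₁)
        = Nat.card (N ⊔ zm M A₁ : Subgroup M) * Nat.card A₁ := by rw [← h4]; ring
      _ ≤ Nat.card (zm (M ⧸ N) A₁) * Nat.card N * Nat.card A₁ := Nat.mul_le_mul_right _ h1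
      _ = Nat.card A₁ * Nat.card (zm (M ⧸ N) A₁) * Nat.card N := by ring
      _ ≤ Nat.card (M ⧸ N) * Nat.card D * Nat.card N := Nat.mul_le_mul_right _ key
      _ = Nat.card D * (Nat.card (zm M A₁) * Nat.card A₁) := by rw [h5, ← h2]; ring
  have h4 : (zm M D).index ≤ Nat.card D := by
    rw [index_zm_of_sup (F.sup_zm hN (inf_le_right : D ≤ cq N))]
    exact (relIndex_le_of_le_left (cv_anti (inf_le_left : D ≤ A₁)) index_ne_zero_of_finite).trans h3
  have hDbot : D = ⊥ := by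
    by_contra hne
    have h5 := hA.min D inf_le_left hne h4
    apply hcq
    rw [← h5]
    exact inf_le_right
  refine ⟨hDbot, ?_, ho2⟩
  rw [hDbot, Subgroup.card_bot] at h3
  have h5 : N ≤ zm M A₁ := by
    rw [← relIndex_eq_one]
    have h6 : (zm M A₁).relIndex N ≠ 0 := index_ne_zero_of_finite
    omega
  intro n hn a ha
  exact mem_cv.1 (h5 hn) a ha


omit F hML hK in
/-- `C_H(N) ∩ C_H(M / N)` is elementary abelian -/
theorem sq_of_fixer_cq (hsq : ∀ m : M, m * m = 1) {N : Subgroup M} {x : H} (hx : x ∈ fixer N) (hx' : x ∈ cq N)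
    (m : M) : (x * x) • m = m := by
  have h1 := hx _ (hx' m)
  rw [smul_mul', smul_inv', ← mul_smul] at h1
  have h2 : (x * x) • m = (x • m) * m⁻¹ * (x • m) := by rw [← h1, inv_mul_cancel_right]
  rw [h2, mul_right_comm, hsq, one_mul, inv_eq_of_mul_eq_one_left (hsq m)]

omit hML hK in
/-- `C_H(N) ∩ C_H(M / N) = 1` -/
theorem _root_.Cfsg.Agent.Omega.NO3S.FarQ.Flag.fixer_cq {N : Subgroup M} (hN : HInv H N) : (fixer N ⊓ cq N : Subgroup H) = ⊥ := by
  refine F.two_normal ⟨fun x hx g => ?_⟩ fun x => ⟨1, ?_⟩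
  · refine Subgroup.mem_inf.2 ⟨fun n hn => ?_, hN.conj_mem (Subgroup.mem_inf.1 hx).2⟩
    rw [mul_smul, mul_smul, (Subgroup.mem_inf.1 hx).1 _ (hN g⁻¹ n hn), smul_inv_smul]
  · rw [pow_one, pow_two]
    refine Subtype.ext (F.faith _ fun m => ?_)
    exact sq_of_fixer_cq F.sq (Subgroup.mem_inf.1 x.2).1 (Subgroup.mem_inf.1 x.2).2 m

/-- an atom in every exact group -/
theorem _root_.Cfsg.Agent.Omega.NO3S.FarQ.Flag.exists_atom {A D : Subgroup H} (hA : Exact lam A) (hDA : D ≤ A)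
    (hD1 : D ≠ ⊥) (hD : (zm M D).index ≤ Nat.card D) : ∃ A₁ ≤ D, Atom lam A₁ := by
  have := F.finH
  obtain ⟨A₁, hA₁, hmin⟩ := (Set.toFinite {E : Subgroup H | E ≤ D ∧ E ≠ ⊥ ∧ (zm M E).index ≤ Nat.card E}).exists_minimal
    ⟨D, le_rfl, hD1, hD⟩
  obtain ⟨h1, h2, h3⟩ := hA₁
  obtain ⟨q1, q2, q3, q4⟩ := quad_mono hA (h1.trans hDA)
  refine ⟨A₁, h1, ⟨⟨h2, q1, q2, q3, q4, le_antisymm (F.no hML hK q1 q3) h3⟩, fun E hE hE1 hE2 => ?_⟩⟩
  exact le_antisymm hE (hmin ⟨hE.trans h1, hE1, hE2⟩ hE)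

/-- **The dichotomy**: `A ≤ C_H(M / rad)` or an atom of `A` is of class P. -/
theorem _root_.Cfsg.Agent.Omega.NO3S.FarQ.Flag.dich (hO : OnL lam Kh) {A : Subgroup H} (hA : Exact lam A) :
    A ≤ cq (rad Kh) ∨ ∃ A₁ ≤ A, ClassP lam Kh A₁ := by
  classical
  have := F.finH
  have := F.finM
  by_cases hP : ∃ A₁ ≤ A, ClassP lam Kh A₁
  · exact Or.inr hP
  left
  -- all the atoms are in `C`
  have hat : ∀ A₁ ≤ A, Atom lam A₁ → A₁ ≤ cq (rad Kh) := by
    intro A₁ hA₁ h
    by_contra hcon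
    have h1 : ∀ D : Subgroup K, D ≠ ⊤ → (A₁ ⊓ cq (Mt Kh D) = ⊥ ∧ (∀ n ∈ Mt Kh D, ∀ a ∈ A₁, a • n = n)) := by
      intro D hD
      rcases F.one_b hML hK h (F.hinv_Mt D) (fun a ha => F.Mt_lam hO hD ha) with h2 | ⟨h2, h3, -⟩
      · rw [F.cq_Mt hD] at h2
        exact absurd h2 hcon
      · exact ⟨h2, h3⟩
    refine hP ⟨A₁, hA₁, h, ?_, ?_⟩
    · have h2 := (h1 ⊥ F.bot_ne_top).1
      exact h2
    · have h2 : Np Kh ≤ zm M A₁ := Np_le fun D hD n hn => by
        rw [mem_cv]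
        exact (h1 D hD).2 n hn
      intro n hn a ha
      exact mem_cv.1 (h2 hn) a ha
  set C : Subgroup H := cq (rad Kh) with hC
  set R : Subgroup H := cmod (rad Kh) lam F.hinv_rad with hR
  have hTR : T ≤ R := F.T_le.trans fixer_le_cmod
  let s : Finset M := (Set.toFinite {a : M | a ∈ lam ∧ a ≠ 1}).toFinset
  have hs : ∀ a, a ∈ s ↔ a ∈ lam ∧ a ≠ 1 := fun a => by rw [Set.Finite.mem_toFinset]; exact Iff.rfl
  obtain ⟨V, hV, haV, hVle, hcard⟩ := F.one_a hML hK hTR hA.le hA.sq hA.card.ge s (fun z hz => (hs z).1 hz)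
  have hlV : lam ≤ V := fun a ha => by
    by_cases ha1 : a = 1
    · rw [ha1]; exact one_mem _
    · exact haV a ((hs a).2 ⟨ha, ha1⟩)
  have hVN : V ≤ rad Kh ⊔ lam := hVle _ fun z hz g hg => by
    have e : g • z = ((g • z) * z⁻¹) * z := by rw [inv_mul_cancel_right]
    rw [e]
    exact mul_mem (mem_sup_left (hg z ((hs z).1 hz).1)) (mem_sup_right ((hs z).1 hz).1)
  set D : Subgroup H := A ⊓ fixer V with hD
  have hDex : (zm M D).index ≤ Nat.card D := by
    have h1 : V ⊔ zm M A ≤ zm M D := sup_le (fun v hv => by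
      rw [mem_cv]
      exact fun d hd => (Subgroup.mem_inf.1 hd).2 v hv) (cv_anti inf_le_left)
    have h2 := Subgroup.card_le_of_le h1
    have h3 := card_zm (M := M) D
    have h4 : Nat.card (zm M D) * (zm M D).index ≤ Nat.card (zm M D) * Nat.card D := by
      rw [h3, mul_comm]
      exact hcard.trans (Nat.mul_le_mul_left _ h2)
    exact Nat.le_of_mul_le_mul_left h4 Nat.card_pos
  have hD1 : D = ⊥ := by
    by_contra hne
    obtain ⟨A₁, hA₁, hatom⟩ := F.exists_atom hML hK hA (inf_le_left : D ≤ A) hne hDex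
    have hA₁C := hat A₁ (hA₁.trans inf_le_left) hatom
    apply hatom.ex.ne
    -- `A₁` centralises `lam^C`, so `A₁ ≤ O₂(C) = 1`
    have hCn : (C : Subgroup H).Normal := F.hinv_rad.normal
    let Y : Subgroup H := C ⊓ fixer V
    have hYl : Y ≤ fixer lam := fun y hy a ha => (Subgroup.mem_inf.1 hy).2 a (hlV ha)
    have hCR : C ≤ R := cq_le_cmod
    have hYn : ∀ g ∈ C, ∀ y ∈ Y, g * y * g⁻¹ ∈ Y := by
      intro g hg y hy
      refine Subgroup.mem_inf.2 ⟨hCn.conj_mem y (Subgroup.mem_inf.1 hy).1 g, fun v hv => ?_⟩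
      rw [mul_smul, mul_smul, (Subgroup.mem_inf.1 hy).2 _ (hV _ (inv_mem (hCR hg)) v hv), smul_inv_smul]
    have h1 : o2 (fixer lam) ⊓ Y ≤ o2 Y := by
      refine le_o2 inf_le_right ((o2_isPGroup _).to_le inf_le_left) ?_
      rw [le_normalizer_iff]
      intro y hy x hx
      refine Subgroup.mem_inf.2 ⟨?_, mul_mem (mul_mem hy (Subgroup.mem_inf.1 hx).2) (inv_mem hy)⟩
      exact (mem_normalizer_iff.1 (le_normalizer_o2 _ (hYl hy)) x).1 (Subgroup.mem_inf.1 hx).1
    have h2 : o2 Y ≤ o2 C := by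
      refine le_o2 ((o2_le _).trans inf_le_left) (o2_isPGroup _) ?_
      rw [le_normalizer_iff]
      intro g hg x hx
      have h3 : (o2 Y).map (MulAut.conj g).toMonoidHom ≤ o2 Y := by
        refine le_o2 ?_ ((o2_isPGroup _).map _) ?_
        · rintro _ ⟨x, hx, rfl⟩
          exact hYn g hg x (o2_le _ hx)
        · rw [le_normalizer_iff]
          rintro y hy _ ⟨x, hx, rfl⟩
          have h4 : g⁻¹ * y * g ∈ Y := by
            have h5 := hYn g⁻¹ (inv_mem hg) y hy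
            rwa [inv_inv] at h5
          refine ⟨(g⁻¹ * y * g) * x * (g⁻¹ * y * g)⁻¹, (mem_normalizer_iff.1 (le_normalizer_o2 Y h4) x).1 hx, ?_⟩
          show g * ((g⁻¹ * y * g) * x * (g⁻¹ * y * g)⁻¹) * g⁻¹ = y * (g * x * g⁻¹) * y⁻¹
          group
      exact h3 ⟨x, hx, rfl⟩
    have h3 : o2 C = ⊥ := F.two_normal ⟨fun x hx g => by
      have h3 : (o2 C).map (MulAut.conj g).toMonoidHom ≤ o2 C := by
        refine le_o2 ?_ ((o2_isPGroup _).map _) ?_
        · rintro _ ⟨x, hx, rfl⟩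
          exact hCn.conj_mem _ (o2_le _ hx) g
        · rw [le_normalizer_iff]
          rintro y hy _ ⟨x, hx, rfl⟩
          have h4 : g⁻¹ * y * g ∈ C := by
            have h5 := hCn.conj_mem y hy g⁻¹
            rwa [inv_inv] at h5
          refine ⟨(g⁻¹ * y * g) * x * (g⁻¹ * y * g)⁻¹, (mem_normalizer_iff.1 (le_normalizer_o2 C h4) x).1 hx, ?_⟩
          show g * ((g⁻¹ * y * g) * x * (g⁻¹ * y * g)⁻¹) * g⁻¹ = y * (g * x * g⁻¹) * y⁻¹
          group
      exact h3 ⟨x, hx, rfl⟩⟩ (o2_isPGroup _)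
    rw [eq_bot_iff, ← h3]
    exact fun x hx => h2 (h1 (Subgroup.mem_inf.2 ⟨hatom.ex.le hx, Subgroup.mem_inf.2
      ⟨hA₁C hx, (Subgroup.mem_inf.1 (hA₁ hx)).2⟩⟩))
  rw [hD1, Subgroup.card_bot, one_mul] at hcard
  have hle : V ⊔ zm M A ≤ rad Kh ⊔ zm M A := by
    refine sup_le (hVN.trans (sup_le le_sup_left ?_)) le_sup_right
    intro a ha
    refine mem_sup_right ?_
    rw [mem_cv]
    exact fun x hx => o2_le _ (hA.le hx) a ha
  have h1 : rad Kh ⊔ zm M A = ⊤ := by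
    apply Subgroup.eq_top_of_le_card
    exact hcard.trans (Subgroup.card_le_of_le hle)
  intro x hx m
  have h2 : m ∈ rad Kh ⊔ zm M A := by rw [h1]; exact mem_top m
  obtain ⟨n, hn, z, hz, rfl⟩ := mem_sup.1 h2
  rw [smul_mul', mem_cv.1 hz x hx, mul_inv, mul_mul_mul_comm, mul_inv_cancel, mul_one]
  exact mul_mem (F.hinv_rad x n hn) (inv_mem hn)

/-- class P: `N⁺ ∩ lam = 1` -/
theorem _root_.Cfsg.Agent.Omega.NO3S.FarQ.Flag.np_lam {A₁ : Subgroup H} (h : ClassP lam Kh A₁) {a : M} (ha : a ∈ lam)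
    (haN : a ∈ Np Kh) : a = 1 := by
  by_contra ha1
  obtain ⟨x, hx, hx1⟩ := A₁.bot_or_exists_ne_one.resolve_left h.atom.ex.ne
  exact hx1 (F.eq_one_of_cent F.hinv_Np ha ha1 haN fun n hn => h.np n hn x hx)

/-- class P: `A₁ ≤ O₂(C_H(a mod N⁺))` -/
theorem _root_.Cfsg.Agent.Omega.NO3S.FarQ.Flag.np_o2 {A₁ : Subgroup H} (h : ClassP lam Kh A₁) {a : M} (ha : a ∈ lam)
    (ha1 : a ≠ 1) : A₁ ≤ o2 (cst (Np Kh) F.hinv_Np a) := by
  rcases F.one_b hML hK h.atom F.hinv_Np (fun a ha haN => F.np_lam hML hK h ha haN) with h1 | ⟨-, -, h1⟩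
  · exfalso
    apply h.atom.ex.ne
    rw [eq_bot_iff, ← F.fixer_cq F.hinv_Np]
    exact fun x hx => Subgroup.mem_inf.2 ⟨fun n hn => h.np n hn x hx, h1 hx⟩
  · exact h1 a ha ha1

end Cfsg.Agent.Omega.NO3S.FullQ
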