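import Cfsg.Agent.Omega.NO3S.FarQ.Free.HD
import Cfsg.Agent.Omega.NO3S.FarQ.Free.HSum
import Cfsg.Agent.Omega.NO3S.FarQ.Free.Exist

/-!
# FullB (`q ≥ 4`, `n ≥ 3`): THE FRONT (helper937 #18718 section 5, without `FullAt`)

Over `Geom` and `Frm` (no fullness, `N_p` arbitrary), `3 ≤ n`:

* `not_dp` : no critical pair has a pair with (D): `x ∼ p`, `f ∈ W_q`, `x^f ≠ x` implies `W_x ∩ W_{x^f} ≰ W_p`;
* `exP` : every critical pair is exact, both sides (`ExP`: exact, (X) = `cen`, `good`);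
* `W0` : both together; `w0`; `W0.tp`, `W0.mover` (a mover of every `f ∈ W_q` with image `≠ 1`, without (D)).
-/

set_option autoImplicit false
set_option linter.unusedSectionVars false

namespace Cfsg.Agent.Omega.NO3S.FullQ

open Subgroup Cfsg Cfsg.Agent.ZN Cfsg.Agent.MinSimple.VModule Cfsg.Agent.Omega.NOThree.Pts
open Cfsg.Agent.Omega.NOThree Cfsg.Agent.Omega.NOThree.LemmaM Cfsg.Agent.Omega.NOThree.LemmaMPlus
open Cfsg.Agent.Omega.NO3S.FarQ.Glue Cfsg.Agent.Omega.NO3S.FarQ.Asm Cfsg.Agent.Omega.NO3S.FarQ.Free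

variable {G X L : Type*} [Group G] [MulAction G X] [MulAction G L]
variable {inc : X → L → Prop} {R W : X → Subgroup G} {V : L → Subgroup G} {s t n : ℕ}

/-- **The world W0.** -/
structure W0 (inc : X → L → Prop) (R W : X → Subgroup G) (V : L → Subgroup G) (n : ℕ) : Prop where
  /-- no pair with (D) -/
  nd : ∀ a b, Crit inc W n a b → ¬ DP inc W a b
  /-- exact on both sides, (X) -/
  ex : ∀ a b, Crit inc W n a b → ExP inc R W V n a b

variable {H M K : Type*} [Group H] [CommGroup M] [MulDistribMulAction H M] [CommGroup K]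
variable {p q : X} {l : L} {Sy : Subgroup G} {ρ : G → H} {π : G → M} {ζ : K →* G} {T : Subgroup H}
  {lam U : Subgroup M} {Kh : Subgroup (M →* K)}

section frm

variable [Finite G] (D : Geom inc R W V s t) (F : Frm inc R W V p l Sy ρ π ζ T lam U Kh) (hn : 3 ≤ n)
include D F hn

theorem typeI_false {p' x' q' : X} {l' : L} (h : TypeI inc R W n p' x' q' l') : False := by
  obtain ⟨k, rfl⟩ : ∃ k, n = k + 1 := ⟨n - 1, by omega⟩
  obtain ⟨y, hy⟩ := gg_of_typeI h
  exact no_goal D (F.line_all D) (F.noOver D) (by omega) (hD D F (by omega)) (hT D F (by omega)) (hs D F (by omega)) hy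

/-- `(b, a)` has (D), `(a, b)` has not -/
theorem one_false {a b : X} (hc : Crit inc W n a b) (h1 : ¬ DP inc W a b) (h2 : DP inc W b a) : False := by
  obtain ⟨r₁, l₁, hr₁, hrl₁, hal₁⟩ := hc.symm.last (by omega)
  obtain ⟨x, m, f, hM⟩ := h2.mdat D hn hc.symm hr₁ hrl₁ hal₁
  rcases alternative hM (F.noOver D) with h3 | ⟨hq, hlow⟩
  · exact typeI_false D F hn h3
  obtain ⟨k, rfl⟩ : ∃ k, n = k + 1 := ⟨n - 1, by omega⟩
  obtain ⟨y', h0, hk, hcol⟩ := exists_path hr₁.symm
  rw [Nat.add_sub_cancel] at hk hcol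
  have e0 : ch a y' 0 = a := rfl
  have e1 : ch a y' 1 = r₁ := h0
  have ek : ch a y' (k + 1) = b := hk
  have hy : Pth inc W k (ch a y') := by
    refine { crit := ?_, col := ?_ }
    · rw [e0, ek]; exact hc
    · intro i hi
      match i with
      | 0 =>
        show Col inc a (y' 0)
        rw [h0]
        exact ⟨l₁, hal₁, hrl₁⟩
      | (i + 1) => exact hcol i (by omega)
  have hfin : ¬ ∃ x f, Mv inc W k (ch a y') x f ∧ DD W (ch a y') x f := by
    rintro ⟨z, g, hz, hdd⟩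
    obtain ⟨hgW, ⟨m', hzm, h0m⟩, hmv, -⟩ := hz
    rw [ek] at hgW
    exact h1 ⟨z, m', g, hzm, h0m, hgW, hmv, hdd⟩
  refine hfin (exists_dd D F (by omega) hy ?_ ?_ ?_)
  · rw [e0, ek, e1]
    intro u hu v hv
    have h4 := (hlow v hv u hu).2
    have e : u * v * u⁻¹ * v⁻¹ = (v * u * v⁻¹ * u⁻¹)⁻¹ := by group
    rw [e]
    exact inv_mem h4
  · rw [e0, ek]
    rintro z ⟨m', hz, ha⟩ v hv u hu hR
    have h5 := tp_of D hc (by omega) h1 z m' hz ha v hv u hu (by
      have e : u * v * u⁻¹ * v⁻¹ = (v * u * v⁻¹ * u⁻¹)⁻¹ := by group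
      rw [e]
      exact inv_mem hR)
    rw [← h5]
    group
  · rw [e0, ek]
    exact hq

theorem not_dp {a b : X} (hc : Crit inc W n a b) : ¬ DP inc W a b := by
  intro h1
  by_cases h2 : DP inc W b a
  · obtain ⟨p', x', q', l', h⟩ := typeI_of_both D (F.noOver D) hn hc h1 h2
    exact typeI_false D F hn h
  · exact one_false D F hn hc.symm h2 h1

theorem exP {a b : X} (hc : Crit inc W n a b) : ExP inc R W V n a b :=
  ExP.of_good D (F.noOver D) hc (by omega) ((tp_of D hc (by omega) (not_dp D F hn hc)).good D)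
    ((tp_of D hc.symm (by omega) (not_dp D F hn hc.symm)).good D)

theorem w0 : W0 inc R W V n where
  nd _ _ hc := not_dp D F hn hc
  ex _ _ hc := exP D F hn hc

end frm

theorem W0.tp (h : W0 inc R W V n) (D : Geom inc R W V s t) (hn : 1 ≤ n) {a b : X} (hc : Crit inc W n a b) :
    TP inc R W a b := tp_of D hc hn (h.nd a b hc)

end Cfsg.Agent.Omega.NO3S.FullQ
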