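import Cfsg.Agent.Omega.NO3S.FarQ.Free.FullDual
import Cfsg.Agent.Omega.NO3S.FarQ.Free.Base
import Cfsg.Agent.Omega.NO3S.FarQ.Free.FullTP

/-!
# FullB, `q ≥ 4`: movers without (D) and the plane `P⁺ / N⁺` ((2a) of #21459, helper471; typed by helper312)

`D : Geom ..`, `F : Frm ..` at the flag `(p, l)`, `(p, q)` critical, `f ∈ W_q`, `h ∈ C_G(R_p)` odd, inverted by `f`,
`x = h r`, `x' = f h r = h⁻¹ r`, `W_x ∩ W_{x'} ≰ W_p` (helper404's `Bad`).

* `PP h lam N` : the elements `(h • a) (h⁻¹ • b) n`, `a, b ∈ lam`, `n ∈ N`;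
* `Dl Kh N` : some `D ≠ ⊤` : for `N ≤ E ∌ m` some `φ ∈ Kh` has `φ(E) ≤ D`, `φ m ∉ D` (helper471's `dual`, `N = N⁺`);
* `Bad.mem_PP` : `W_x ∩ W_{x'} ≤ W_e`, `e ∼ p` ⟹ `π(R_e) ≤ P⁺ = PP (ρ h) lam N`;
* `Bad.lam_le`, `Bad.inv_W`, `Bad.inv_h` : `lam ≤ P⁺`, `P⁺` is invariant under `ρ(W_q)` and `ρ h`;
* **`exists_plane`** : the whole, for every `f ∈ W_q` with `ρ f ≠ 1` if `¬ DP inc W p q`.
-/

set_option autoImplicit false
set_option linter.unusedSectionVars false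

namespace Cfsg.Agent.Omega.NO3S.FullQ

open Subgroup Cfsg Cfsg.Agent.ZN Cfsg.Agent.MinSimple.VModule Cfsg.Agent.Omega.NOThree.Pts
open Cfsg.Agent.Omega.NO3S.FarQ Cfsg.Agent.Omega.NO3S.FarQ.Glue Cfsg.Agent.Omega.NO3S.FarQ.Free

section abs

variable {H M K : Type*} [Group H] [CommGroup M] [MulDistribMulAction H M] [CommGroup K]

/-- `P⁺`: the elements `(h • a) (h⁻¹ • b) n`. -/
def PP (h : H) (lam N : Subgroup M) : Subgroup M where
  carrier := {m | ∃ a ∈ lam, ∃ b ∈ lam, ∃ n ∈ N, m = (h • a) * (h⁻¹ • b) * n}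
  one_mem' := ⟨1, one_mem _, 1, one_mem _, 1, one_mem _, by rw [smul_one, smul_one, mul_one, mul_one]⟩
  mul_mem' := by
    rintro _ _ ⟨a, ha, b, hb, n, hn, rfl⟩ ⟨a', ha', b', hb', n', hn', rfl⟩
    refine ⟨a * a', mul_mem ha ha', b * b', mul_mem hb hb', n * n', mul_mem hn hn', ?_⟩
    rw [smul_mul', smul_mul']
    simp only [mul_assoc, mul_left_comm]
  inv_mem' := by
    rintro _ ⟨a, ha, b, hb, n, hn, rfl⟩
    refine ⟨a⁻¹, inv_mem ha, b⁻¹, inv_mem hb, n⁻¹, inv_mem hn, ?_⟩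
    rw [smul_inv', smul_inv', mul_inv, mul_inv]

theorem mem_PP {h : H} {lam N : Subgroup M} {m : M} :
    m ∈ PP h lam N ↔ ∃ a ∈ lam, ∃ b ∈ lam, ∃ n ∈ N, m = (h • a) * (h⁻¹ • b) * n := Iff.rfl

theorem smul_mem_PP {h : H} {lam N : Subgroup M} {a : M} (ha : a ∈ lam) : h • a ∈ PP h lam N :=
  ⟨a, ha, 1, one_mem _, 1, one_mem _, by rw [smul_one, mul_one, mul_one]⟩

theorem inv_smul_mem_PP {h : H} {lam N : Subgroup M} {a : M} (ha : a ∈ lam) : h⁻¹ • a ∈ PP h lam N :=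
  ⟨1, one_mem _, a, ha, 1, one_mem _, by rw [smul_one, one_mul, mul_one]⟩

theorem N_le_PP (h : H) (lam N : Subgroup M) : N ≤ PP h lam N := fun n hn =>
  ⟨1, one_mem _, 1, one_mem _, n, hn, by rw [smul_one, smul_one, one_mul, one_mul]⟩

/-- if `k` maps `h • lam`, `h⁻¹ • lam`, `N` into `P⁺` then it normalises `P⁺` -/
theorem PP_inv {h k : H} {lam N : Subgroup M} (h1 : ∀ a ∈ lam, k • h • a ∈ PP h lam N)
    (h2 : ∀ a ∈ lam, k • h⁻¹ • a ∈ PP h lam N) (h3 : ∀ n ∈ N, k • n ∈ N) :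
    ∀ m ∈ PP h lam N, k • m ∈ PP h lam N := by
  rintro _ ⟨a, ha, b, hb, n, hn, rfl⟩
  rw [smul_mul', smul_mul']
  exact mul_mem (mul_mem (h1 a ha) (h2 b hb)) (N_le_PP _ _ _ (h3 n hn))

/-- **The duality** (helper471's `dual`): for `N ≤ E ∌ m` some `φ ∈ Kh` has `φ(E) ≤ D`, `φ m ∉ D`. -/
def Dl (Kh : Subgroup (M →* K)) (N : Subgroup M) : Prop :=
  ∃ D : Subgroup K, D ≠ ⊤ ∧ ∀ E : Subgroup M, N ≤ E → ∀ m, m ∉ E → ∃ φ ∈ Kh, (∀ e ∈ E, φ e ∈ D) ∧ φ m ∉ D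

/-- `φ(lam) ≤ D ≠ K` implies `φ(lam) = 1` -/
theorem eq_one_of_le {T : Subgroup H} {lam U : Subgroup M} {Kh : Subgroup (M →* K)} (F : Flag T lam U Kh)
    {φ : M →* K} (hφ : φ ∈ Kh) {D : Subgroup K} (hD : D ≠ ⊤) (h : ∀ a ∈ lam, φ a ∈ D) : ∀ a ∈ lam, φ a = 1 := by
  by_contra hcon
  push Not at hcon
  obtain ⟨b, hb, hb1⟩ := hcon
  have hinj : ∀ a ∈ lam, φ a = 1 → a = 1 := by
    intro a ha h1
    by_contra h2
    exact hb1 (F.ti φ hφ a ha h2 h1 b hb)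
  have := F.finM
  have hfl : Finite lam := inferInstance
  have hK : Finite K := by
    have h1 : Nat.card K ≠ 0 := by
      rw [F.cardR]
      exact Nat.card_pos.ne'
    exact (Nat.card_ne_zero.1 h1).2
  have hi : Function.Injective (fun a : lam => φ a) := by
    intro a b hab
    have hab' : φ (a : M) = φ (b : M) := hab
    have h1 : φ ((a : M) * (b : M)⁻¹) = 1 := by
      rw [map_mul, map_inv, hab', mul_inv_cancel]
    exact Subtype.ext (mul_inv_eq_one.1 (hinj _ (mul_mem a.2 (inv_mem b.2)) h1))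
  have hb2 := (Function.Injective.bijective_of_nat_card_le hi (by rw [F.cardR])).2
  apply hD
  rw [eq_top_iff]
  intro k _
  obtain ⟨a, rfl⟩ := hb2 k
  exact h a a.2

end abs

variable {G X L : Type*} [Group G] [MulAction G X] [MulAction G L]
variable {inc : X → L → Prop} {R W : X → Subgroup G} {V : L → Subgroup G} {s t n : ℕ}
variable {H M K : Type*} [Group H] [CommGroup M] [MulDistribMulAction H M] [CommGroup K]
variable {p q r : X} {l : L} {f h : G}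
variable {Sy : Subgroup G} {ρ : G → H} {π : G → M} {ζ : K →* G} {T : Subgroup H} {lam U : Subgroup M}
  {Kh : Subgroup (M →* K)}

section geo

variable (D : Geom inc R W V s t) (F : RD inc R W V p l Sy ρ π ζ T lam U Kh)
include D F

/-- every element of `lam` is the image of an element of `R_r` -/
theorem exists_pre (hr : inc r l) (hrp : r ≠ p) {a : M} (ha : a ∈ lam) : ∃ v ∈ R r, π v = a := by
  obtain ⟨v, hv, rfl⟩ := (F.mlam a).1 ha
  obtain ⟨z, hz, v', hv', rfl⟩ := F.line r hr hrp v hv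
  refine ⟨v', hv', ?_⟩
  have hzW : z ∈ W p := D.R_le_W p hz
  have hvW : v' ∈ W p := D.V_le p l F.pl (D.R_le r l hr hv')
  rw [F.re.pmul z hzW v' hvW, (F.re.pker z hzW).2 hz, one_mul]

/-- `π(R_{g r}) ≤ ρ g • lam` for `g ∈ C_G(R_p)` -/
theorem pi_mem (hr : inc r l) {g : G} (hg : g ∈ centralizer (R p : Set G)) {v : G} (hv : v ∈ R (g • r)) :
    ∃ a ∈ lam, π v = ρ g • a := by
  have h1 : g⁻¹ * v * g ∈ R r := (D.R_smul_iff g).1 hv
  have h2 : g⁻¹ * v * g ∈ V l := D.R_le r l hr h1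
  have h3 : g⁻¹ * v * g ∈ W p := D.V_le p l F.pl h2
  refine ⟨π (g⁻¹ * v * g), (F.mlam _).2 ⟨_, h2, rfl⟩, ?_⟩
  rw [← F.re.act g hg _ h3]
  congr 1
  group

end geo

namespace Bad

variable (D : Geom inc R W V s t) (b : Free.Bad inc R W n p q r l f h)
  (F : RD inc R W V p l Sy ρ π ζ T lam U Kh)
include D b F

omit D in
theorem h_cent : h ∈ centralizer (R p : Set G) := mem_centralizer_iff.2 fun z hz => (b.hc z hz).symm

/-- **`W_x ∩ W_{x'} ≤ W_e`, `e ∼ p` implies `π(R_e) ≤ P⁺`.** -/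
theorem mem_PP {N : Subgroup M} (hN : Dl Kh N) {e : X} {m : L} (he : inc e m) (hp : inc p m) (hep : e ≠ p)
    (hY : ∀ y ∈ W (h • r), y ∈ W (f • h • r) → y ∈ W e) {a : G} (ha : a ∈ R e) : π a ∈ PP (ρ h) lam N := by
  by_contra hcon
  obtain ⟨D', hD', hdual⟩ := hN
  obtain ⟨φ, hφ, h1, h2⟩ := hdual (PP (ρ h) lam N) (N_le_PP _ _ _) _ hcon
  obtain ⟨k, hk, hk2⟩ := F.kh φ hφ
  have hkp : ∀ z ∈ R p, k * z = z * k := fun z hz => (mem_centralizer_iff.1 hk z hz).symm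
  have hInK : InK R W p k := ⟨hkp, fun w hw => by
    rw [hk2 w hw]
    exact (F.ran _).2 ⟨_, rfl⟩⟩
  have hcomm : ∀ w ∈ W p, φ (π w) = 1 → k * w = w * k := by
    intro w hw h3
    have h4 := hk2 w hw
    rw [h3, map_one, mul_inv_eq_one, mul_inv_eq_iff_eq_mul] at h4
    exact h4
  have hhc := h_cent b F
  have hhc' : h⁻¹ ∈ centralizer (R p : Set G) := inv_mem hhc
  -- `φ` on `ρ h • lam`, `ρ h⁻¹ • lam`
  have key : ∀ g : H, (∀ a ∈ lam, g • a ∈ PP (ρ h) lam N) → ∀ a ∈ lam, φ (g • a) = 1 := by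
    intro g hg
    obtain ⟨ψ, hψ, h3⟩ := F.flag.kh φ hφ g
    have h4 := eq_one_of_le F.flag hψ hD' (fun a ha => by rw [h3]; exact h1 _ (hg a ha))
    intro a ha
    rw [← h3]
    exact h4 a ha
  have kx : ∀ v ∈ R (h • r), k * v = v * k := by
    intro v hv
    obtain ⟨c, hc, e1⟩ := pi_mem D F b.rl hhc hv
    refine hcomm v (b.xW D hv) ?_
    rw [e1]
    exact key _ (fun a ha => smul_mem_PP ha) c hc
  have kx' : ∀ v ∈ R (f • h • r), k * v = v * k := by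
    intro v hv
    have hv' := hv
    rw [b.fx_eq D] at hv'
    obtain ⟨c, hc, e1⟩ := pi_mem D F b.rl hhc' hv'
    refine hcomm v (b.x'W D hv) ?_
    rw [e1, F.re.inv hhc]
    exact key _ (fun a ha => inv_smul_mem_PP ha) c hc
  have h5 := b.cent_of D he hp hep hY hInK kx kx' ha
  have h6 : a ∈ W p := D.V_le p m hp (D.R_le e m he ha)
  have h7 := hk2 a h6
  rw [h5, mul_inv_cancel_right, mul_inv_cancel] at h7
  have h8 : φ (π a) = 1 := F.inj (by rw [map_one]; exact h7.symm)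
  exact h2 (by rw [h8]; exact one_mem _)

/-- `lam ≤ P⁺` -/
theorem lam_le {N : Subgroup M} (hN : Dl Kh N) : lam ≤ PP (ρ h) lam N := by
  intro a ha
  obtain ⟨v, hv, rfl⟩ := exists_pre D F b.rl b.ne ha
  exact mem_PP D b F hN b.rl b.pl b.ne (fun y h1 h2 => (b.Y_mem D h1 h2).1) hv

/-- `π(R_{g e})` for `g` centralising `Y` and `R_p` -/
theorem smul_mem {N : Subgroup M} (hN : Dl Kh N) {e : X} {m : L} (he : inc e m) (hp : inc p m) (hep : e ≠ p)
    (hY : ∀ y ∈ W (h • r), y ∈ W (f • h • r) → y ∈ W e) {g : G} (hg : g ∈ centralizer (R p : Set G))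
    (hgY : ∀ y ∈ W (h • r), y ∈ W (f • h • r) → g * y = y * g) {v : G} (hv : v ∈ R e) :
    ρ g • π v ∈ PP (ρ h) lam N := by
  have hgp : g • p = p := Four.fix_p D hg
  have hvW : v ∈ W p := D.V_le p m hp (D.R_le e m he hv)
  rw [← F.re.act g hg v hvW]
  have h1 : inc p (g • m) := by
    have := D.inc_smul g _ _ hp
    rwa [hgp] at this
  refine mem_PP D b F hN (D.inc_smul g _ _ he) h1 ?_ ?_ (D.R_smul g e v hv)
  · intro h2
    rw [← hgp] at h2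
    exact hep (smul_left_cancel g h2)
  · intro y h2 h3
    have h4 := D.W_smul g e y (hY y h2 h3)
    rwa [hgY y h2 h3, mul_inv_cancel_right] at h4

/-- an element `g` centralising `Y` and `R_p` normalises `P⁺` -/
theorem inv_of {N : Subgroup M} (hN : Dl Kh N) (hNH : ∀ k : H, ∀ m ∈ N, k • m ∈ N) {g : G}
    (hg : g ∈ centralizer (R p : Set G)) (hgY : ∀ y ∈ W (h • r), y ∈ W (f • h • r) → g * y = y * g) :
    ∀ m ∈ PP (ρ h) lam N, ρ g • m ∈ PP (ρ h) lam N := by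
  have hhc := h_cent b F
  have hhc' : h⁻¹ ∈ centralizer (R p : Set G) := inv_mem hhc
  refine PP_inv ?_ ?_ (hNH _)
  · intro a ha
    obtain ⟨v, hv, rfl⟩ := exists_pre D F b.rl b.ne ha
    have hvW : v ∈ W p := D.V_le p l b.pl (D.R_le r l b.rl hv)
    rw [← F.re.act h hhc v hvW]
    exact smul_mem D b F hN (b.xm D) (b.px D) (b.x_ne D) (fun y h1 _ => h1) hg hgY (D.R_smul h r v hv)
  · intro a ha
    obtain ⟨v, hv, rfl⟩ := exists_pre D F b.rl b.ne ha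
    have hvW : v ∈ W p := D.V_le p l b.pl (D.R_le r l b.rl hv)
    rw [← F.re.inv hhc, ← F.re.act h⁻¹ hhc' v hvW]
    refine smul_mem D b F hN (b.xm' D) (b.px' D) (b.x'_ne D) (fun y _ h2 => h2) hg hgY ?_
    rw [b.fx_eq D]
    exact D.R_smul h⁻¹ r v hv

/-- **`P⁺` is invariant under `ρ(W_q)`.** -/
theorem inv_W {N : Subgroup M} (hN : Dl Kh N) (hNH : ∀ k : H, ∀ m ∈ N, k • m ∈ N) {g : G} (hg : g ∈ W q) :
    ∀ m ∈ PP (ρ h) lam N, ρ g • m ∈ PP (ρ h) lam N := by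
  refine inv_of D b F hN hNH ?_ fun y h1 h2 => b.com g hg y (b.Y_mem D h1 h2).1
  exact mem_centralizer_iff.2 fun z hz => (b.com g hg z (D.V_le r l b.rl (D.R_le p l b.pl hz))).symm

/-- **`P⁺` is invariant under `ρ h`.** -/
theorem inv_h {N : Subgroup M} (hN : Dl Kh N) (hNH : ∀ k : H, ∀ m ∈ N, k • m ∈ N) :
    ∀ m ∈ PP (ρ h) lam N, ρ h • m ∈ PP (ρ h) lam N :=
  inv_of D b F hN hNH (h_cent b F) fun _ h1 h2 => (b.Y_mem D h1 h2).2.1

end Bad

/-- **(2a)**: the mover of `f ∈ W_q`, `ρ f ≠ 1`, and its plane `P⁺ / N⁺`. -/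
theorem exists_plane [Finite G] (D : Geom inc R W V s t) (F : RD inc R W V p l Sy ρ π ζ T lam U Kh)
    (hc : Crit inc W n p q) (hn : 1 ≤ n) (hnd : ¬ DP inc W p q) (hrl : inc r l) (hwk : Walk inc (n - 1) r q)
    {N : Subgroup M} (hN : Dl Kh N) (hNH : ∀ k : H, ∀ m ∈ N, k • m ∈ N) {f : G} (hf : f ∈ W q) (hf1 : ρ f ≠ 1) :
    ∃ h : H, h ≠ 1 ∧ Odd (orderOf h) ∧ ρ f * h * (ρ f)⁻¹ = h⁻¹ ∧ lam ≤ PP h lam N ∧
      (∀ g ∈ W q, ∀ m ∈ PP h lam N, ρ g • m ∈ PP h lam N) ∧ ∀ m ∈ PP h lam N, h • m ∈ PP h lam N := by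
  obtain ⟨h, hh, ho, hi, hne, -, hmv, -⟩ := exists_mover_crit D F hc hn hrl hwk hf hf1
  have hhz : ∀ z ∈ R p, h * z = z * h := fun z hz => (mem_centralizer_iff.1 hh z hz).symm
  have hrp : r ≠ p := by
    rintro rfl
    exact hc.not_walk (by omega) hwk
  have hfc : f ∈ centralizer (R p : Set G) :=
    mem_centralizer_iff.2 fun z hz => (hc.symm.comm_R D hn hf hz).symm
  have hhp : h • p = p := Four.fix_p D hh
  have b : Free.Bad inc R W n p q r l f h :=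
    { crit := hc, pos := hn, pl := F.pl, rl := hrl, wk := hwk, hf := hf, hc := hhz, odd := ho, inv := hi, mv := hmv
      nd := fun h1 => hnd ⟨h • r, h • l, f, D.inc_smul h _ _ hrl, by
        have := D.inc_smul h _ _ F.pl
        rwa [hhp] at this, hf, hmv, h1⟩ }
  refine ⟨ρ h, hne, ?_, ?_, Bad.lam_le D b F hN, fun g hg => Bad.inv_W D b F hN hNH hg, Bad.inv_h D b F hN hNH⟩
  · -- the order of `ρ h` is odd
    have h1 : ρ h ^ orderOf h = 1 := by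
      rw [← rho_pow F.toRF F.flag hh, pow_orderOf_eq_one, F.re.one]
    exact Odd.of_dvd_nat ho (orderOf_dvd_of_pow_eq_one h1)
  · rw [← F.re.conj hfc hh, hi, F.re.inv hh]

end Cfsg.Agent.Omega.NO3S.FullQ
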