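import Cfsg.Agent.Omega.NO3S.FullQ.Cnt

/-!
# FULL, `q ≥ 4`: class P on the level of `M` (helper471 #21459, (2b), (2c), section 3)

* `Qm F π a₀ N lam` : `π : M → Q = M / N`, `π(lam) = F a₀`, `N ∩ lam = 1`;
* `stN N lam = C_H(lam mod N)` (`stN_eq : = st H a₀`);
* `Mv N lam A a` : the mover: `h` of odd order inverted by `a`, `P⁺ = h(lam) h⁻¹(lam) N` contains `lam` and is invariant
  under `A` and `h`;
* `dat` : `Dat` for `A ≤ O₂(stN N lam)` exact with movers;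
* `exists_theta` : the input of LEMMA TOR;
* `Dat.comm_mem : [M, A] ≤ lam N`, `Dat.N_le : [N, A] = 1`, `Dat.mem_zm : [m, A] ≤ N → m ∈ C_M(A)`;
* `smul_eq_of_mem` : two line vectors congruent modulo `N` are equal (after TOR).
-/

set_option autoImplicit false
set_option linter.unusedSectionVars false

namespace Cfsg.Agent.Omega.NO3S.FullQ.Cnt

open Subgroup Cfsg.Agent.ZN Cfsg.Agent.Omega.NO3S.FarQ
open Cfsg.Agent.MinSimple.VModule (le_o2 o2_le o2_isPGroup le_normalizer_o2)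
open Cfsg.Agent.ClassTwoFusion.Quad (cv mem_cv cv_anti)
open scoped Pointwise

variable {F H M Q : Type*} [Field F] [AddCommGroup Q] [Module F Q] [Group H] [DistribMulAction H Q]
  [SMulCommClass H F Q] [CommGroup M] [MulDistribMulAction H M]

/-- `C_H(lam mod N)` for `H`-invariant `N` -/
def stN (N lam : Subgroup M) (hN : ∀ (h : H), ∀ n ∈ N, h • n ∈ N) : Subgroup H where
  carrier := {h | ∀ a ∈ lam, (h • a) * a⁻¹ ∈ N}
  one_mem' := fun a _ => by rw [one_smul, mul_inv_cancel]; exact one_mem _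
  mul_mem' := fun {x y} hx hy a ha => by
    have e : (x * y) • a * a⁻¹ = (x • ((y • a) * a⁻¹)) * ((x • a) * a⁻¹) := by
      rw [mul_smul, smul_mul', smul_inv', mul_assoc, ← mul_assoc (x • a)⁻¹, inv_mul_cancel, one_mul]
    rw [e]
    exact mul_mem (hN x _ (hy a ha)) (hx a ha)
  inv_mem' := fun {x} hx a ha => by
    have h1 := hN x⁻¹ _ (inv_mem (hx a ha))
    rwa [mul_inv_rev, inv_inv, smul_mul', smul_inv', inv_smul_smul] at h1

variable (F) in
/-- **The `F`-module `Q = M / N`.** -/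
structure Qm (H : Type*) [Group H] [DistribMulAction H Q] [MulDistribMulAction H M] (π : M → Q) (a0 : Q)
    (N lam : Subgroup M) : Prop where
  pmul : ∀ m n, π (m * n) = π m + π n
  surj : Function.Surjective π
  act : ∀ (h : H) m, π (h • m) = h • π m
  ker : ∀ m, π m = 0 ↔ m ∈ N
  lam : ∀ v : Q, (∃ a ∈ lam, π a = v) ↔ v ∈ Submodule.span F {a0}
  ne : a0 ≠ 0

namespace Qm

variable {π : M → Q} {a0 : Q} {N lam : Subgroup M} (D : Qm F H π a0 N lam)
include D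

theorem map_one : π 1 = 0 := (D.ker 1).2 (one_mem _)

theorem map_inv (m : M) : π m⁻¹ = -π m := by
  have h3 := D.pmul m m⁻¹
  rw [mul_inv_cancel, D.map_one] at h3
  exact (neg_eq_of_add_eq_zero_right h3.symm).symm

theorem map_comm (h : H) (m : M) : π ((h • m) * m⁻¹) = h • π m - π m := by
  rw [D.pmul, D.act, D.map_inv, sub_eq_add_neg]

theorem inv (h : H) : ∀ n ∈ N, h • n ∈ N := fun n hn => by
  rw [← D.ker, D.act, (D.ker n).2 hn, smul_zero]

theorem mul_inv_mem {m n : M} (h : π m = π n) : m * n⁻¹ ∈ N := by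
  rw [← D.ker, D.pmul, D.map_inv, h, add_neg_cancel]

/-- `C_H(lam mod N) = C_H(a₀)` -/
theorem stN_eq : stN N lam D.inv = st H a0 := by
  ext h
  rw [MulAction.mem_stabilizer_iff]
  constructor
  · intro hh
    obtain ⟨a, ha, hπ⟩ := (D.lam a0).2 (Submodule.mem_span_singleton_self _)
    have h1 := (D.ker _).2 (hh a ha)
    rw [D.map_comm, hπ, sub_eq_zero] at h1
    exact h1
  · intro hh a ha
    obtain ⟨c, hc⟩ := Submodule.mem_span_singleton.1 ((D.lam (π a)).1 ⟨a, ha, rfl⟩)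
    rw [← D.ker, D.map_comm, ← hc, smul_comm, hh, sub_self]

/-- the plane -/
theorem mem_pln (h : H) (m : M) : m ∈ (h • lam) ⊔ (h⁻¹ • lam) ⊔ N ↔ π m ∈ pln F a0 h := by
  constructor
  · intro hm
    obtain ⟨x, hx, n, hn, rfl⟩ := Subgroup.mem_sup.1 hm
    obtain ⟨y, hy, z, hz, rfl⟩ := Subgroup.mem_sup.1 hx
    obtain ⟨a, ha, rfl⟩ := Subgroup.mem_smul_pointwise_iff_exists _ _ _ |>.1 hy
    obtain ⟨b, hb, rfl⟩ := Subgroup.mem_smul_pointwise_iff_exists _ _ _ |>.1 hz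
    obtain ⟨c, hc⟩ := Submodule.mem_span_singleton.1 ((D.lam (π a)).1 ⟨a, ha, rfl⟩)
    obtain ⟨d, hd⟩ := Submodule.mem_span_singleton.1 ((D.lam (π b)).1 ⟨b, hb, rfl⟩)
    rw [D.pmul, D.pmul, (D.ker n).2 hn, add_zero, D.act, D.act, ← hc, ← hd, smul_comm h, smul_comm h⁻¹]
    exact Submodule.mem_span_pair.2 ⟨c, d, rfl⟩
  · intro hm
    obtain ⟨c, d, hcd⟩ := Submodule.mem_span_pair.1 hm
    obtain ⟨a, ha, hπa⟩ := (D.lam (c • a0)).2 (Submodule.smul_mem _ _ (Submodule.mem_span_singleton_self _))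
    obtain ⟨b, hb, hπb⟩ := (D.lam (d • a0)).2 (Submodule.smul_mem _ _ (Submodule.mem_span_singleton_self _))
    have h1 : π m = π ((h • a) * (h⁻¹ • b)) := by
      rw [D.pmul, D.act, D.act, hπa, hπb, smul_comm h, smul_comm h⁻¹, hcd]
    have h2 := D.mul_inv_mem h1
    have e : m = ((h • a) * (h⁻¹ • b)) * (m * ((h • a) * (h⁻¹ • b))⁻¹) := by
      rw [mul_comm m, mul_inv_cancel_left]
    rw [e]
    refine mul_mem (Subgroup.mem_sup_left (mul_mem (Subgroup.mem_sup_left ?_) (Subgroup.mem_sup_right ?_)))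
      (Subgroup.mem_sup_right h2)
    · exact Subgroup.smul_mem_pointwise_smul _ _ _ ha
    · exact Subgroup.smul_mem_pointwise_smul _ _ _ hb

end Qm

/-- **The mover** (output of (2a)). -/
def Mv (N lam : Subgroup M) (A : Subgroup H) (a : H) : Prop :=
  ∃ h : H, h ≠ 1 ∧ Odd (orderOf h) ∧ a * h * a⁻¹ = h⁻¹ ∧ lam ≤ (h • lam) ⊔ (h⁻¹ • lam) ⊔ N ∧
    (∀ b ∈ A, ∀ m ∈ (h • lam) ⊔ (h⁻¹ • lam) ⊔ N, b • m ∈ (h • lam) ⊔ (h⁻¹ • lam) ⊔ N) ∧
    ∀ m ∈ (h • lam) ⊔ (h⁻¹ • lam) ⊔ N, h • m ∈ (h • lam) ⊔ (h⁻¹ • lam) ⊔ N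

section dat

variable {π : M → Q} {a0 : Q} {N lam : Subgroup M} {A : Subgroup H}

/-- a mover of `A` is a mover of `A₁ ≤ A` -/
theorem Mv.mono {A1 : Subgroup H} (h : A1 ≤ A) {a : H} (hm : Mv N lam A a) : Mv N lam A1 a := by
  obtain ⟨h', h1, h2, h3, h4, h5, h6⟩ := hm
  exact ⟨h', h1, h2, h3, h4, fun b hb => h5 b (h hb), h6⟩

/-- **`Dat`** -/
theorem dat (D : Qm F H π a0 N lam) (hsq : ∀ a ∈ A, a * a = 1) (ho : A ≤ ZN.o2 (stN N lam D.inv))
    (hex : (zm M A).index ≤ Nat.card A) (hmv : ∀ a ∈ A, a ≠ 1 → Mv N lam A a) : Dat F π a0 A where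
  pmul := D.pmul
  surj := D.surj
  act := D.act
  ne := D.ne
  sq := hsq
  fix := fun a ha => by
    have h1 := o2_le _ (ho ha)
    rw [D.stN_eq] at h1
    exact h1
  o2 := by rw [← D.stN_eq]; exact ho
  ex := hex
  mv := fun a ha ha1 => by
    obtain ⟨h, h1, h2, h3, h4, h5, h6⟩ := hmv a ha ha1
    obtain ⟨x, hx, hπ⟩ := (D.lam a0).2 (Submodule.mem_span_singleton_self _)
    refine ⟨h, h1, h2, h3, ?_, fun b hb v hv => ?_, fun v hv => ?_⟩
    · have h7 := (D.mem_pln h x).1 (h4 hx)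
      rwa [hπ] at h7
    · obtain ⟨m, rfl⟩ := D.surj v
      rw [← D.act, ← D.mem_pln h]
      exact h5 b hb m ((D.mem_pln h m).2 hv)
    · obtain ⟨m, rfl⟩ := D.surj v
      rw [← D.act, ← D.mem_pln h]
      exact h6 m ((D.mem_pln h m).2 hv)

variable [Finite F] [CharP F 2] [Finite H] [Finite M]

/-- **Input of LEMMA TOR.** -/
theorem exists_theta (D : Qm F H π a0 N lam) (E : Dat F π a0 A) (hA : A ≠ ⊥) (h4 : 4 ≤ Nat.card F)
    (hd : N ⊓ lam = ⊥) : ∃ θ : H, Odd (orderOf θ) ∧ (∀ n ∈ N, θ • n = n) ∧ (∀ a ∈ lam, θ • a ∈ lam ⊔ N) ∧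
      ∀ a ∈ lam, (θ • a) * a⁻¹ ∈ N → a = 1 := by
  have hF : 1 < Nat.card Fˣ := by
    have h1 : Nat.card F = Nat.card Fˣ + 1 := by
      classical
      let _ := Fintype.ofFinite F
      rw [Nat.card_eq_fintype_card, Nat.card_eq_fintype_card, Fintype.card_units]
      have := Fintype.card_pos (α := F)
      omega
    omega
  have := (Finite.one_lt_card_iff_nontrivial (α := Fˣ)).1 hF
  obtain ⟨u, hu⟩ := exists_ne (1 : Fˣ)
  obtain ⟨θ, h1, h2, h3⟩ := E.theta hA u.ne_zero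
  have hc : (u : F) - 1 ≠ 0 := by
    rw [sub_ne_zero]
    exact fun e => hu (Units.ext e)
  have key : ∀ a ∈ lam, ∃ c : F, c • a0 = π a := fun a ha =>
    Submodule.mem_span_singleton.1 ((D.lam (π a)).1 ⟨a, ha, rfl⟩)
  refine ⟨θ, h1, fun n hn => h2 n ((D.ker n).2 hn), fun a ha => ?_, fun a ha h5 => ?_⟩
  · obtain ⟨c, hc1⟩ := key a ha
    obtain ⟨b, hb, hπ⟩ := (D.lam ((c * u) • a0)).2 (Submodule.smul_mem _ _ (Submodule.mem_span_singleton_self _))
    have e1 : π (θ • a) = π b := by rw [D.act, ← hc1, smul_comm, h3, smul_smul, hπ]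
    have h6 := D.mul_inv_mem e1
    have e : θ • a = b * ((θ • a) * b⁻¹) := by rw [mul_comm (θ • a), mul_inv_cancel_left]
    rw [e]
    exact mul_mem (Subgroup.mem_sup_left hb) (Subgroup.mem_sup_right h6)
  · obtain ⟨c, hc1⟩ := key a ha
    rw [← D.ker, D.map_comm, ← hc1, smul_comm, h3, smul_smul, ← sub_smul] at h5
    have h6 : c * (u : F) - c = 0 := by
      by_contra hne
      exact D.ne ((smul_eq_zero_iff_right hne).1 h5)
    have h7 : c = 0 := by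
      have : c * ((u : F) - 1) = 0 := by rw [mul_sub, mul_one, h6]
      exact (mul_eq_zero.1 this).resolve_right hc
    rw [h7, zero_smul] at hc1
    have h8 : a ∈ N ⊓ lam := ⟨(D.ker a).1 hc1.symm, ha⟩
    rw [hd] at h8
    exact Subgroup.mem_bot.1 h8

/-- **`[M, A] ≤ lam N`** -/
theorem comm_mem (D : Qm F H π a0 N lam) (E : Dat F π a0 A) {b : H} (hb : b ∈ A) (m : M) :
    (b • m) * m⁻¹ ∈ lam ⊔ N := by
  obtain ⟨a, ha, hπ⟩ := (D.lam _).2 (E.le hb (π m))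
  rw [← D.map_comm] at hπ
  have h6 := D.mul_inv_mem hπ.symm
  have e : (b • m) * m⁻¹ = a * ((b • m) * m⁻¹ * a⁻¹) := by rw [mul_comm _ a⁻¹, mul_inv_cancel_left]
  rw [e]
  exact mul_mem (Subgroup.mem_sup_left ha) (Subgroup.mem_sup_right h6)

/-- **`[m, A] ≤ N` implies `m ∈ C_M(A)`** -/
theorem mem_zm (D : Qm F H π a0 N lam) (E : Dat F π a0 A) {m : M} (hm : ∀ b ∈ A, (b • m) * m⁻¹ ∈ N) :
    m ∈ zm M A :=
  E.fixM fun b hb => by
    have h1 := (D.ker _).2 (hm b hb)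
    rw [D.map_comm, sub_eq_zero] at h1
    exact h1

/-- **`[N, A] = 1`** -/
theorem N_le (D : Qm F H π a0 N lam) (E : Dat F π a0 A) : N ≤ zm M A :=
  fun n hn => mem_zm D E fun b _ => mul_mem (D.inv b n hn) (inv_mem hn)

/-- An element of `A` centralising `M / N` is trivial. -/
theorem eq_one (D : Qm F H π a0 N lam) (E : Dat F π a0 A) {b : H} (hb : b ∈ A) (h : ∀ m : M, (b • m) * m⁻¹ ∈ N) :
    b = 1 :=
  E.inj hb fun v => by
    obtain ⟨m, rfl⟩ := D.surj v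
    have h1 := (D.ker _).2 (h m)
    rw [D.map_comm, sub_eq_zero] at h1
    exact h1

end dat

/-- **Two line vectors congruent modulo `N` are equal**: `h(lam) ≤ lam N` implies `h(lam) ≤ lam` (TOR). -/
theorem smul_eq_of_mem [Finite H] {π : M → Q} {a0 : Q} {N lam : Subgroup M} (D : Qm F H π a0 N lam) (hd : N ⊓ lam = ⊥)
    (tor : ∀ h : H, (∀ a ∈ lam, h • a ∈ lam ⊔ N) → ∀ a ∈ lam, h • a ∈ lam) {g g' : H} {a b : M} (ha : a ∈ lam)
    (hb : b ∈ lam) (hab : (g • a) * (g' • b)⁻¹ ∈ N) : g • a = g' • b := by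
  by_cases ha1 : a = 1
  · subst ha1
    rw [smul_one, one_mul, ← smul_inv'] at hab
    have h1 := D.inv g'⁻¹ _ hab
    rw [inv_smul_smul] at h1
    have h2 : b⁻¹ ∈ N ⊓ lam := ⟨h1, lam.inv_mem hb⟩
    rw [hd, Subgroup.mem_bot, inv_eq_one] at h2
    rw [h2, smul_one, smul_one]
  have key : ∀ x ∈ lam, ∃ c : F, c • a0 = π x := fun x hx =>
    Submodule.mem_span_singleton.1 ((D.lam (π x)).1 ⟨x, hx, rfl⟩)
  obtain ⟨c, hc⟩ := key a ha
  obtain ⟨d, hd'⟩ := key b hb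
  have hc0 : c ≠ 0 := by
    rintro rfl
    rw [zero_smul] at hc
    have h2 : a ∈ N ⊓ lam := ⟨(D.ker a).1 hc.symm, ha⟩
    rw [hd, Subgroup.mem_bot] at h2
    exact ha1 h2
  obtain ⟨k, hk⟩ : ∃ k, k = g'⁻¹ * g := ⟨_, rfl⟩
  -- `k a ≡ b`
  have h1 : c • k • a0 = d • a0 := by
    have h2 := D.inv g'⁻¹ _ hab
    rw [smul_mul', smul_inv', inv_smul_smul, ← mul_smul, ← D.ker, D.pmul, D.map_inv, D.act, ← hc, ← hd', ← hk,
      smul_comm, add_neg_eq_zero] at h2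
    exact h2
  have h2 : k • a0 = (c⁻¹ * d) • a0 := by
    rw [mul_smul, ← h1, smul_smul, inv_mul_cancel₀ hc0, one_smul]
  have h3 : ∀ x ∈ lam, k • x ∈ lam ⊔ N := by
    intro x hx
    obtain ⟨e, he⟩ := key x hx
    have h4 : π (k • x) ∈ Submodule.span F {a0} := by
      rw [D.act, ← he, smul_comm, h2, smul_smul]
      exact Submodule.smul_mem _ _ (Submodule.mem_span_singleton_self _)
    obtain ⟨y, hy, hπ⟩ := (D.lam _).2 h4
    have h6 := D.mul_inv_mem hπ.symm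
    have e : k • x = y * ((k • x) * y⁻¹) := by rw [mul_comm (k • x), mul_inv_cancel_left]
    rw [e]
    exact mul_mem (Subgroup.mem_sup_left hy) (Subgroup.mem_sup_right h6)
  have h5 := tor k h3 a ha
  have h7 : (k • a) * b⁻¹ ∈ N := by
    have h2 := D.inv g'⁻¹ _ hab
    rwa [smul_mul', smul_inv', inv_smul_smul, ← mul_smul, ← hk] at h2
  have h6 : (k • a) * b⁻¹ ∈ N ⊓ lam := ⟨h7, lam.mul_mem h5 (lam.inv_mem hb)⟩
  rw [hd, Subgroup.mem_bot, mul_inv_eq_one] at h6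
  rw [← h6, hk, mul_smul, smul_inv_smul]

end Cfsg.Agent.Omega.NO3S.FullQ.Cnt
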