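import Cfsg.Agent.Omega.NO3S.FullQ.Orb
import Cfsg.Agent.Lib.GoldschmidtFusion

/-!
# NO-3S, `q ≥ 4`: LEMMA TOR (helper471 #21459, (2d))

`N` an `H`-invariant subgroup of `M`; `θ ∈ C_H(N)` normalises `lam N` and acts without fixed points on `lam N / N`.
Then `C_H(lam mod N) = C_H(lam)` (`Flag.tor`) and `N_H(lam N) = N_H(lam)` (`Flag.tor_norm`).

PROOF. `K₁ = C_H(N) ∩ C_H(lam mod N)` contains `[θ, T]`; by Sylow in `K₁ T` some `g ∈ K₁ θ` normalises `T`, so `g`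
normalises `lam` (UNIQ). `n₀ : lam → N` (`Orb.lean`) satisfies `n₀(g a) = g n₀(a) = n₀(a)`, so `n₀((g - 1) a) = 0`.
-/

set_option autoImplicit false
set_option linter.unusedSectionVars false

namespace Cfsg.Agent.Omega.NO3S.FullQ

open Subgroup Cfsg.Agent.ZN Cfsg.Agent.Omega.NO3S.PT Cfsg.Agent.Omega.NO3S.FarQ
open Cfsg.Agent.ClassTwoFusion.Quad (cv mem_cv cv_anti)

variable {H M K : Type*} [Group H] [CommGroup M] [MulDistribMulAction H M] [CommGroup K]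
variable {T : Subgroup H} {lam U : Subgroup M} {Kh : Subgroup (M →* K)}

theorem fixer_conj {N : Subgroup M} (hN : HInv H N) {g h : H} (hh : h ∈ fixer N) : g * h * g⁻¹ ∈ fixer N := by
  intro n hn
  rw [mul_smul, mul_smul, hh _ (hN g⁻¹ n hn), smul_inv_smul]

/-- injective on a finite subgroup: `g lam ≤ lam` gives equality -/
theorem mem_iff_of_le [Finite M] {lam : Subgroup M} {g : H} (h : ∀ a ∈ lam, g • a ∈ lam) (a : M) :
    a ∈ lam ↔ g • a ∈ lam := by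
  constructor
  · exact h a
  · intro h1
    have hinj : Function.Injective fun x : lam => (⟨g • (x : M), h x x.2⟩ : lam) := by
      intro x y hxy
      exact Subtype.ext (smul_left_cancel g (Subtype.ext_iff.1 hxy))
    obtain ⟨x, hx⟩ := (Finite.injective_iff_surjective.1 hinj) ⟨g • a, h1⟩
    have h2 := Subtype.ext_iff.1 hx
    have h3 : (x : M) = a := smul_left_cancel g h2
    rw [← h3]
    exact x.2

/-- an element normalising `lam N` normalises `C_H(lam mod N)` -/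
theorem cmod_conj [Finite M] {N lam : Subgroup M} {hN : HInv H N} {g : H} (hg : ∀ a ∈ lam, g • a ∈ lam ⊔ N) {c : H}
    (hc : c ∈ cmod N lam hN) : g * c * g⁻¹ ∈ cmod N lam hN := by
  have h1 : ∀ a ∈ lam ⊔ N, g • a ∈ lam ⊔ N := by
    intro a ha
    obtain ⟨b, hb, n, hn, rfl⟩ := mem_sup.1 ha
    rw [smul_mul']
    exact mul_mem (hg b hb) (mem_sup_right (hN g n hn))
  have h2 : ∀ a ∈ lam ⊔ N, (c • a) * a⁻¹ ∈ N := by
    intro a ha
    obtain ⟨b, hb, n, hn, rfl⟩ := mem_sup.1 ha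
    have e : c • (b * n) * (b * n)⁻¹ = ((c • b) * b⁻¹) * ((c • n) * n⁻¹) := by
      rw [smul_mul', mul_inv]
      exact mul_mul_mul_comm _ _ _ _
    rw [e]
    exact mul_mem (hc b hb) (mul_mem (hN c n hn) (inv_mem hn))
  intro a ha
  have h3 : g⁻¹ • a ∈ lam ⊔ N := by
    rw [mem_iff_of_le h1, smul_inv_smul]
    exact mem_sup_left ha
  have h4 := hN g _ (h2 _ h3)
  rw [smul_mul', smul_inv', smul_inv_smul] at h4
  rw [mul_smul, mul_smul]
  exact h4

section flag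

variable (F : Flag T lam U Kh)
include F

/-- **Frattini**: `θ` normalises `K₁`, `K₁` contains `[θ, T]` and is normalised by `T`: some `g ∈ K₁ θ` normalises `T`. -/
theorem _root_.Cfsg.Agent.Omega.NO3S.FarQ.Flag.frattini {K₁ : Subgroup H} {θ : H}
    (hT : ∀ t ∈ T, ∀ k ∈ K₁, t * k * t⁻¹ ∈ K₁) (hc : ∀ t ∈ T, θ * t * θ⁻¹ * t⁻¹ ∈ K₁) :
    ∃ k ∈ K₁, k * θ ∈ normalizer (T : Set H) := by
  have := F.finH
  have hf : Fact (Nat.Prime 2) := ⟨Nat.prime_two⟩
  have hTn : T ≤ normalizer (K₁ : Set H) := by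
    intro t ht
    rw [mem_normalizer_iff]
    intro k
    constructor
    · exact hT t ht k
    · intro h
      have h1 := hT t⁻¹ (inv_mem ht) _ h
      have e : t⁻¹ * (t * k * t⁻¹) * t⁻¹⁻¹ = k := by group
      rwa [e] at h1
  have hD : T.map (MulAut.conj θ).toMonoidHom ≤ K₁ ⊔ T := by
    rintro _ ⟨t, ht, rfl⟩
    show θ * t * θ⁻¹ ∈ K₁ ⊔ T
    have e : θ * t * θ⁻¹ = (θ * t * θ⁻¹ * t⁻¹) * t := by group
    rw [e]
    exact mul_mem (mem_sup_left (hc t ht)) (mem_sup_right ht)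
  have hidx : ¬ 2 ∣ T.relIndex (K₁ ⊔ T) := by
    intro h
    apply F.ndvd
    have h1 : T.relIndex (K₁ ⊔ T) * (K₁ ⊔ T).index = T.index := relIndex_mul_index le_sup_right
    rw [← h1]
    exact h.mul_right _
  obtain ⟨n, hn, hle⟩ := Cfsg.Agent.Lib.GoldschmidtFusion.exists_conj_le_in F.two hidx hD (F.two.map _)
  have hn' : n ∈ ((T ⊔ K₁ : Subgroup H) : Set H) := by rwa [sup_comm] at hn
  rw [coe_mul_of_left_le_normalizer_right T K₁ hTn] at hn'
  obtain ⟨t, ht, k, hk, rfl⟩ := Set.mem_mul.1 hn'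
  refine ⟨k, hk, ?_⟩
  have h1 : ∀ s ∈ T, (k * θ) * s * (k * θ)⁻¹ ∈ T := by
    intro s hs
    have h2 : t * k * (θ * s * θ⁻¹) * (t * k)⁻¹ ∈ T := hle ⟨θ * s * θ⁻¹, ⟨s, hs, rfl⟩, rfl⟩
    have h3 := mul_mem (mul_mem (inv_mem ht) h2) ht
    have e : t⁻¹ * (t * k * (θ * s * θ⁻¹) * (t * k)⁻¹) * t = (k * θ) * s * (k * θ)⁻¹ := by group
    rwa [e] at h3
  rw [mem_normalizer_iff]
  intro s
  constructor
  · exact h1 s
  · intro hs
    have hinj : Function.Injective fun x : T => (⟨(k * θ) * x * (k * θ)⁻¹, h1 x x.2⟩ : T) := by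
      intro x y hxy
      have h4 := Subtype.ext_iff.1 hxy
      exact Subtype.ext (mul_left_cancel (mul_right_cancel h4))
    obtain ⟨x, hx⟩ := (Finite.injective_iff_surjective.1 hinj) ⟨_, hs⟩
    have h4 := Subtype.ext_iff.1 hx
    have h5 : (x : H) = s := mul_left_cancel (mul_right_cancel h4)
    rw [← h5]
    exact x.2

/-- **LEMMA TOR** -/
theorem _root_.Cfsg.Agent.Omega.NO3S.FarQ.Flag.tor {N : Subgroup M} (hN : HInv H N) {θ : H} (hθ : ∀ n ∈ N, θ • n = n)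
    (hθl : ∀ a ∈ lam, θ • a ∈ lam ⊔ N) (hθf : ∀ a ∈ lam, (θ • a) * a⁻¹ ∈ N → a = 1) {h : H}
    (hh : ∀ a ∈ lam, (h • a) * a⁻¹ ∈ N) : h ∈ fixer lam := by
  have := F.finH
  have := F.finM
  have hθ' : θ ∈ fixer N := hθ
  obtain ⟨k, hk, hg⟩ := F.frattini (K₁ := fixer N ⊓ cmod N lam hN) (θ := θ) (fun t ht k hk => by
    have ht' : t ∈ cmod N lam hN := fixer_le_cmod (F.T_le ht)
    exact Subgroup.mem_inf.2 ⟨fixer_conj hN hk.1, mul_mem (mul_mem ht' hk.2) (inv_mem ht')⟩) (fun t ht => by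
    have ht' : t ∈ cmod N lam hN := fixer_le_cmod (F.T_le ht)
    refine Subgroup.mem_inf.2 ⟨?_, mul_mem (cmod_conj hθl ht') (inv_mem ht')⟩
    have e : θ * t * θ⁻¹ * t⁻¹ = θ * (t * θ⁻¹ * t⁻¹) := by group
    rw [e]
    exact mul_mem hθ' (fixer_conj hN (inv_mem hθ')))
  have hgl : ∀ a ∈ lam, (k * θ) • a ∈ lam := F.norm _ hg
  have hgN : ∀ n ∈ N, (k * θ) • n = n := fun n hn => by rw [mul_smul, hθ n hn, hk.1 n hn]
  have hgf : ∀ a ∈ lam, (k * θ) • a = a → a = 1 := by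
    intro a ha hfix
    refine hθf a ha ?_
    obtain ⟨b, hb, n, hn, e⟩ := mem_sup.1 (hθl a ha)
    -- `k • (θ • a) ≡ θ • a` modulo `N`
    have h1 : (k • (θ • a)) * (θ • a)⁻¹ ∈ N := by
      rw [← e]
      have e2 : k • (b * n) * (b * n)⁻¹ = ((k • b) * b⁻¹) * ((k • n) * n⁻¹) := by
        rw [smul_mul', mul_inv]
        exact mul_mul_mul_comm _ _ _ _
      rw [e2]
      exact mul_mem (hk.2 b hb) (mul_mem (hN k n hn) (inv_mem hn))
    rw [← mul_smul, hfix] at h1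
    have h2 := inv_mem h1
    rwa [mul_inv_rev, inv_inv] at h2
  have key : ∀ a ∈ lam, n0 N lam hN a = 1 := by
    -- `a ↦ (g a) a⁻¹` is onto `lam`
    have hinj : Function.Injective fun x : lam => (⟨((k * θ) • (x : M)) * (x : M)⁻¹, mul_mem (hgl x x.2) (inv_mem x.2)⟩ : lam) := by
      intro x y hxy
      have h4 := Subtype.ext_iff.1 hxy
      have h5 : (k * θ) • ((x : M) * (y : M)⁻¹) = (x : M) * (y : M)⁻¹ := by
        rw [smul_mul', smul_inv']
        have h6 : ((k * θ) • (x : M)) * (x : M)⁻¹ = ((k * θ) • (y : M)) * (y : M)⁻¹ := h4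
        rw [mul_inv_eq_iff_eq_mul] at h6
        rw [h6]
        have h7 : (k * θ) • (y : M) * (y : M)⁻¹ * (x : M) * ((k * θ) • (y : M))⁻¹ = (x : M) * (y : M)⁻¹ := by
          rw [mul_comm ((k * θ) • (y : M)) (y : M)⁻¹, mul_assoc, mul_assoc, mul_left_comm ((k * θ) • (y : M)),
            mul_inv_cancel, mul_one, mul_comm]
        exact h7
      have h8 := hgf _ (mul_mem x.2 (inv_mem y.2)) h5
      exact Subtype.ext (mul_inv_eq_one.1 h8)
    intro b hb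
    obtain ⟨x, hx⟩ := (Finite.injective_iff_surjective.1 hinj) ⟨b, hb⟩
    have h4 : ((k * θ) • (x : M)) * (x : M)⁻¹ = b := Subtype.ext_iff.1 hx
    have hiff := mem_iff_of_le hgl
    have h5 := n0_smul (hN := hN) hiff x.2
    rw [hgN _ (F.n0_mem x.2)] at h5
    have h6 : n0 N lam hN ((k * θ) • (x : M)) * n0 N lam hN (x : M)⁻¹ = 1 := by
      rw [h5, ← n0_mul, mul_inv_cancel, n0_one]
    rw [← h4, n0_mul, h6]
  intro a ha
  exact fix_of_n0 ha (key a ha) (mem_cmod.2 hh)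

/-- **LEMMA TOR**, the normaliser -/
theorem _root_.Cfsg.Agent.Omega.NO3S.FarQ.Flag.tor_norm {N : Subgroup M} (hN : HInv H N)
    (htor : ∀ h : H, (∀ a ∈ lam, (h • a) * a⁻¹ ∈ N) → h ∈ fixer lam) {h : H} (hh : ∀ a ∈ lam, h • a ∈ lam ⊔ N) :
    ∀ a ∈ lam, h • a ∈ lam := by
  have := F.finM
  obtain ⟨k, hk, hg⟩ := F.frattini (K₁ := cmod N lam hN) (θ := h) (fun t ht k hk => by
    have ht' : t ∈ cmod N lam hN := fixer_le_cmod (F.T_le ht)
    exact mul_mem (mul_mem ht' hk) (inv_mem ht')) (fun t ht => by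
    have ht' : t ∈ cmod N lam hN := fixer_le_cmod (F.T_le ht)
    exact mul_mem (cmod_conj hh ht') (inv_mem ht'))
  intro a ha
  have h1 := F.norm _ hg a ha
  have h2 : k⁻¹ • ((k * h) • a) = (k * h) • a := inv_mem (htor k hk) _ h1
  rw [mul_smul, inv_smul_smul, ← mul_smul] at h2
  rw [h2]
  exact h1

end flag

end Cfsg.Agent.Omega.NO3S.FullQ
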