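import Cfsg.Agent.Omega.NO3S.FullQ.Base
import Cfsg.Agent.Omega.NO3S.FullQ.Mover
import Cfsg.Agent.Omega.NO3S.FullQ.Three
import Cfsg.Agent.Omega.NO3S.FullQ.Tor
import Cfsg.Agent.Omega.NO3S.FullQ.Front

/-!
# FullB, `q ≥ 4`: the glue of class P (#21459 sections 2, 3, helper471; typed by helper312)

* `dl_Np`, `PP_eq`, `np_inf`: 471's duality and 649's `⊔` in the form used by `Mover.lean`;
* `mv_of`: every `1 ≠ a ∈ A = ρ(W_q)` of a critical pair without (D) has a mover `Cnt.Mv (Np Kh) lam A a`;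
* `PA Kh lam A₁ hN` : class P for `A₁`: `A₁ ≠ 1`, `|M : C_M(A₁)| ≤ |A₁|`, `[N⁺, A₁] = 1`, `A₁ ≤ O₂(C_H(lam mod N⁺))`;
* `exists_theta` : `θ` for LEMMA TOR, from `PA` for one subgroup of one `A`;
* `Tor`, `tor_of` : the conclusion of LEMMA TOR, from `PA` for one subgroup of one `A`;
* `dat_of`, `W0.dat` : after TOR `Cnt.Dat` holds for ALL critical pairs.
-/

set_option autoImplicit false
set_option linter.unusedSectionVars false

namespace Cfsg.Agent.Omega.NO3S.FullQ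

open Subgroup Cfsg Cfsg.Agent.ZN Cfsg.Agent.MinSimple.VModule Cfsg.Agent.Omega.NOThree.Pts
open Cfsg.Agent.Omega.NO3S.FarQ Cfsg.Agent.Omega.NO3S.FarQ.Glue Cfsg.Agent.Omega.NO3S.FarQ.Free
open Cfsg.Agent.Omega.NO3S.FarQ.Asm
open scoped Pointwise

section abs

variable {H M K : Type*} [Group H] [CommGroup M] [MulDistribMulAction H M] [CommGroup K]
variable {T : Subgroup H} {lam U : Subgroup M} {Kh : Subgroup (M →* K)}

theorem dl_Np (F : Flag T lam U Kh) : Dl Kh (Np Kh) := by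
  obtain ⟨D, hD⟩ := F.exists_index_two
  exact ⟨D, ne_top_of_index hD, fun E hE m hm => F.dual hD ((Mt_le_Np Kh (ne_top_of_index hD)).trans hE) hm⟩

theorem PP_eq (h : H) (lam N : Subgroup M) : PP h lam N = (h • lam) ⊔ (h⁻¹ • lam) ⊔ N := by
  apply le_antisymm
  · rintro _ ⟨a, ha, b, hb, n, hn, rfl⟩
    exact mul_mem (Subgroup.mem_sup_left (mul_mem
      (Subgroup.mem_sup_left (Subgroup.smul_mem_pointwise_smul _ _ _ ha))
      (Subgroup.mem_sup_right (Subgroup.smul_mem_pointwise_smul _ _ _ hb)))) (Subgroup.mem_sup_right hn)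
  · refine sup_le (sup_le ?_ ?_) (N_le_PP _ _ _)
    · intro x hx
      obtain ⟨a, ha, rfl⟩ := (Subgroup.mem_smul_pointwise_iff_exists _ _ _).1 hx
      exact smul_mem_PP ha
    · intro x hx
      obtain ⟨a, ha, rfl⟩ := (Subgroup.mem_smul_pointwise_iff_exists _ _ _).1 hx
      exact inv_smul_mem_PP ha

/-- `N⁺ ∩ lam = 1` if something `≠ 1` centralises `N⁺` -/
theorem np_inf (F : Flag T lam U Kh) {A1 : Subgroup H} (h1 : A1 ≠ ⊥) (h2 : Np Kh ≤ zm M A1) : Np Kh ⊓ lam = ⊥ := by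
  rw [eq_bot_iff]
  intro a ha
  obtain ⟨⟨j, hj⟩, hj1⟩ := Subgroup.ne_bot_iff_exists_ne_one.1 h1
  by_contra hne
  refine hj1 (Subtype.ext ?_)
  exact F.eq_one_of_cent F.hinv_Np ha.2 (fun e => hne (mem_bot.2 e)) ha.1 fun n hn => h2 hn j hj

/-- **Class P for `A₁`.** -/
structure PA (Kh : Subgroup (M →* K)) (lam : Subgroup M) (A1 : Subgroup H)
    (hN : ∀ (h : H), ∀ n ∈ Np Kh, h • n ∈ Np Kh) : Prop where
  ne : A1 ≠ ⊥
  ex : (zm M A1).index ≤ Nat.card A1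
  cent : Np Kh ≤ zm M A1
  o2 : A1 ≤ ZN.o2 (Cnt.stN (Np Kh) lam hN)

/-- **The conclusion of LEMMA TOR.** -/
structure Tor (H : Type*) [Group H] [MulDistribMulAction H M] (N lam : Subgroup M) : Prop where
  fix : ∀ h : H, (∀ a ∈ lam, (h • a) * a⁻¹ ∈ N) → ∀ a ∈ lam, h • a = a
  norm : ∀ h : H, (∀ a ∈ lam, h • a ∈ lam ⊔ N) → ∀ a ∈ lam, h • a ∈ lam

theorem Tor.stN_eq {N lam : Subgroup M} (h : Tor H N lam) (hN : ∀ (h : H), ∀ n ∈ N, h • n ∈ N) :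
    Cnt.stN N lam hN = fixer lam := by
  ext x
  constructor
  · exact fun hx => h.fix x hx
  · intro hx a ha
    rw [hx a ha, mul_inv_cancel]
    exact one_mem _

section qm

variable {F Q : Type*} [Field F] [AddCommGroup Q] [Module F Q] [DistribMulAction H Q] [SMulCommClass H F Q]
variable {π' : M → Q} {a0 : Q}

theorem card_lam {N : Subgroup M} (D : Cnt.Qm F H π' a0 N lam) (hd : N ⊓ lam = ⊥) : Nat.card lam = Nat.card F := by
  have h1 : ∀ a : lam, ∃ c : F, c • a0 = π' a := fun a =>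
    Submodule.mem_span_singleton.1 ((D.lam _).1 ⟨a, a.2, rfl⟩)
  choose c hc using h1
  refine Nat.card_congr (Equiv.ofBijective c ⟨?_, ?_⟩)
  · intro a b hab
    have h2 : π' (a : M) = π' (b : M) := by rw [← hc, ← hc, hab]
    have h3 : (a : M) * (b : M)⁻¹ ∈ N ⊓ lam := ⟨D.mul_inv_mem h2, lam.mul_mem a.2 (lam.inv_mem b.2)⟩
    rw [hd, mem_bot, mul_inv_eq_one] at h3
    exact Subtype.ext h3
  · intro d
    obtain ⟨a, ha, h2⟩ := (D.lam (d • a0)).2 (Submodule.smul_mem _ _ (Submodule.mem_span_singleton_self _))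
    refine ⟨⟨a, ha⟩, ?_⟩
    have h3 : (c ⟨a, ha⟩ - d) • a0 = 0 := by rw [sub_smul, hc ⟨a, ha⟩, ← h2, sub_self]
    by_contra hne
    exact D.ne ((smul_eq_zero_iff_right (sub_ne_zero.2 hne)).1 h3)

variable [Finite F] [CharP F 2]

/-- **The input of LEMMA TOR.** -/
theorem exists_theta (Fl : Flag T lam U Kh) (D : Cnt.Qm F H π' a0 (Np Kh) lam) {A A1 : Subgroup H}
    (hE : Exact lam A) (hA1 : A1 ≤ A) (h1 : PA Kh lam A1 D.inv)
    (hmv : ∀ a ∈ A, a ≠ 1 → Cnt.Mv (Np Kh) lam A a) :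
    Np Kh ⊓ lam = ⊥ ∧ ∃ θ : H, Odd (orderOf θ) ∧ (∀ n ∈ Np Kh, θ • n = n) ∧ (∀ a ∈ lam, θ • a ∈ lam ⊔ Np Kh) ∧
      ∀ a ∈ lam, (θ • a) * a⁻¹ ∈ Np Kh → a = 1 := by
  have := Fl.finH
  have := Fl.finM
  have hd := np_inf Fl h1.ne h1.cent
  have E : Cnt.Dat F π' a0 A1 := Cnt.dat D (fun a ha => hE.sq a (hA1 ha)) h1.o2 h1.ex
    fun a ha ha1 => (hmv a (hA1 ha) ha1).mono hA1
  refine ⟨hd, Cnt.exists_theta D E h1.ne ?_ hd⟩
  rw [← card_lam D hd]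
  exact Fl.four

/-- **LEMMA TOR for class P.** -/
theorem tor_abs (Fl : Flag T lam U Kh) (D : Cnt.Qm F H π' a0 (Np Kh) lam) {A A1 : Subgroup H}
    (hE : Exact lam A) (hA1 : A1 ≤ A) (h1 : PA Kh lam A1 D.inv)
    (hmv : ∀ a ∈ A, a ≠ 1 → Cnt.Mv (Np Kh) lam A a) : Tor H (Np Kh) lam := by
  obtain ⟨-, θ, -, h2, h3, h4⟩ := exists_theta Fl D hE hA1 h1 hmv
  have h5 : ∀ h : H, (∀ a ∈ lam, (h • a) * a⁻¹ ∈ Np Kh) → h ∈ fixer lam := fun h hh =>
    Fl.tor Fl.hinv_Np h2 h3 h4 hh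
  exact ⟨fun h hh => h5 h hh, fun h hh => Fl.tor_norm Fl.hinv_Np h5 hh⟩

/-- **`Dat` for every exact `A` with movers, after TOR.** -/
theorem dat_of_tor (D : Cnt.Qm F H π' a0 (Np Kh) lam) (ht : Tor H (Np Kh) lam) {A : Subgroup H}
    (hE : Exact lam A) (hmv : ∀ a ∈ A, a ≠ 1 → Cnt.Mv (Np Kh) lam A a) : Cnt.Dat F π' a0 A :=
  Cnt.dat D hE.sq (by rw [ht.stN_eq D.inv]; exact hE.le) hE.card.ge hmv

end qm

end abs

variable {G X L : Type*} [Group G] [MulAction G X] [MulAction G L]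
variable {inc : X → L → Prop} {R W : X → Subgroup G} {V : L → Subgroup G} {s t n : ℕ}
variable {H M K : Type*} [Group H] [CommGroup M] [MulDistribMulAction H M] [CommGroup K]
variable {p q r : X} {l : L}
variable {Sy : Subgroup G} {ρ : G → H} {π : G → M} {ζ : K →* G} {T : Subgroup H} {lam U : Subgroup M}
  {Kh : Subgroup (M →* K)}

/-- **The mover of every `1 ≠ a ∈ A = ρ(W_q)`** ((p, q) critical without (D), `r` on `l`, `d(r, q) = n - 1`). -/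
theorem mv_of [Finite G] (D : Geom inc R W V s t) (F : RD inc R W V p l Sy ρ π ζ T lam U Kh)
    (hc : Crit inc W n p q) (hn : 1 ≤ n) (hnd : ¬ DP inc W p q) (hrl : inc r l) (hwk : Walk inc (n - 1) r q) :
    ∀ a ∈ im F.re (W q) (W_le_cent D hc hn), a ≠ 1 →
      Cnt.Mv (Np Kh) lam (im F.re (W q) (W_le_cent D hc hn)) a := by
  rintro _ ⟨f, hf, rfl⟩ hf1
  obtain ⟨h, h1, h2, h3, h4, h5, h6⟩ := exists_plane D F hc hn hnd hrl hwk (dl_Np F.flag) F.flag.hinv_Np hf hf1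
  rw [PP_eq] at h4
  simp only [PP_eq] at h5 h6
  refine ⟨h, h1, h2, h3, h4, ?_, h6⟩
  rintro _ ⟨g, hg, rfl⟩
  exact h5 g hg

/-- exactness of `A = ρ(W_q)` -/
theorem exact_of [Finite G] (D : Geom inc R W V s t) (F : RD inc R W V p l Sy ρ π ζ T lam U Kh) (hn : 1 ≤ n)
    (hE : ExP inc R W V n p q) (hrl : inc r l) (hwk : Walk inc (n - 1) r q) :
    Exact lam (im F.re (W q) (W_le_cent D hE.crit hn)) :=
  RF.exact D F.toRF (hE.ex r l hwk.symm hrl F.pl)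

section qm

variable {F' Q : Type*} [Field F'] [AddCommGroup Q] [Module F' Q] [DistribMulAction H Q] [SMulCommClass H F' Q]
variable {π' : M → Q} {a0 : Q} [Finite F'] [CharP F' 2]

/-- **`Dat` for every critical pair, after TOR.** -/
theorem dat_of [Finite G] (D : Geom inc R W V s t) (F : RD inc R W V p l Sy ρ π ζ T lam U Kh) (hn : 1 ≤ n)
    (hE : ExP inc R W V n p q) (hnd : ¬ DP inc W p q) (hrl : inc r l) (hwk : Walk inc (n - 1) r q)
    (Qd : Cnt.Qm F' H π' a0 (Np Kh) lam) (ht : Tor H (Np Kh) lam) :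
    Cnt.Dat F' π' a0 (im F.re (W q) (W_le_cent D hE.crit hn)) :=
  dat_of_tor Qd ht (exact_of D F hn hE hrl hwk) (mv_of D F hE.crit hn hnd hrl hwk)

/-- **`θ` from class P for one critical pair.** -/
theorem theta_of [Finite G] (D : Geom inc R W V s t) (F : RD inc R W V p l Sy ρ π ζ T lam U Kh) (hn : 1 ≤ n)
    (hE : ExP inc R W V n p q) (hnd : ¬ DP inc W p q) (hrl : inc r l) (hwk : Walk inc (n - 1) r q)
    (Qd : Cnt.Qm F' H π' a0 (Np Kh) lam) {A1 : Subgroup H} (hA1 : A1 ≤ im F.re (W q) (W_le_cent D hE.crit hn))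
    (h1 : PA Kh lam A1 Qd.inv) :
    Np Kh ⊓ lam = ⊥ ∧ ∃ θ : H, Odd (orderOf θ) ∧ (∀ n ∈ Np Kh, θ • n = n) ∧ (∀ a ∈ lam, θ • a ∈ lam ⊔ Np Kh) ∧
      ∀ a ∈ lam, (θ • a) * a⁻¹ ∈ Np Kh → a = 1 :=
  exists_theta F.flag Qd (exact_of D F hn hE hrl hwk) hA1 h1 (mv_of D F hE.crit hn hnd hrl hwk)

/-- **TOR from class P for one critical pair.** -/
theorem tor_of [Finite G] (D : Geom inc R W V s t) (F : RD inc R W V p l Sy ρ π ζ T lam U Kh) (hn : 1 ≤ n)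
    (hE : ExP inc R W V n p q) (hnd : ¬ DP inc W p q) (hrl : inc r l) (hwk : Walk inc (n - 1) r q)
    (Qd : Cnt.Qm F' H π' a0 (Np Kh) lam) {A1 : Subgroup H} (hA1 : A1 ≤ im F.re (W q) (W_le_cent D hE.crit hn))
    (h1 : PA Kh lam A1 Qd.inv) : Tor H (Np Kh) lam :=
  tor_abs F.flag Qd (exact_of D F hn hE hrl hwk) hA1 h1 (mv_of D F hE.crit hn hnd hrl hwk)

/-- **After TOR: `Dat` for all critical pairs of the world W0**, at a frame over the same `(H, M, T, lam, U, K̂)`. -/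
theorem W0.dat [Finite G] (h : W0 inc R W V n) (D : Geom inc R W V s t)
    (F : Frm inc R W V p l Sy ρ π ζ T lam U Kh) (hn : 1 ≤ n) (Qd : Cnt.Qm F' H π' a0 (Np Kh) lam)
    (ht : Tor H (Np Kh) lam) {a b c : X} {m : L} (hc : Crit inc W n a b) (ham : inc a m) (hcm : inc c m)
    (hwk : Walk inc (n - 1) c b) :
    ∃ (Sy₁ : Subgroup G) (ρ₁ : G → H) (π₁ : G → M) (ζ₁ : K →* G)
      (F₁ : Frm inc R W V a m Sy₁ ρ₁ π₁ ζ₁ T lam U Kh),
      Exact lam (im F₁.re (W b) (W_le_cent D hc hn)) ∧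
      Cnt.Dat F' π' a0 (im F₁.re (W b) (W_le_cent D hc hn)) := by
  obtain ⟨Sy₁, ρ₁, π₁, ζ₁, F₁⟩ := F.at_flag D ham
  exact ⟨Sy₁, ρ₁, π₁, ζ₁, F₁, exact_of D F₁.toRD hn (h.ex a b hc) hcm hwk,
    dat_of D F₁.toRD hn (h.ex a b hc) (h.nd a b hc) hcm hwk Qd ht⟩

end qm

end Cfsg.Agent.Omega.NO3S.FullQ
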