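import Cfsg.Agent.Omega.NO3S.FullQ.Kap

/-!
# NO-3S, `FullB`, `q ≥ 4`, class P (helper471 #21459, section 4, with helper973's fill-in (s1), (s2))

`Q = M / N⁺` is an `F`-space, `H` acts `F`-linearly, `a₀` generates the image of `lam`.

* `Lv π lam a₀` : the line vectors;
* `Tr π x φ` : for all `c` some `e ∈ H` acts as `v + c φ(v) x` on `Q` and trivially on `ker π`;
* `Lv.fix` : such an `e` fixes every `m` with `φ (π m) = 0`;
* `Lv.plane`, `Lv.val` : `[m, e] = σ (φ m) + k ((φ m)² / t)`;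
* `Lv.le_lam` : two independent `φ` ⟹ `[M, e] ≤ lam`.
-/

set_option autoImplicit false
set_option linter.unusedSectionVars false

namespace Cfsg.Agent.Omega.NO3S.FullQ

variable {F Q H M : Type*} [Field F] [CharP F 2] [AddCommGroup Q] [Module F Q] [Group H] [DistribMulAction H Q]
  [SMulCommClass H F Q] [AddCommGroup M] [DistribMulAction H M]

variable (F H) in
/-- the line vectors of `M` over `Q = M / N⁺` -/
structure Lv (π : M →+ Q) (lam : AddSubgroup M) (a0 : Q) : Prop where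
  two : ∀ m : M, m + m = 0
  act : ∀ (h : H) (m : M), π (h • m) = h • π m
  ne : a0 ≠ 0
  lamc : ∀ a ∈ lam, ∃ c : F, π a = c • a0
  clam : ∀ c : F, ∃ a ∈ lam, π a = c • a0
  uniq : ∀ h h' : H, ∀ a ∈ lam, ∀ b ∈ lam, π (h • a) = π (h' • b) → h • a = h' • b
  gen : ∀ N : AddSubgroup M, (∀ h : H, ∀ a ∈ lam, h • a ∈ N) → N = ⊤

variable (H) in
/-- `e` acts as `v + φ(v) x` on `Q`, trivially on `ker π` -/
def IsE (π : M →+ Q) (x : Q) (φ : Q →ₗ[F] F) (e : H) : Prop :=
  (∀ v : Q, e • v = v + φ v • x) ∧ ∀ m : M, π m = 0 → e • m = m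

variable (H) in
/-- all `F`-multiples are realised -/
def Tr (π : M →+ Q) (x : Q) (φ : Q →ₗ[F] F) : Prop := ∀ c : F, ∃ e : H, IsE H π x (c • φ) e

variable (H) in
/-- `m` is a line vector over `v` -/
def LVec (π : M →+ Q) (lam : AddSubgroup M) (v : Q) (m : M) : Prop := ∃ h : H, ∃ a ∈ lam, m = h • a ∧ π m = v

theorem v_add_v (F : Type*) {Q : Type*} [Field F] [CharP F 2] [AddCommGroup Q] [Module F Q] (v : Q) : v + v = 0 := by
  have h : ((1 : F) + 1) • v = 0 := by rw [CharTwo.add_self_eq_zero, zero_smul]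
  rwa [add_smul, one_smul] at h

section basics

variable {π : M →+ Q} {x : Q} {φ ψ : Q →ₗ[F] F}

omit [CharP F 2] in
theorem Tr.smul (h : Tr H π x φ) (c : F) : Tr H π x (c • φ) := by
  intro d
  obtain ⟨e, he⟩ := h (d * c)
  exact ⟨e, by rwa [smul_smul]⟩

omit [CharP F 2] in
theorem Tr.ker (h : Tr H π x φ) (hx : x ≠ 0) : φ x = 0 := by
  by_contra hc
  obtain ⟨e, he, -⟩ := h (-(φ x)⁻¹)
  have h1 := he x
  rw [LinearMap.smul_apply, smul_eq_mul, neg_mul, inv_mul_cancel₀ hc, neg_smul, one_smul, add_neg_cancel] at h1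
  exact hx ((smul_eq_zero_iff_eq e).mp h1)

omit [CharP F 2] in
theorem IsE.ker {e : H} (h : IsE H π x φ e) (hx : φ x = 0) : e • x = x := by
  rw [h.1 x, hx, zero_smul, add_zero]

omit [CharP F 2] in
theorem IsE.mul {e f : H} (h : IsE H π x φ e) (g : IsE H π x ψ f) (hx : φ x = 0) :
    IsE H π x (φ + ψ) (e * f) := by
  refine ⟨fun v => ?_, fun m hm => by rw [mul_smul, g.2 m hm, h.2 m hm]⟩
  rw [mul_smul, g.1 v, smul_add, smul_comm e, h.ker hx, h.1 v, LinearMap.add_apply, add_smul]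
  abel

omit [CharP F 2] in
theorem Tr.add (h : Tr H π x φ) (g : Tr H π x ψ) (hx : x ≠ 0) : Tr H π x (φ + ψ) := by
  intro c
  obtain ⟨e, he⟩ := h c
  obtain ⟨f, hf⟩ := g c
  refine ⟨e * f, ?_⟩
  rw [smul_add]
  exact he.mul hf (by rw [LinearMap.smul_apply, h.ker hx, smul_zero])

/-- the functional `φ ∘ h⁻¹` -/
def tw (h : H) (φ : Q →ₗ[F] F) : Q →ₗ[F] F := φ ∘ₗ (DistribSMul.toLinearMap F Q h⁻¹)

omit [CharP F 2] in
theorem tw_apply (h : H) (φ : Q →ₗ[F] F) (v : Q) : tw h φ v = φ (h⁻¹ • v) := rfl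

omit [CharP F 2] in
theorem Tr.conj (hact : ∀ (h : H) (m : M), π (h • m) = h • π m) (h : Tr H π x φ) (g : H) :
    Tr H π (g • x) (tw g φ) := by
  intro c
  obtain ⟨e, he, he'⟩ := h c
  refine ⟨g * e * g⁻¹, fun v => ?_, fun m hm => ?_⟩
  · rw [mul_smul, mul_smul, he (g⁻¹ • v), smul_add, smul_inv_smul, smul_comm g]
    rfl
  · have h1 : π (g⁻¹ • m) = 0 := by rw [hact, hm, smul_zero]
    rw [mul_smul, mul_smul, he' _ h1, smul_inv_smul]

end basics

namespace Lv

variable {π : M →+ Q} {lam : AddSubgroup M} {a0 : Q} (L : Lv F H π lam a0)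
include L

omit [CharP F 2] [SMulCommClass H F Q] in
theorem lvec_uniq {v : Q} {m m' : M} (h : LVec H π lam v m) (h' : LVec H π lam v m') : m = m' := by
  obtain ⟨g, a, ha, rfl, h1⟩ := h
  obtain ⟨g', a', ha', rfl, h2⟩ := h'
  exact L.uniq g g' a ha a' ha' (h1.trans h2.symm)

omit [CharP F 2] [SMulCommClass H F Q] in
theorem lvec_smul {v : Q} {m : M} (h : LVec H π lam v m) (g : H) : LVec H π lam (g • v) (g • m) := by
  obtain ⟨g', a, ha, rfl, h1⟩ := h
  exact ⟨g * g', a, ha, by rw [mul_smul], by rw [L.act, h1]⟩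

omit [CharP F 2] [SMulCommClass H F Q] in
theorem lvec_of {a : M} (ha : a ∈ lam) (h : H) : LVec H π lam (π (h • a)) (h • a) := ⟨h, a, ha, rfl, rfl⟩

omit [CharP F 2] [SMulCommClass H F Q] in
theorem lvec_lam {a : M} (ha : a ∈ lam) : LVec H π lam (π a) a := ⟨1, a, ha, (one_smul H a).symm, rfl⟩

omit [CharP F 2] [SMulCommClass H F Q] in
theorem two' (m : M) : -m = m := by
  have h := L.two m
  exact neg_eq_of_add_eq_zero_left h

/-- the section `F → lam` -/
theorem exists_sec : ∃ σ : F →+ M, (∀ c, σ c ∈ lam) ∧ ∀ c, π (σ c) = c • a0 := by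
  choose f hf hf' using L.clam
  have key : ∀ c d, f (c + d) = f c + f d := by
    intro c d
    refine L.lvec_uniq (v := (c + d) • a0) ?_ ?_
    · rw [← hf' (c + d)]; exact L.lvec_lam (hf _)
    · have h1 : π (f c + f d) = (c + d) • a0 := by rw [map_add, hf', hf', add_smul]
      rw [← h1]; exact L.lvec_lam (add_mem (hf _) (hf _))
  exact ⟨AddMonoidHom.mk' f key, hf, hf'⟩

variable [Finite Q] [Finite F]

/-- (s1) joined is symmetric -/
theorem exists_join {φ : Q →ₗ[F] F} (hφ : Tr H π a0 φ) {h : H} (hx : φ (h • a0) ≠ 0) :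
    ∃ ψ : Q →ₗ[F] F, Tr H π (h • a0) ψ ∧ ψ a0 ≠ 0 := by
  by_contra hc
  push Not at hc
  have hne : h • a0 ≠ 0 := fun e => hx (by rw [e, map_zero])
  have key : ∀ χ : Q →ₗ[F] F, Tr H π (h • a0) χ → Tr H π a0 χ := by
    intro χ hχ
    have h0 := hc χ hχ
    obtain ⟨e, he, -⟩ := hχ 1
    rw [one_smul] at he
    have h1 : e • a0 = a0 := by rw [he, h0, zero_smul, add_zero]
    have h2 : ∀ v, e⁻¹ • v = v + χ v • h • a0 := by
      intro v
      rw [inv_smul_eq_iff, smul_add, he v, smul_comm e, he (h • a0), hχ.ker hne, zero_smul, add_zero, add_assoc,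
        v_add_v F, add_zero]
    have h3 := hφ.conj L.act e
    rw [h1] at h3
    have h4 : tw e φ = φ + (φ (h • a0)) • χ := by
      ext v
      rw [tw_apply, h2 v, map_add, map_smul, LinearMap.add_apply, LinearMap.smul_apply, smul_eq_mul, smul_eq_mul,
        mul_comm]
    rw [h4] at h3
    have h5 := (h3.add (hφ.smul (-1)) L.ne).smul (φ (h • a0))⁻¹
    have h6 : (φ (h • a0))⁻¹ • (φ + φ (h • a0) • χ + (-1 : F) • φ) = χ := by
      ext v
      simp only [LinearMap.smul_apply, LinearMap.add_apply, smul_eq_mul]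
      field_simp
      ring
    rwa [h6] at h5
  have : Finite (Q →ₗ[F] F) := DFunLike.finite _
  obtain ⟨S1, hS1⟩ : ∃ S : Set (Q →ₗ[F] F), ∀ χ, χ ∈ S ↔ Tr H π (h • a0) χ :=
    ⟨{χ | Tr H π (h • a0) χ}, fun χ => Iff.rfl⟩
  obtain ⟨S0, hS0⟩ : ∃ S : Set (Q →ₗ[F] F), ∀ χ, χ ∈ S ↔ Tr H π a0 χ := ⟨{χ | Tr H π a0 χ}, fun χ => Iff.rfl⟩
  have hcard : S1 = S0 := by
    refine Set.eq_of_subset_of_ncard_le (fun χ hχ => (hS0 χ).mpr (key χ ((hS1 χ).mp hχ))) ?_
    have hi : Function.Injective (tw (F := F) (Q := Q) h) := by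
      intro χ χ' e
      ext v
      have h1 := LinearMap.congr_fun e (h • v)
      rwa [tw_apply, tw_apply, inv_smul_smul] at h1
    rw [← Set.ncard_image_of_injective S0 hi]
    refine Set.ncard_le_ncard ?_ (Set.toFinite _)
    rintro _ ⟨χ, hχ, rfl⟩
    exact (hS1 _).mpr (Tr.conj L.act ((hS0 χ).mp hχ) h)
  have h7 : Tr H π (h • a0) φ := by
    have h8 : φ ∈ S0 := (hS0 φ).mpr hφ
    rw [← hcard] at h8
    exact (hS1 φ).mp h8
  exact hx (h7.ker hne)

omit [Finite Q] [Finite F] in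
/-- an element of type `(a₀, φ)` fixes the lines in `ker φ` -/
theorem fix_line {φ : Q →ₗ[F] F} {e : H} (he : IsE H π a0 φ e) {h : H} {a : M} (ha : a ∈ lam)
    (h0 : φ (π (h • a)) = 0) : e • h • a = h • a := by
  apply L.lvec_uniq (v := π (h • a))
  · have h1 := L.lvec_smul (L.lvec_of ha h) e
    rwa [he.1, h0, zero_smul, add_zero] at h1
  · exact L.lvec_of ha h

omit [Finite Q] [Finite F] in
/-- the action on `M` of an element of type `(x, φ)` is determined -/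
theorem act_eq {x : Q} {φ : Q →ₗ[F] F} {e e' : H} (he : IsE H π x φ e) (he' : IsE H π x φ e') (m : M) :
    e • m = e' • m := by
  let D : AddSubgroup M := (DistribSMul.toAddMonoidHom M e).eqLocus (DistribSMul.toAddMonoidHom M e')
  have hD : D = ⊤ := by
    apply L.gen
    intro h a ha
    show e • h • a = e' • h • a
    apply L.lvec_uniq (v := e • π (h • a)) (L.lvec_smul (L.lvec_of ha h) e)
    rw [he.1, ← he'.1]
    exact L.lvec_smul (L.lvec_of ha h) e'
  have hm : m ∈ D := by rw [hD]; trivial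
  exact hm

/-- **(s2)**: an element of type `(a₀, φ)` centralises `ker (φ ∘ π)` -/
theorem fix {σ : F →+ M} (hσ : ∀ c, σ c ∈ lam) (hσ' : ∀ c, π (σ c) = c • a0) {φ : Q →ₗ[F] F} (hφ : Tr H π a0 φ)
    {e : H} (he : IsE H π a0 φ e) {m : M} (hm : φ (π m) = 0) : e • m = m := by
  -- the defect
  let n : M →+ M := DistribSMul.toAddMonoidHom M e + AddMonoidHom.id M + σ.comp (φ.toAddMonoidHom.comp π)
  have hn : ∀ y, n y = e • y + y + σ (φ (π y)) := fun y => rfl
  have nk : ∀ y, π y = 0 → n y = 0 := by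
    intro y hy
    rw [hn, hy, map_zero, map_zero, add_zero, he.2 y hy, L.two]
  have nl : ∀ v y, LVec H π lam v y → φ v = 0 → n y = 0 := by
    rintro v y ⟨h, a, ha, rfl, rfl⟩ h0
    rw [hn, L.fix_line he ha h0, h0, map_zero, add_zero, L.two]
  -- if `y₁ + y₂ + y₃ ∈ ker π`, `n y₃ = 0` then `n y₁ = n y₂`
  have n3 : ∀ y₁ y₂ y₃, π (y₁ + y₂ + y₃) = 0 → n y₃ = 0 → n y₁ = n y₂ := by
    intro y₁ y₂ y₃ h h3
    have h1 := nk _ h
    rw [map_add, map_add, h3, add_zero] at h1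
    have h2 := eq_neg_of_add_eq_zero_left h1
    rwa [L.two'] at h2
  have claim1 : ∀ (h : H) (c : F) (v' : Q) (y' : M), LVec H π lam v' y' → c ≠ 0 → φ (c • h • a0) = φ v' →
      (∃ ψ : Q →ₗ[F] F, Tr H π (h • a0) ψ ∧ ψ v' ≠ 0) → n (h • σ c) = n y' := by
    rintro h c v' y' hy' hc hv ⟨ψ, hψ, h0⟩
    obtain ⟨g, hg⟩ := hψ (c * (ψ v')⁻¹)
    have h1 : g • v' = v' + c • h • a0 := by
      rw [hg.1, LinearMap.smul_apply, smul_eq_mul, mul_assoc, inv_mul_cancel₀ h0, mul_one]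
    have h2 := L.lvec_smul hy' g
    have h3 : n (g • y') = 0 := by
      apply nl _ _ h2
      rw [h1, map_add, hv, CharTwo.add_self_eq_zero]
    apply n3 _ _ _ _ h3
    obtain ⟨_, _, _, _, h4⟩ := h2
    obtain ⟨_, _, _, _, h5⟩ := hy'
    rw [map_add, map_add, h4, h5, L.act, hσ', smul_comm h, h1, add_comm (c • h • a0), v_add_v F]
  have claim2 : ∀ (h : H) (c : F) (v' : Q) (y' : M), LVec H π lam v' y' → c ≠ 0 → φ (h • a0) ≠ 0 →
      φ (c • h • a0) = φ v' → n (h • σ c) = n y' := by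
    intro h c v' y' hy' hc hh hv
    by_cases hψ : ∃ ψ : Q →ₗ[F] F, Tr H π (h • a0) ψ ∧ ψ v' ≠ 0
    · exact claim1 h c v' y' hy' hc hv hψ
    · push Not at hψ
      obtain ⟨ψ, h1, h2⟩ := L.exists_join hφ hh
      have h3 := hψ ψ h1
      have h4 : φ a0 = 0 := hφ.ker L.ne
      have h5 : e • e • v' = v' := by
        rw [he.1 (e • v'), he.1 v', map_add, map_smul, h4, smul_zero, add_zero, add_assoc, v_add_v F, add_zero]
      have h6 : n (h • σ c) = n ((e * h) • σ c) := by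
        apply n3 _ _ (σ (φ (c • h • a0)))
        · rw [map_add, map_add, mul_smul, L.act e, L.act h, hσ', hσ', smul_comm h, he.1, ← add_assoc, v_add_v F,
            zero_add, v_add_v F]
        · apply nl _ _ (L.lvec_lam (hσ _))
          rw [hσ', map_smul, h4, smul_zero]
      rw [h6]
      apply claim1 (e * h) c v' y' hy' hc
      · rw [mul_smul, he.1, smul_add, map_add, map_smul φ c (φ (h • a0) • a0), map_smul φ _ a0, h4, smul_zero, smul_zero,
          add_zero, hv]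
      · refine ⟨tw e ψ, ?_, ?_⟩
        · rw [mul_smul]; exact h1.conj L.act e
        · rw [tw_apply]
          have h7 : e⁻¹ • v' = e • v' := by rw [inv_smul_eq_iff, h5]
          rw [h7, he.1, map_add, h3, zero_add, map_smul, smul_eq_mul]
          refine mul_ne_zero ?_ h2
          rw [← hv, map_smul, smul_eq_mul]
          exact mul_ne_zero hc hh
  -- all lines
  by_cases hall : ∀ h : H, φ (h • a0) = 0
  · have hD : n.ker = ⊤ := by
      apply L.gen
      intro h a ha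
      obtain ⟨c, hc⟩ := L.lamc a ha
      apply nl _ _ (L.lvec_of ha h)
      rw [L.act, hc, smul_comm h, map_smul, hall, smul_zero]
    have h1 : n m = 0 := by
      have : m ∈ n.ker := by rw [hD]; trivial
      exact this
    rw [hn, hm, map_zero, add_zero] at h1
    have h2 := eq_neg_of_add_eq_zero_left h1
    rwa [L.two'] at h2
  · push Not at hall
    obtain ⟨h, hh⟩ := hall
    let g : M →+ M :=
      (n.comp ((DistribSMul.toAddMonoidHom M h).comp (σ.comp (AddMonoidHom.mulLeft (φ (h • a0))⁻¹)))).comp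
        (φ.toAddMonoidHom.comp π)
    have hg : ∀ y, g y = n (h • σ ((φ (h • a0))⁻¹ * φ (π y))) := fun y => rfl
    let D : AddSubgroup M := n.eqLocus g
    have hD : D = ⊤ := by
      apply L.gen
      intro h' a ha
      show n (h' • a) = g (h' • a)
      rw [hg]
      by_cases h0 : φ (π (h' • a)) = 0
      · rw [h0, mul_zero, map_zero, smul_zero, map_zero]
        exact nl _ _ (L.lvec_of ha h') h0
      · symm
        apply claim2 h _ _ _ (L.lvec_of ha h') (mul_ne_zero (inv_ne_zero hh) h0) hh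
        rw [map_smul, smul_eq_mul, mul_comm, ← mul_assoc, mul_inv_cancel₀ hh, one_mul]
    have h1 : n m = g m := by
      have : m ∈ D := by rw [hD]; trivial
      exact this
    rw [hg, hn, hm, map_zero, add_zero, mul_zero, map_zero, smul_zero, map_zero] at h1
    have h2 := eq_neg_of_add_eq_zero_left h1
    rwa [L.two'] at h2

/-- the plane over `a₀`, `h • a₀` -/
theorem plane {σ : F →+ M} (hσ : ∀ c, σ c ∈ lam) (hσ' : ∀ c, π (σ c) = c • a0) {φ : Q →ₗ[F] F} (hφ : Tr H π a0 φ)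
    {h : H} (hh : φ (h • a0) = 1) : ∃ (u l : F → H) (s : F → F → M), Pl π.ker u l s ∧ (∀ t, IsE H π a0 (t • φ) (u t)) ∧
      (∀ x, s x 0 = σ x) ∧ ∀ y, π (s 0 y) = y • h • a0 := by
  obtain ⟨ψ₀, hψ₀, hψ₁⟩ := L.exists_join hφ (h := h) (by rw [hh]; exact one_ne_zero)
  obtain ⟨ψ, hψ, hψ1⟩ : ∃ ψ : Q →ₗ[F] F, Tr H π (h • a0) ψ ∧ ψ a0 = 1 :=
    ⟨(ψ₀ a0)⁻¹ • ψ₀, hψ₀.smul _, by rw [LinearMap.smul_apply, smul_eq_mul, inv_mul_cancel₀ hψ₁]⟩
  have hne : h • a0 ≠ 0 := fun e => by rw [e, map_zero] at hh; exact zero_ne_one hh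
  have φ0 : φ a0 = 0 := hφ.ker L.ne
  have ψ0 : ψ (h • a0) = 0 := hψ.ker hne
  choose u hu using hφ
  choose l hl using hψ
  have hs : ∀ x y : F, ∃ m, LVec H π lam (x • a0 + y • h • a0) m := by
    intro x y
    by_cases hx : x = 0
    · refine ⟨h • σ y, h, σ y, hσ y, rfl, ?_⟩
      rw [L.act, hσ', hx, zero_smul, zero_add, smul_comm h]
    · refine ⟨l (y * x⁻¹) • σ x, l (y * x⁻¹), σ x, hσ x, rfl, ?_⟩
      rw [L.act, hσ', (hl _).1, LinearMap.smul_apply, map_smul, hψ1, smul_eq_mul, smul_eq_mul, mul_one, mul_assoc,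
        inv_mul_cancel₀ hx, mul_one]
  choose s hs using hs
  have sπ : ∀ x y, π (s x y) = x • a0 + y • h • a0 := fun x y => by
    obtain ⟨_, _, _, _, h1⟩ := hs x y
    exact h1
  have sx : ∀ x, s x 0 = σ x := by
    intro x
    refine L.lvec_uniq (hs x 0) ?_
    have h1 : x • a0 + (0 : F) • h • a0 = π (σ x) := by rw [hσ', zero_smul, add_zero]
    rw [h1]; exact L.lvec_lam (hσ x)
  have sy : ∀ y, s 0 y = h • σ y := by
    intro y
    refine L.lvec_uniq (hs 0 y) ?_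
    have h1 : (0 : F) • a0 + y • h • a0 = π (h • σ y) := by rw [L.act, hσ', zero_smul, zero_add, smul_comm h]
    rw [h1]; exact L.lvec_of (hσ y) h
  refine ⟨u, l, s, ⟨L.two, ?_, ?_, ?_, ?_, ?_, ?_, ?_⟩, hu, sx, fun y => by rw [sπ, zero_smul, zero_add]⟩
  · intro x x'
    rw [sx, sx, sx, map_add]
  · intro y y'
    rw [sy, sy, sy, map_add, smul_add]
  · intro x y x' y'
    rw [AddMonoidHom.mem_ker, map_add, map_add, sπ, sπ, sπ, add_smul, add_smul]
    have e : x • a0 + y • h • a0 + (x' • a0 + y' • h • a0) + (x • a0 + x' • a0 + (y • h • a0 + y' • h • a0)) =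
      (x • a0 + x' • a0 + y • h • a0 + y' • h • a0) + (x • a0 + x' • a0 + y • h • a0 + y' • h • a0) := by abel
    rw [e, v_add_v F]
  · intro t x y
    refine L.lvec_uniq (L.lvec_smul (hs x y) _) ?_
    have e : u t • (x • a0 + y • h • a0) = (x + t * y) • a0 + y • h • a0 := by
      rw [(hu t).1, LinearMap.smul_apply, map_add, map_smul, map_smul, φ0, hh, smul_zero, zero_add, smul_eq_mul,
        smul_eq_mul, mul_one, add_smul, add_right_comm]
    rw [e]; exact hs _ _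
  · intro t x y
    refine L.lvec_uniq (L.lvec_smul (hs x y) _) ?_
    have e : l t • (x • a0 + y • h • a0) = x • a0 + (y + t * x) • h • a0 := by
      rw [(hl t).1, LinearMap.smul_apply, map_add, map_smul, map_smul, ψ0, hψ1, smul_zero, add_zero, smul_eq_mul,
        smul_eq_mul, mul_one, add_smul, add_assoc]
    rw [e]; exact hs _ _
  · intro t n hn
    exact (hu t).2 n hn
  · intro t n hn
    exact (hl t).2 n hn

/-- **the value of a commutator** -/
theorem val {σ : F →+ M} (hσ : ∀ c, σ c ∈ lam) (hσ' : ∀ c, π (σ c) = c • a0) {φ : Q →ₗ[F] F} (hφ : Tr H π a0 φ)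
    {h : H} (hh : φ (h • a0) = 1) : ∃ k : F →+ M, (∀ z, π (k z) = 0) ∧ ∀ (t : F) (e : H), IsE H π a0 (t • φ) e →
      ∀ m, e • m + m = σ (t * φ (π m)) + k (t * φ (π m) ^ 2) := by
  obtain ⟨u, l, s, P, hu, sx, sy⟩ := L.plane hσ hσ' hφ hh
  obtain ⟨k, hk0, hk⟩ := P.exists_kap
  refine ⟨k, fun z => hk0 z, fun t e he m => ?_⟩
  rw [L.act_eq he (hu t), ← sx]
  refine P.val hk (φ.toAddMonoidHom.comp π) (fun y => ?_) (fun m hm => ?_) m
  · show φ (π (s 0 y)) = y
    rw [sy, map_smul, hh, smul_eq_mul, mul_one]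
  · have hm' : φ (π m) = 0 := hm
    apply L.fix hσ hσ' (hφ.smul t) (hu t)
    rw [LinearMap.smul_apply, hm', smul_zero]

omit [CharP F 2] [Finite Q] [Finite F] in
/-- a line outside `ker φ` -/
theorem exists_line (hs : Function.Surjective π) {φ : Q →ₗ[F] F} (hφ : φ ≠ 0) : ∃ h : H, φ (h • a0) ≠ 0 := by
  by_contra hc
  push Not at hc
  have hD : (φ.toAddMonoidHom.comp π).ker = ⊤ := by
    apply L.gen
    intro h a ha
    obtain ⟨c, hc'⟩ := L.lamc a ha
    show φ (π (h • a)) = 0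
    rw [L.act, hc', smul_comm h, map_smul, hc, smul_zero]
  apply hφ
  ext v
  obtain ⟨m, rfl⟩ := hs v
  have hm : m ∈ (φ.toAddMonoidHom.comp π).ker := by rw [hD]; trivial
  exact hm

/-- for all `φ` with `Tr a₀ φ` : `[m, e] = σ (φ m) + ν (φ m)` for `e` of type `φ` -/
theorem val' (hs : Function.Surjective π) {σ : F →+ M} (hσ : ∀ c, σ c ∈ lam) (hσ' : ∀ c, π (σ c) = c • a0)
    {φ : Q →ₗ[F] F} (hφ : Tr H π a0 φ) : ∃ k : F →+ M, (∀ z, π (k z) = 0) ∧ ∀ (t : F) (e : H), t ≠ 0 →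
      IsE H π a0 (t • φ) e → ∀ m, e • m + m = σ (t * φ (π m)) + k ((t * φ (π m)) ^ 2 / t) := by
  by_cases h0 : φ = 0
  · refine ⟨0, fun z => by rw [AddMonoidHom.zero_apply, map_zero], fun t e _ he m => ?_⟩
    have h1 : IsE H π a0 (0 : Q →ₗ[F] F) (1 : H) := by
      refine ⟨fun v => ?_, fun m _ => one_smul _ _⟩
      rw [one_smul, LinearMap.zero_apply, zero_smul, add_zero]
    rw [h0, smul_zero] at he
    rw [L.act_eq he h1, one_smul, L.two, h0, LinearMap.zero_apply, mul_zero, map_zero, AddMonoidHom.zero_apply,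
      add_zero]
  · obtain ⟨h, hh⟩ := L.exists_line hs h0
    obtain ⟨c, hc⟩ : ∃ c, c = φ (h • a0) := ⟨_, rfl⟩
    rw [← hc] at hh
    obtain ⟨k, hk, hv⟩ := L.val hσ hσ' (hφ.smul c⁻¹) (h := h) (by
      rw [LinearMap.smul_apply, smul_eq_mul, ← hc, inv_mul_cancel₀ hh])
    refine ⟨k.comp (AddMonoidHom.mulLeft c⁻¹), fun z => hk _, fun t e ht he m => ?_⟩
    have h1 := hv (t * c) e (by rwa [smul_smul, mul_assoc, mul_inv_cancel₀ hh, mul_one]) m
    rw [h1, LinearMap.smul_apply, smul_eq_mul]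
    have e1 : t * c * (c⁻¹ * φ (π m)) = t * φ (π m) := by field_simp
    have e2 : t * c * (c⁻¹ * φ (π m)) ^ 2 = c⁻¹ * ((t * φ (π m)) ^ 2 / t) := by field_simp
    rw [e1, e2]
    rfl

omit [Finite Q] [Finite F] in
/-- an element of type `(a₀, φ)` fixes `lam + ker π` -/
theorem fix_sum {σ : F →+ M} (hσ : ∀ c, σ c ∈ lam) (hσ' : ∀ c, π (σ c) = c • a0) {φ : Q →ₗ[F] F} {e : H}
    (he : IsE H π a0 φ e) (h0 : φ a0 = 0) (c : F) {z : M} (hz : π z = 0) : e • (σ c + z) = σ c + z := by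
  have h1 : e • (1 : H) • σ c = (1 : H) • σ c := L.fix_line he (hσ c) (by
    rw [one_smul, hσ', map_smul, h0, smul_zero])
  rw [one_smul] at h1
  rw [smul_add, he.2 z hz, h1]

/-- **two independent functionals ⟹ `[M, A] ≤ lam`** -/
theorem le_lam (h4 : 4 ≤ Nat.card F) (hs : Function.Surjective π)
    (hd : ∀ φ₀ : Q →ₗ[F] F, ∃ φ : Q →ₗ[F] F, Tr H π a0 φ ∧ ∀ c : F, φ ≠ c • φ₀)
    {φ : Q →ₗ[F] F} (hφ : Tr H π a0 φ) {e : H} (he : IsE H π a0 φ e) (m : M) : e • m + m ∈ lam := by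
  obtain ⟨σ, hσ, hσ'⟩ := L.exists_sec
  obtain ⟨φ', hφ', hc'⟩ := hd φ
  by_cases h0 : φ = 0
  · have h1 : IsE H π a0 (0 : Q →ₗ[F] F) (1 : H) := by
      refine ⟨fun v => ?_, fun m _ => one_smul _ _⟩
      rw [one_smul, LinearMap.zero_apply, zero_smul, add_zero]
    rw [h0] at he
    rw [L.act_eq he h1, one_smul, L.two]
    exact zero_mem _
  obtain ⟨k, hk0, hk⟩ := L.val' hs hσ hσ' hφ
  obtain ⟨k', hk0', hk'⟩ := L.val' hs hσ hσ' hφ'
  -- `(φ, φ')` is onto `F²`
  obtain ⟨v0, hv0⟩ : ∃ v, φ v ≠ 0 := by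
    by_contra hc
    push Not at hc
    exact h0 (LinearMap.ext hc)
  obtain ⟨v1, hv1, hv1'⟩ : ∃ v, φ v = 0 ∧ φ' v ≠ 0 := by
    by_contra hc
    push Not at hc
    apply hc' (φ' v0 / φ v0)
    ext v
    have h1 := hc (v - (φ v / φ v0) • v0) (by
      rw [map_sub, map_smul, smul_eq_mul, div_mul_cancel₀ _ hv0, sub_self])
    rw [map_sub, map_smul, smul_eq_mul, sub_eq_zero] at h1
    rw [h1, LinearMap.smul_apply, smul_eq_mul]
    ring
  have hsurj : ∀ x x' : F, ∃ m, φ (π m) = x ∧ φ' (π m) = x' := by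
    intro x x'
    obtain ⟨m, hm⟩ := hs ((x / φ v0) • v0 + ((x' - (x / φ v0) * φ' v0) / φ' v1) • v1)
    refine ⟨m, ?_, ?_⟩
    · rw [hm, map_add, map_smul, map_smul, hv1, smul_zero, add_zero, smul_eq_mul, div_mul_cancel₀ _ hv0]
    · rw [hm, map_add, map_smul, map_smul, smul_eq_mul, smul_eq_mul, div_mul_cancel₀ _ hv1']
      ring
  have kz : k = 0 := by
    refine kap_zero_of_two h4 L.two (σ := σ) (k' := k') fun t t' ht ht' => ?_
    obtain ⟨k'', -, hk''⟩ := L.val' hs hσ hσ' ((hφ.smul t).add (hφ'.smul t') L.ne)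
    obtain ⟨e1, he1⟩ := hφ t
    obtain ⟨e2, he2⟩ := hφ' t'
    have p0 : φ a0 = 0 := hφ.ker L.ne
    have p0' : φ' a0 = 0 := hφ'.ker L.ne
    have q1 : (t • φ) a0 = 0 := by rw [LinearMap.smul_apply, p0, smul_zero]
    have h12 := he1.mul he2 q1
    refine ⟨fun y => k'' (y ^ 2), fun x x' => ?_⟩
    obtain ⟨m, hm, hm'⟩ := hsurj (x / t) (x' / t')
    have a1 := hk t e1 ht he1 m
    have a2 := hk' t' e2 ht' he2 m
    have a3 := hk'' 1 (e1 * e2) one_ne_zero (by rwa [one_smul]) m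
    rw [hm, mul_div_cancel₀ _ ht] at a1
    rw [hm', mul_div_cancel₀ _ ht'] at a2
    rw [one_mul, div_one, LinearMap.add_apply, LinearMap.smul_apply, LinearMap.smul_apply, smul_eq_mul, smul_eq_mul,
      hm, hm', mul_div_cancel₀ _ ht, mul_div_cancel₀ _ ht'] at a3
    rw [← a1, ← a3, mul_smul]
    have a4 : e2 • m = (σ x' + k' (x' ^ 2 / t')) + m := by
      rw [← a2, add_assoc, L.two, add_zero]
    rw [a4, smul_add, L.fix_sum hσ hσ' he1 q1 x' (hk0' _)]
    abel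
  have h5 := hk 1 e one_ne_zero (by rwa [one_smul]) m
  rw [h5, kz, AddMonoidHom.zero_apply, add_zero]
  exact hσ _

end Lv

end Cfsg.Agent.Omega.NO3S.FullQ
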