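import Mathlib

/-!
# NO-3S, `FullB`, `q ≥ 4`, class P, every `n ≥ 2` (helper298 #21966, helper983 #22167): transitivity (TR), any dimension

`H` acts `F`-linearly on `Q`, `L ⊴ H`, characteristic 2.
* `Ph L a` : the functionals `φ` with `φ a = 0` and `1 + c φ ⊗ a` induced by `L` for all `c`;
* `mem_of` : `φ ∈ Φ_a`, `φ b = 0`, `ψ ∈ Φ_b`, `ψ a ≠ 0` ⟹ `φ ∈ Φ_b`;
* `symm` : `Φ_a` moves `b` ⟹ `Φ_b` moves `a` (`a`, `b` conjugate);
* **`exists_fix`** : a 2-element `t` fixing `v`; `Φ_v` moves `u ∈ H v` ⟹ some `y ∈ L` fixes `v` and `y u = t u`.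
-/

set_option autoImplicit false

namespace Cfsg.Agent.Omega.NO3S.FullQ.TR

variable {F Q H : Type*} [Field F] [AddCommGroup Q] [Module F Q] [Group H] [DistribMulAction H Q]
  [SMulCommClass H F Q]

theorem add_self [CharP F 2] (v : Q) : v + v = 0 := by
  have h : ((1 : F) + 1) • v = 0 := by rw [CharTwo.add_self_eq_zero, zero_smul]
  rwa [add_smul, one_smul] at h

variable (F) in
/-- the functionals of the transvections with centre `a` in `L` (all the multiples) -/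
def Ph (L : Subgroup H) (a : Q) : Submodule F (Q →ₗ[F] F) where
  carrier := {φ | φ a = 0 ∧ ∀ c : F, ∃ h ∈ L, ∀ v : Q, h • v = v + (c * φ v) • a}
  zero_mem' := ⟨rfl, fun c => ⟨1, one_mem _, fun v => by
    rw [one_smul, LinearMap.zero_apply, mul_zero, zero_smul, add_zero]⟩⟩
  add_mem' := by
    rintro φ ψ ⟨h1, h2⟩ ⟨h3, h4⟩
    refine ⟨by rw [LinearMap.add_apply, h1, h3, add_zero], fun c => ?_⟩
    obtain ⟨x, hx, hx'⟩ := h2 c
    obtain ⟨y, hy, hy'⟩ := h4 c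
    refine ⟨x * y, mul_mem hx hy, fun v => ?_⟩
    rw [mul_smul, hy', hx', map_add, map_smul, h1, smul_zero, add_zero, LinearMap.add_apply, mul_add, add_smul]
    abel
  smul_mem' := by
    rintro d φ ⟨h1, h2⟩
    refine ⟨by rw [LinearMap.smul_apply, h1, smul_zero], fun c => ?_⟩
    obtain ⟨x, hx, hx'⟩ := h2 (c * d)
    refine ⟨x, hx, fun v => ?_⟩
    rw [hx', LinearMap.smul_apply, smul_eq_mul, mul_assoc]

omit [SMulCommClass H F Q] in
theorem mem_Ph {L : Subgroup H} {a : Q} {φ : Q →ₗ[F] F} :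
    φ ∈ Ph F L a ↔ φ a = 0 ∧ ∀ c : F, ∃ h ∈ L, ∀ v : Q, h • v = v + (c * φ v) • a := Iff.rfl

variable (F Q) in
/-- `g` as a linear equivalence -/
def lin (g : H) : Q ≃ₗ[F] Q := DistribMulAction.toLinearEquiv F Q g

theorem lin_apply (g : H) (v : Q) : lin F Q g v = g • v := rfl

theorem comp_mem {L : Subgroup H} [hL : L.Normal] {a : Q} {φ : Q →ₗ[F] F} (hφ : φ ∈ Ph F L a) (g : H) :
    φ ∘ₗ (lin F Q g : Q →ₗ[F] Q) ∈ Ph F L (g⁻¹ • a) := by
  refine ⟨?_, fun c => ?_⟩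
  · rw [LinearMap.comp_apply, LinearEquiv.coe_coe, lin_apply, smul_inv_smul, hφ.1]
  · obtain ⟨x, hx, hx'⟩ := hφ.2 c
    refine ⟨g⁻¹ * x * g, ?_, fun v => ?_⟩
    · have := hL.conj_mem x hx g⁻¹
      rwa [inv_inv] at this
    · rw [mul_smul, mul_smul, hx', smul_add, inv_smul_smul, smul_comm g⁻¹, LinearMap.comp_apply,
        LinearEquiv.coe_coe, lin_apply]

theorem finrank_eq {L : Subgroup H} [hL : L.Normal] (a : Q) (g : H) :
    Module.finrank F (Ph F L (g • a)) = Module.finrank F (Ph F L a) := by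
  let e : (Q →ₗ[F] F) ≃ₗ[F] (Q →ₗ[F] F) := LinearEquiv.congrLeft F F (lin F Q g)
  have he : ∀ φ : Q →ₗ[F] F, e φ = φ ∘ₗ (lin F Q g⁻¹ : Q →ₗ[F] Q) := by
    intro φ
    ext v
    rfl
  have h1 : (Ph F L a).map (e : (Q →ₗ[F] F) →ₗ[F] (Q →ₗ[F] F)) = Ph F L (g • a) := by
    apply le_antisymm
    · rintro _ ⟨φ, hφ, rfl⟩
      have := comp_mem hφ g⁻¹
      rw [inv_inv] at this
      rw [LinearEquiv.coe_coe, he]
      exact this
    · intro φ hφ
      refine ⟨φ ∘ₗ (lin F Q g : Q →ₗ[F] Q), ?_, ?_⟩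
      · have := comp_mem hφ g
        rwa [inv_smul_smul] at this
      · rw [LinearEquiv.coe_coe, he]
        ext v
        rw [LinearMap.comp_apply, LinearMap.comp_apply, LinearEquiv.coe_coe, LinearEquiv.coe_coe, lin_apply, lin_apply,
          smul_inv_smul]
  rw [← h1]
  exact (LinearEquiv.finrank_map_eq e _)

variable [CharP F 2]

/-- the inverse of a transvection -/
theorem inv_tv {a : Q} {φ : Q →ₗ[F] F} {c : F} (h1 : φ a = 0) {x : H} (hx : ∀ v : Q, x • v = v + (c * φ v) • a)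
    (v : Q) : x⁻¹ • v = v + (c * φ v) • a := by
  rw [inv_smul_eq_iff, smul_add, hx, smul_comm x, hx a, h1, mul_zero, zero_smul, add_zero, add_assoc,
    add_self (F := F), add_zero]

/-- **(i)** -/
theorem mem_of {L : Subgroup H} [hL : L.Normal] {a b : Q} {φ ψ : Q →ₗ[F] F} (hφ : φ ∈ Ph F L a) (hb : φ b = 0)
    (hψ : ψ ∈ Ph F L b) (ha : ψ a ≠ 0) : φ ∈ Ph F L b := by
  refine ⟨hb, fun c => ?_⟩
  obtain ⟨h, hh, hh'⟩ := hφ.2 (c / ψ a)
  obtain ⟨s, hs, hs'⟩ := hψ.2 1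
  refine ⟨s * h * s⁻¹ * h, mul_mem (hL.conj_mem h hh s) hh, fun x => ?_⟩
  have hs2 := fun v => inv_tv hψ.1 hs' v
  obtain ⟨d, hd⟩ : ∃ d, c / ψ a = d := ⟨_, rfl⟩
  have hc : c = d * ψ a := by rw [← hd, div_mul_cancel₀ _ ha]
  rw [hd] at hh'
  simp only [one_mul] at hs' hs2
  obtain ⟨y, hy⟩ : ∃ y, y = x + (d * φ x) • a := ⟨_, rfl⟩
  have e1 : φ y = φ x := by rw [hy, map_add, map_smul, hφ.1, smul_zero, add_zero]
  have e2 : φ (y + ψ y • b) = φ x := by rw [map_add, map_smul, hb, smul_zero, add_zero, e1]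
  have e3 : ψ (y + ψ y • b + (d * φ x) • a) = ψ y + d * φ x * ψ a := by
    rw [map_add, map_add, map_smul, map_smul, hψ.1, smul_zero, add_zero, smul_eq_mul]
  rw [mul_smul, mul_smul, mul_smul, hh' x, ← hy, hs2 y, hh' (y + ψ y • b), e2, hs', e3, add_smul]
  have e4 : y + ψ y • b + (d * φ x) • a + (ψ y • b + (d * φ x * ψ a) • b) =
      y + (d * φ x) • a + (ψ y • b + ψ y • b) + (d * φ x * ψ a) • b := by abel
  rw [e4, add_self (F := F), add_zero, hy, add_assoc x, add_self (F := F), add_zero, hc]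
  congr 2
  ring

theorem symm [FiniteDimensional F Q] {L : Subgroup H} [hL : L.Normal] {a b : Q} {g : H} (hg : g • a = b)
    (h : ∃ φ ∈ Ph F L a, φ b ≠ 0) : ∃ ψ ∈ Ph F L b, ψ a ≠ 0 := by
  by_contra hcon
  push Not at hcon
  obtain ⟨φ, hφ, hb⟩ := h
  have h1 : Ph F L b ≤ Ph F L a := fun ψ hψ => mem_of hψ (hcon ψ hψ) hφ hb
  have h2 : Ph F L b = Ph F L a := Submodule.eq_of_le_of_finrank_eq h1 (by rw [← hg, finrank_eq])
  rw [← h2] at hφ
  exact hb hφ.1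

/-- the step: `u`, `u'` joined to `v` and to each other, evaluations not proportional with a factor `≠ 1` -/
theorem step [FiniteDimensional F Q] {L : Subgroup H} [hL : L.Normal] {v u u' : Q} {g g' : H} (hg : g • v = u)
    (hg' : g' • v = u') (hvu : ∃ φ ∈ Ph F L v, φ u ≠ 0) (huu : ∃ φ ∈ Ph F L u, φ u' ≠ 0)
    (hc : ∀ c : F, (∀ φ ∈ Ph F L v, φ u' = c * φ u) → c = 1) : ∃ y ∈ L, y • v = v ∧ y • u = u' := by
  obtain ⟨ψ0, hψ0, hψ1⟩ := huu
  obtain ⟨s, hs, hs'⟩ := hψ0.2 (ψ0 u')⁻¹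
  have hw : s • u' = u' + u := by rw [hs', inv_mul_cancel₀ hψ1, one_smul]
  obtain ⟨w, hwd⟩ : ∃ w, w = u' + u := ⟨_, rfl⟩
  have hgw : (s * g') • v = w := by rw [mul_smul, hg', hw, hwd]
  have hsu : s • u = u := by rw [hs', hψ0.1, mul_zero, zero_smul, add_zero]
  -- `w` joined to `u`
  have hwu : ∃ ψ ∈ Ph F L w, ψ u ≠ 0 := by
    have h1 : ∃ ψ ∈ Ph F L u', ψ u ≠ 0 :=
      symm (g := g' * g⁻¹) (by rw [mul_smul, ← hg, inv_smul_smul, hg']) ⟨ψ0, hψ0, hψ1⟩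
    obtain ⟨ψ, hψ, hψu⟩ := h1
    refine ⟨_, by simpa only [inv_inv, hw, ← hwd] using comp_mem hψ s⁻¹, ?_⟩
    rw [LinearMap.comp_apply, LinearEquiv.coe_coe, lin_apply, inv_smul_eq_iff.2 hsu.symm]
    exact hψu
  by_cases hcase : ∃ ψ ∈ Ph F L w, ψ v = 0 ∧ ψ u ≠ 0
  · obtain ⟨ψ, hψ, h1, h2⟩ := hcase
    obtain ⟨y, hy, hy'⟩ := hψ.2 (ψ u)⁻¹
    refine ⟨y, hy, by rw [hy', h1, mul_zero, zero_smul, add_zero], ?_⟩
    rw [hy', inv_mul_cancel₀ h2, one_smul, hwd, add_comm u' u, ← add_assoc, add_self (F := F), zero_add]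
  · exfalso
    push Not at hcase
    obtain ⟨ψ, hψ, hψu⟩ := hwu
    have hψv : ψ v ≠ 0 := fun e => hψu (hcase ψ hψ e)
    have hvw : ∃ φ ∈ Ph F L v, φ w ≠ 0 :=
      symm (g := (s * g')⁻¹) (by rw [← hgw, inv_smul_smul]) ⟨ψ, hψ, hψv⟩
    have hth : ∀ φ ∈ Ph F L v, φ w = 0 → φ u = 0 := fun φ hφ h =>
      hcase φ (mem_of hφ h hψ hψv) hφ.1
    obtain ⟨φ0, hφ0, hw0⟩ := hvw
    have hpr : ∀ φ ∈ Ph F L v, φ u = φ0 u / φ0 w * φ w := by
      intro φ hφ
      have h1 := hth (φ - (φ w / φ0 w) • φ0) (Submodule.sub_mem _ hφ (Submodule.smul_mem _ _ hφ0))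
        (by rw [LinearMap.sub_apply, LinearMap.smul_apply, smul_eq_mul, div_mul_cancel₀ _ hw0, sub_self])
      rw [LinearMap.sub_apply, LinearMap.smul_apply, smul_eq_mul, sub_eq_zero] at h1
      rw [h1]
      field_simp
    have hk0 : φ0 u ≠ 0 := by
      obtain ⟨φ, hφ, h1⟩ := hvu
      intro e
      apply h1
      rw [hpr φ hφ, e, zero_div, zero_mul]
    have h3 := hc (1 + φ0 w / φ0 u) (fun φ hφ => by
      have h1 := hpr φ hφ
      have h2 : φ u' = φ w + φ u := by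
        rw [hwd, map_add, add_assoc, CharTwo.add_self_eq_zero, add_zero]
      rw [h2, h1]
      field_simp
      ring)
    have h4 : φ0 w / φ0 u = 0 := by
      have := h3
      rwa [add_eq_left] at this
    rw [div_eq_zero_iff] at h4
    exact h4.elim hw0 hk0

/-- **(TR)** -/
theorem exists_fix [FiniteDimensional F Q] {L : Subgroup H} [hL : L.Normal] {v u : Q} {g t : H} (hg : g • v = u)
    (hvu : ∃ φ ∈ Ph F L v, φ u ≠ 0) (ht : t • v = v) {k : ℕ} (htk : t ^ 2 ^ k = 1) :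
    ∃ y ∈ L, y • v = v ∧ y • u = t • u := by
  -- proportional evaluations are equal
  have hprop : ∀ c : F, (∀ φ ∈ Ph F L v, φ (t • u) = c * φ u) → c = 1 := by
    intro c hc
    have h1 : ∀ n : ℕ, ∀ φ ∈ Ph F L v, φ (t ^ n • u) = c ^ n * φ u := by
      intro n
      induction n with
      | zero => intro φ _; rw [pow_zero, one_smul, pow_zero, one_mul]
      | succ n ih =>
        intro φ hφ
        have h2 := comp_mem hφ (t ^ n)
        have h3 : (t ^ n)⁻¹ • v = v := by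
          have h5 : t ^ n ∈ MulAction.stabilizer H v := pow_mem (MulAction.mem_stabilizer_iff.2 ht) n
          rw [inv_smul_eq_iff]
          exact (MulAction.mem_stabilizer_iff.1 h5).symm
        rw [h3] at h2
        have h4 := hc _ h2
        rw [LinearMap.comp_apply, LinearMap.comp_apply, LinearEquiv.coe_coe, lin_apply, lin_apply, ← mul_smul,
          ← pow_succ, ih φ hφ] at h4
        rw [h4, pow_succ]
        ring
    obtain ⟨φ, hφ, hu⟩ := hvu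
    have h2 := h1 (2 ^ k) φ hφ
    rw [htk, one_smul] at h2
    have h3 : c ^ 2 ^ k = 1 := mul_right_cancel₀ hu (by rw [one_mul]; exact h2.symm)
    have h4 : (c - 1) ^ 2 ^ k = 0 := by rw [sub_pow_char_pow, h3, one_pow, sub_self]
    exact sub_eq_zero.1 (pow_eq_zero_iff (by positivity) |>.1 h4)
  have hgt : (t * g) • v = t • u := by rw [mul_smul, hg]
  by_cases hJ : ∃ φ ∈ Ph F L u, φ (t • u) ≠ 0
  · exact step hg hgt hvu hJ hprop
  · push Not at hJ
    -- `u'' = u + v`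
    obtain ⟨φ1, hφ1, hu1⟩ := hvu
    obtain ⟨τ, hτ, hτ'⟩ := hφ1.2 (φ1 u)⁻¹
    have hτv : τ • v = v := by rw [hτ', hφ1.1, mul_zero, zero_smul, add_zero]
    have hτu : τ • u = u + v := by rw [hτ', inv_mul_cancel₀ hu1, one_smul]
    have hgu : (τ * g) • v = u + v := by rw [mul_smul, hg, hτu]
    have hev : ∀ φ ∈ Ph F L v, φ (u + v) = φ u := fun φ hφ => by rw [map_add, hφ.1, add_zero]
    -- `Φ_{tu}` moves `v`
    have h1 : ∃ φ ∈ Ph F L v, φ (t • u) ≠ 0 := by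
      have h2 := comp_mem hφ1 t⁻¹
      rw [inv_inv, ht] at h2
      refine ⟨_, h2, ?_⟩
      rw [LinearMap.comp_apply, LinearEquiv.coe_coe, lin_apply, inv_smul_smul]
      exact hu1
    obtain ⟨ψ, hψ, hψv⟩ := symm hgt h1
    -- `Φ_{tu}` kills `u`
    have h3 : ψ u = 0 := by
      by_contra hne
      obtain ⟨φ, hφ, hn⟩ := symm (g := g * (t * g)⁻¹) (b := u) (by rw [← hgt, mul_smul, inv_smul_smul, hg])
        ⟨ψ, hψ, hne⟩
      exact hn (hJ φ hφ)
    have h4 : ∃ φ ∈ Ph F L (u + v), φ (t • u) ≠ 0 := by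
      refine symm (g := (τ * g) * (t * g)⁻¹) (a := t • u) (by rw [← hgt, mul_smul, inv_smul_smul, hgu]) ⟨ψ, hψ, ?_⟩
      rw [map_add, h3, zero_add]
      exact hψv
    obtain ⟨y, hy, hyv, hyu⟩ := step hgu hgt ⟨φ1, hφ1, by rw [hev φ1 hφ1]; exact hu1⟩ h4
      (fun c hc => hprop c fun φ hφ => by rw [hc φ hφ, hev φ hφ])
    refine ⟨y * τ, mul_mem hy hτ, by rw [mul_smul, hτv, hyv], by rw [mul_smul, hτu, hyu]⟩

end Cfsg.Agent.Omega.NO3S.FullQ.TR
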