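import Cfsg.Agent.Omega.NO3S.FullQ.GTrick
import Cfsg.Agent.Omega.NO3S.FullQ.Three
import Cfsg.Agent.Omega.NO3S.FullQ.TR
import Cfsg.Agent.Omega.NO3S.FullQ.Sec4

/-!
# FullB, `q ≥ 4`, class P: `[M, A] ≤ lam` (helper298 #21966, section 3; helper983 #22167)

* `nu_one` : `π (u v v') ∈ N` implies `π (u v v') = 1` for `u ∈ R_r`, `v ∈ R_x`, `v' ∈ R_{x'}`;
* `line_of` : `[f, m] ∈ lam` for `m ∈ h lam`;
* **`comm_lam_of_bad`** : `(p, q)` critical, every `f` has a mover without (D): `(ρ f • m) * m⁻¹ ∈ lam` for `f ∈ W_q`,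
  `m ∈ M`; `comm_lam` : the same for `(p, q)` without (D).
-/

set_option autoImplicit false
set_option linter.unusedSectionVars false

namespace Cfsg.Agent.Omega.NO3S.FullQ

open Subgroup Cfsg Cfsg.Agent.ZN Cfsg.Agent.MinSimple.VModule Cfsg.Agent.Omega.NOThree.Pts
open Cfsg.Agent.Omega.NO3S.FarQ Cfsg.Agent.Omega.NO3S.FarQ.Glue Cfsg.Agent.Omega.NO3S.FarQ.Free

variable {G X L : Type*} [Group G] [MulAction G X] [MulAction G L]
variable {inc : X → L → Prop} {R W : X → Subgroup G} {V : L → Subgroup G} {s t n : ℕ}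
variable {H M K : Type*} [Group H] [CommGroup M] [MulDistribMulAction H M] [CommGroup K]
variable {p q r : X} {l : L} {f h : G}
variable {Sy : Subgroup G} {ρ : G → H} {π : G → M} {ζ : K →* G} {T : Subgroup H} {lam U : Subgroup M}
  {Kh : Subgroup (M →* K)}
variable {Fd Q : Type*} [Field Fd] [AddCommGroup Q] [Module Fd Q] [DistribMulAction H Q] [SMulCommClass H Fd Q]

section group

variable {κ : M → Q} {a0 : Q} {N : Subgroup M}

theorem add_self' [CharP Fd 2] (v : Q) : v + v = 0 := by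
  rw [← two_smul Fd v, CharTwo.two_eq_zero, zero_smul]

/-- an element fixing `a₀` fixes `κ(lam)` -/
theorem fix_lam (C : Cnt.Qm Fd H κ a0 N lam) {g : H} {c : H} (hg : g • c • a0 = c • a0) {a : M} (ha : a ∈ lam) :
    κ (g • c • a) = κ (c • a) := by
  obtain ⟨x, hx⟩ := Submodule.mem_span_singleton.1 ((C.lam (κ a)).1 ⟨a, ha, rfl⟩)
  rw [C.act, C.act, ← hx, smul_comm c, smul_comm g, hg]

/-- **`nu = 1`** -/
theorem nu_one [CharP Fd 2] [FiniteDimensional Fd Q] (D : Geom inc R W V s t)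
    (b : Free.Bad inc R W n p q r l f h) (F : RD inc R W V p l Sy ρ π ζ T lam U Kh) (C : Cnt.Qm Fd H κ a0 N lam)
    (hun : ∀ g g' : H, ∀ a ∈ lam, ∀ b ∈ lam, (g • a) * (g' • b)⁻¹ ∈ N → g • a = g' • b)
    (hT : Two Kh N lam (ρ h))
    (hX : ∀ q', Crit inc W n p q' → ∀ f' ∈ W q', ∀ w ∈ W p, π w ∈ N → f' * w = w * f')
    (hφ : ∃ φ ∈ TR.Ph Fd (im F.re (Ls inc W n p) (Ls_le D b.pos)) a0, φ (ρ h • a0) ≠ 0)
    (hpl : ∃ x y : Fd, (ρ h)⁻¹ • a0 = x • a0 + y • ρ h • a0) {u v v' : G} (hu : u ∈ R r) (hv : v ∈ R (h • r))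
    (hv' : v' ∈ R (f • h • r)) (hn : π (u * v * v') ∈ N) : π (u * v * v') = 1 := by
  have hrW : R r ≤ W p := (D.R_le r l b.rl).trans (D.V_le p l b.pl)
  have hwW : u * v * v' ∈ W p := mul_mem (mul_mem (hrW hu) (b.xW D hv)) (b.x'W D hv')
  rw [F.re.pker _ hwW]
  refine F.cen _ hwW fun g hg => ?_
  have hgc := F.sy hg
  have ht : ρ g ∈ T := (F.mT _).2 ⟨g, hg, rfl⟩
  have hN : (im F.re (Ls inc W n p) (Ls_le D b.pos)).Normal := ⟨by
    rintro _ ⟨y, hy, rfl⟩ x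
    obtain ⟨c, hc, rfl⟩ := F.re.surj x
    exact ⟨c * y * c⁻¹, Ls_conj D hc hy, F.re.conj hc (Ls_le D b.pos hy)⟩⟩
  obtain ⟨a, ha, hκ⟩ := (C.lam a0).2 (Submodule.mem_span_singleton_self _)
  have hta : ρ g • a0 = a0 := by
    rw [← hκ, ← C.act, F.flag.fix _ ht a ha]
  obtain ⟨k, hk⟩ := F.flag.two ⟨ρ g, ht⟩
  have hk' : ρ g ^ 2 ^ k = 1 := congrArg Subtype.val hk
  obtain ⟨_, ⟨y, hy, rfl⟩, y1, y2⟩ := TR.exists_fix (L := im F.re (Ls inc W n p) (Ls_le D b.pos)) rfl hφ hta hk'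
  have hyc := Ls_le D b.pos hy
  have hgy : y⁻¹ * g ∈ centralizer (R p : Set G) := mul_mem (inv_mem hyc) hgc
  have e1 : ρ (y⁻¹ * g) = (ρ y)⁻¹ * ρ g := by
    rw [F.re.mul _ (inv_mem hyc) _ hgc, F.re.inv hyc]
  have f1 : ρ (y⁻¹ * g) • a0 = a0 := by
    rw [e1, mul_smul, hta, inv_smul_eq_iff, y1]
  have f2 : ρ (y⁻¹ * g) • ρ h • a0 = ρ h • a0 := by
    rw [e1, mul_smul, ← y2, inv_smul_smul]
  have f3 : ρ (y⁻¹ * g) • (ρ h)⁻¹ • a0 = (ρ h)⁻¹ • a0 := by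
    obtain ⟨x, z, hxz⟩ := hpl
    rw [hxz, smul_add, smul_comm _ x, f1, smul_comm _ z, f2]
  -- line vectors
  have g1 : ∀ a ∈ lam, ρ (y⁻¹ * g) • a = a := by
    intro a ha
    have h1 := fix_lam C (g := ρ (y⁻¹ * g)) (c := 1) (by simp only [one_smul]; exact f1) ha
    simp only [one_smul] at h1
    have h2 := hun (ρ (y⁻¹ * g)) 1 a ha a ha (by rw [one_smul]; exact C.mul_inv_mem h1)
    rwa [one_smul] at h2
  have g2 : ∀ a ∈ lam, ρ (y⁻¹ * g) • ρ h • a = ρ h • a := by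
    intro a ha
    have h1 := fix_lam C (c := ρ h) f2 ha
    rw [← mul_smul]
    refine hun _ _ a ha a ha ?_
    rw [mul_smul]
    exact C.mul_inv_mem h1
  have g3 : ∀ a ∈ lam, ρ (y⁻¹ * g) • (ρ h)⁻¹ • a = (ρ h)⁻¹ • a := by
    intro a ha
    have h1 := fix_lam C (c := (ρ h)⁻¹) f3 ha
    rw [← mul_smul]
    refine hun _ _ a ha a ha ?_
    rw [mul_smul]
    exact C.mul_inv_mem h1
  have hπu : π u ∈ lam := (F.mlam _).2 ⟨u, D.R_le r l b.rl hu, rfl⟩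
  have h5 := Bad.cent D b F hT hgy hu hv hv' hn (g1 _ hπu) g2 g3
  have h6 := Ls_cent (fun q' hq f' hf' => hX q' hq f' hf' _ hwW hn) hy
  calc g * (u * v * v') = y * (y⁻¹ * g * (u * v * v')) := by group
    _ = y * (u * v * v' * (y⁻¹ * g)) := by rw [h5]
    _ = (y * (u * v * v')) * (y⁻¹ * g) := by group
    _ = u * v * v' * g := by rw [h6]; group

/-- `[f, m] ∈ lam` for `m ∈ h lam` -/
theorem line_of [CharP Fd 2] [FiniteDimensional Fd Q] (D : Geom inc R W V s t)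
    (b : Free.Bad inc R W n p q r l f h) (F : RD inc R W V p l Sy ρ π ζ T lam U Kh) (C : Cnt.Qm Fd H κ a0 N lam)
    (hun : ∀ g g' : H, ∀ a ∈ lam, ∀ b ∈ lam, (g • a) * (g' • b)⁻¹ ∈ N → g • a = g' • b)
    (hT : Two Kh N lam (ρ h))
    (hX : ∀ q', Crit inc W n p q' → ∀ f' ∈ W q', ∀ w ∈ W p, π w ∈ N → f' * w = w * f')
    (hφ : ∃ φ ∈ TR.Ph Fd (im F.re (Ls inc W n p) (Ls_le D b.pos)) a0, φ (ρ h • a0) ≠ 0)
    (hpl : ∃ x y : Fd, (ρ h)⁻¹ • a0 = x • a0 + y • ρ h • a0)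
    (hle : ∀ v : Q, ρ f • v - v ∈ Submodule.span Fd {a0}) {a : M} (ha : a ∈ lam) :
    (ρ f • ρ h • a) * (ρ h • a)⁻¹ ∈ lam := by
  have hhc := Bad.h_cent b F
  have hfc : f ∈ centralizer (R p : Set G) :=
    mem_centralizer_iff.2 fun z hz => (b.crit.symm.comm_R D b.pos b.hf hz).symm
  obtain ⟨v0, hv0, rfl⟩ := exists_pre D F b.rl b.ne ha
  have hv : h * v0 * h⁻¹ ∈ R (h • r) := D.R_smul h r v0 hv0
  have hv' := D.R_smul f (h • r) _ hv
  have hv0W : v0 ∈ W p := D.V_le p l b.pl (D.R_le r l b.rl hv0)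
  have e1 : π (h * v0 * h⁻¹) = ρ h • π v0 := F.re.act h hhc v0 hv0W
  have e2 : π (f * (h * v0 * h⁻¹) * f⁻¹) = ρ f • ρ h • π v0 := by
    rw [F.re.act f hfc _ (b.xW D hv), e1]
  set m := ρ h • π v0 with hm
  obtain ⟨a, ha', hκ⟩ := (C.lam _).2 (hle (κ m))
  obtain ⟨u, hu, hπu⟩ := exists_pre D F b.rl b.ne ha'
  have huW : u ∈ W p := D.V_le p l b.pl (D.R_le r l b.rl hu)
  have e3 : π (u * (h * v0 * h⁻¹) * (f * (h * v0 * h⁻¹) * f⁻¹)) = a * m * (ρ f • m) := by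
    rw [F.re.pmul _ (mul_mem huW (b.xW D hv)) _ (b.x'W D hv'), F.re.pmul _ huW _ (b.xW D hv), hπu, e1, e2]
  have e4 : π (u * (h * v0 * h⁻¹) * (f * (h * v0 * h⁻¹) * f⁻¹)) ∈ N := by
    have e8 : κ (ρ f • m) = ρ f • κ m := C.act _ _
    rw [← C.ker, e3, C.pmul, C.pmul, hκ, e8, sub_add_cancel, add_self' (Fd := Fd)]
  have e5 := nu_one D b F C hun hT hX hφ hpl hu hv hv' e4
  rw [e3] at e5
  have e6 : (ρ f • m) * m⁻¹ = a⁻¹ := by
    have e7 : m⁻¹ = m := inv_eq_of_mul_eq_one_left (F.flag.sq m)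
    rw [e7, mul_comm, eq_inv_iff_mul_eq_one, mul_comm, ← mul_assoc]
    exact e5
  rw [e6]
  exact inv_mem ha'

end group

/-! ### additive notation -/

section add

variable {κ : M → Q} {a0 : Q} {N : Subgroup M}

/-- the additive action -/
@[reducible] def addAct (H M : Type*) [Group H] [CommGroup M] [MulDistribMulAction H M] :
    DistribMulAction H (Additive M) where
  smul h m := Additive.ofMul (h • m.toMul)
  one_smul m := congrArg Additive.ofMul (one_smul H m.toMul)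
  mul_smul g h m := congrArg Additive.ofMul (mul_smul g h m.toMul)
  smul_zero h := congrArg Additive.ofMul (smul_one h)
  smul_add h m m' := congrArg Additive.ofMul (smul_mul' h m.toMul m'.toMul)

attribute [local instance] addAct

/-- `κ` as an additive homomorphism -/
def kad (C : Cnt.Qm Fd H κ a0 N lam) : Additive M →+ Q := AddMonoidHom.mk' (fun m => κ m.toMul) fun _ _ => C.pmul _ _

theorem lv (F : Flag T lam U Kh) (C : Cnt.Qm Fd H κ a0 N lam)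
    (hun : ∀ g g' : H, ∀ a ∈ lam, ∀ b ∈ lam, (g • a) * (g' • b)⁻¹ ∈ N → g • a = g' • b) :
    Lv Fd H (kad C) (Subgroup.toAddSubgroup lam) a0 where
  two m := congrArg Additive.ofMul (F.sq m.toMul)
  act g m := C.act g m.toMul
  ne := C.ne
  lamc a ha := by
    obtain ⟨c, hc⟩ := Submodule.mem_span_singleton.1 ((C.lam (κ a.toMul)).1 ⟨a.toMul, ha, rfl⟩)
    exact ⟨c, hc.symm⟩
  clam c := by
    obtain ⟨a, ha, e⟩ := (C.lam (c • a0)).2 (Submodule.smul_mem _ _ (Submodule.mem_span_singleton_self _))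
    exact ⟨Additive.ofMul a, ha, e⟩
  uniq g g' a ha b hb e := congrArg Additive.ofMul (hun g g' a.toMul ha b.toMul hb (C.mul_inv_mem e))
  gen N' hN' := by
    have h1 := F.gen (AddSubgroup.toSubgroup' N') fun g a ha => hN' g (Additive.ofMul a) ha
    rw [eq_top_iff] at h1 ⊢
    exact fun m _ => h1 (mem_top m.toMul)

/-- `[m, e] ∈ lam` on `h lam` gives `[M, e] ≤ lam`. -/
theorem le_of_line [Finite Fd] [CharP Fd 2] [Finite Q] (F : Flag T lam U Kh) (C : Cnt.Qm Fd H κ a0 N lam)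
    (hd : N ⊓ lam = ⊥)
    (hun : ∀ g g' : H, ∀ a ∈ lam, ∀ b ∈ lam, (g • a) * (g' • b)⁻¹ ∈ N → g • a = g' • b)
    {φ : Q →ₗ[Fd] Fd} (hφ : ∀ c : Fd, ∃ e : H, (∀ v : Q, e • v = v + (c • φ) v • a0) ∧ ∀ m : M, κ m = 0 → e • m = m)
    {e : H} (he : ∀ v : Q, e • v = v + φ v • a0) (he' : ∀ m : M, κ m = 0 → e • m = m) {h : H}
    (hh : φ (h • a0) ≠ 0) (hl : ∀ a ∈ lam, (e • h • a) * (h • a)⁻¹ ∈ lam) (m : M) : (e • m) * m⁻¹ ∈ lam := by
  have L := lv F C hun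
  obtain ⟨σ, hσ, hσ'⟩ := L.exists_sec
  have hs : Function.Surjective (kad C) := fun v => by
    obtain ⟨m, hm⟩ := C.surj v
    exact ⟨Additive.ofMul m, hm⟩
  have hTr : Tr H (kad C) a0 φ := fun c => by
    obtain ⟨e, h1, h2⟩ := hφ c
    exact ⟨e, h1, fun m hm => congrArg Additive.ofMul (h2 m.toMul hm)⟩
  obtain ⟨k, hk, hk2⟩ := L.val' hs hσ hσ' hTr
  have hE : IsE H (kad C) a0 ((1 : Fd) • φ) e := by
    rw [one_smul]
    exact ⟨he, fun m hm => congrArg Additive.ofMul (he' m.toMul hm)⟩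
  have h1 := hk2 1 e one_ne_zero hE
  simp only [one_mul, div_one] at h1
  have h2 : ∀ m : M, (e • m) * m⁻¹ = (σ (φ (κ m))).toMul * (k (φ (κ m) ^ 2)).toMul := by
    intro m
    have h3 : m⁻¹ = m := inv_eq_of_mul_eq_one_left (F.sq m)
    rw [h3]
    exact congrArg Additive.toMul (h1 (Additive.ofMul m))
  have hk0 : ∀ c : Fd, k c = 0 := by
    intro c
    -- `c = d ^ 2`
    obtain ⟨d, hd2⟩ := (FiniteField.isSquare_of_char_two (F := Fd) (by
      exact ringChar.eq_iff.2 ‹CharP Fd 2›) c)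
    obtain ⟨a, ha, hκ⟩ := (C.lam ((d / φ (h • a0)) • a0)).2
      (Submodule.smul_mem _ _ (Submodule.mem_span_singleton_self _))
    have h3 : φ (κ (h • a)) = d := by
      rw [C.act, hκ, smul_comm h, LinearMap.map_smul, smul_eq_mul, div_mul_cancel₀ _ hh]
    have h4 := h2 (h • a)
    rw [h3] at h4
    have h5 : (k (d ^ 2)).toMul ∈ lam := by
      have h7 : (σ d).toMul ∈ lam := hσ d
      have h6 := lam.mul_mem (lam.inv_mem h7) (hl a ha)
      rwa [h4, inv_mul_cancel_left] at h6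
    have h6 : (k (d ^ 2)).toMul ∈ N ⊓ lam := ⟨(C.ker _).1 (hk _), h5⟩
    rw [hd, Subgroup.mem_bot] at h6
    rw [hd2, ← pow_two]
    exact h6
  rw [h2, hk0]
  exact mul_mem (hσ _) (one_mem _)

end add

section main

variable {κ : M → Q} {a0 : Q} {N : Subgroup M}

/-- a mover moves modulo `K_p` -/
theorem rho_ne' (D : Geom inc R W V s t) (b : Free.Bad inc R W n p q r l f h)
    (F : RD inc R W V p l Sy ρ π ζ T lam U Kh) : ρ h ≠ 1 := by
  intro h1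
  have hh := Bad.h_cent b F
  have h2 := (F.re.ker h hh).1 h1
  have hrW : R r ≤ W p := (D.R_le r l b.rl).trans (D.V_le p l b.pl)
  have h3 : ∀ v ∈ R r, h * v = v * h := by
    intro v hv
    have hz := h2 v (hrW hv)
    have e1 : h * v * h⁻¹ = (h * v * h⁻¹ * v⁻¹) * v := by group
    have e2 : (h * h) * v * (h * h)⁻¹ = v := by
      have e3 : (h * h) * v * (h * h)⁻¹ = h * (h * v * h⁻¹) * h⁻¹ := by group
      rw [e3, e1]
      have e4 : h * (h * v * h⁻¹ * v⁻¹ * v) * h⁻¹ = (h * (h * v * h⁻¹ * v⁻¹)) * v * h⁻¹ := by group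
      rw [e4, b.hc _ hz]
      have e5 : h * v * h⁻¹ * v⁻¹ * h * v * h⁻¹ = (h * v * h⁻¹ * v⁻¹) * (h * v * h⁻¹ * v⁻¹) * v := by group
      rw [e5, D.sq p _ (D.R_le_W p hz), one_mul]
    have e6 : h * h ∈ centralizer ({v} : Set G) := by
      rw [mem_centralizer_singleton_iff]
      exact mul_inv_eq_iff_eq_mul.1 e2
    have e7 : h ∈ centralizer ({v} : Set G) := by
      obtain ⟨j, hj⟩ := b.odd
      have h3 : (h * h) ^ (j + 1) = h := by
        rw [← pow_two, ← pow_mul, show 2 * (j + 1) = orderOf h + 1 by omega, pow_succ, pow_orderOf_eq_one, one_mul]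
      rw [← h3]
      exact pow_mem e6 _
    exact mem_centralizer_singleton_iff.1 e7
  have h4 : h • r = r := D.fix_of_centralizes h3
  apply b.mv
  rw [h4, b.W_fix_r D b.hf]

/-- **`[M, A] ≤ lam`** for a critical pair `(p, q)` all of whose `f` have a mover without (D), class P. -/
theorem comm_lam_of_bad [Finite G] [Finite H] [Finite M] [Finite Fd] [CharP Fd 2] (D : Geom inc R W V s t)
    (F : RD inc R W V p l Sy ρ π ζ T lam U Kh) (C : Cnt.Qm Fd H κ a0 N lam) (hc : Crit inc W n p q) (hn : 1 ≤ n)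
    (hd : N ⊓ lam = ⊥)
    (hun : ∀ g g' : H, ∀ a ∈ lam, ∀ b ∈ lam, (g • a) * (g' • b)⁻¹ ∈ N → g • a = g' • b) (hN : Dl Kh N)
    {A : Subgroup H} (hA : ∀ a, a ∈ A ↔ ∃ f ∈ W q, ρ f = a) (E : Cnt.Dat Fd κ a0 A)
    (hTwo : ∀ h : H, (∀ c : Fd, h • a0 ≠ c • h⁻¹ • a0) → Two Kh N lam h)
    (hX : ∀ q', Crit inc W n p q' → ∀ f' ∈ W q', ∀ w ∈ W p, π w ∈ N → f' * w = w * f')
    (hb : ∀ f ∈ W q, ρ f ≠ 1 → ∃ h, Free.Bad inc R W n p q r l f h)
    {f : G} (hf : f ∈ W q) (m : M) : (ρ f • m) * m⁻¹ ∈ lam := by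
  have hQ := E.finQ
  by_cases hf1 : ρ f = 1
  · rw [hf1, one_smul, mul_inv_cancel]
    exact one_mem _
  obtain ⟨h, b⟩ := hb f hf hf1
  have hh := Bad.h_cent b F
  have hne := rho_ne' D b F
  have hfc : f ∈ centralizer (R p : Set G) :=
    mem_centralizer_iff.2 fun z hz => (hc.symm.comm_R D hn hf hz).symm
  have hfA : ρ f ∈ A := (hA _).2 ⟨f, hf, rfl⟩
  have ho' : Odd (orderOf (ρ h)) := by
    have h1 : ρ h ^ orderOf h = 1 := by
      rw [← rho_pow F.toRF F.flag hh, pow_orderOf_eq_one, F.re.one]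
    exact Odd.of_dvd_nat b.odd (orderOf_dvd_of_pow_eq_one h1)
  have hi' : ρ f * ρ h * (ρ f)⁻¹ = (ρ h)⁻¹ := by rw [← F.re.conj hfc hh, b.inv, F.re.inv hh]
  have key : ∀ x ∈ lam, ∃ c : Fd, κ x = c • a0 := fun x hx => by
    obtain ⟨c, hc⟩ := Submodule.mem_span_singleton.1 ((C.lam (κ x)).1 ⟨x, hx, rfl⟩)
    exact ⟨c, hc.symm⟩
  -- the plane
  have h0 : a0 ∈ Cnt.pln Fd a0 (ρ h) := by
    obtain ⟨a, ha, hκ⟩ := (C.lam a0).2 (Submodule.mem_span_singleton_self _)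
    obtain ⟨x, hx, y, hy, z, hz, e⟩ := Bad.lam_le D b F hN ha
    obtain ⟨c, hc⟩ := key x hx
    obtain ⟨d, hd'⟩ := key y hy
    have h1 : κ a = c • ρ h • a0 + d • (ρ h)⁻¹ • a0 := by
      rw [e, C.pmul, C.pmul, (C.ker z).2 hz, add_zero, C.act, C.act, hc, hd', smul_comm (ρ h) c,
        smul_comm (ρ h)⁻¹ d]
    rw [hκ] at h1
    exact Submodule.mem_span_pair.2 ⟨c, d, h1.symm⟩
  have hpl : ∃ x y : Fd, (ρ h)⁻¹ • a0 = x • a0 + y • ρ h • a0 :=
    E.exists_of_mem hfA hne ho' hi' h0 (Submodule.subset_span (Set.mem_insert_of_mem _ rfl))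
  -- the functional
  obtain ⟨l', hl'⟩ := E.exists_l
  set φ := Cnt.Dat.fn Fd l' (ρ f) with hφd
  have hφ : ∀ v, ρ f • v = v + φ v • a0 := fun v => Cnt.Dat.eq_add hl' (E.le hfA v)
  have hφ0 : φ a0 = 0 := by
    have h1 := hφ a0
    rw [E.fix _ hfA] at h1
    have h2 : φ a0 • a0 = 0 := by
      have := h1.symm
      rwa [add_eq_left] at this
    exact (smul_eq_zero.1 h2).resolve_right E.ne
  have hφk : ∀ v, (∀ b ∈ A, b • v = v) → φ v = 0 := by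
    intro v hv
    have h1 := hφ v
    rw [hv _ hfA] at h1
    have h2 : φ v • a0 = 0 := by
      have := h1.symm
      rwa [add_eq_left] at this
    exact (smul_eq_zero.1 h2).resolve_right E.ne
  have hall : ∀ c : Fd, ∃ e ∈ A, ∀ v : Q, e • v = v + (c • φ) v • a0 := fun c =>
    E.all (c • φ) fun v hv => by rw [LinearMap.smul_apply, hφk v hv, smul_zero]
  have hφh : φ (ρ h • a0) ≠ 0 := by
    intro h1
    have h2 := hφ (ρ h • a0)
    rw [h1, zero_smul, add_zero, E.act_h hfA hne ho' hi'] at h2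
    exact E.notMem' hfA hne ho' hi' 1 (by rw [one_smul]; exact h2.symm)
  refine le_of_line F.flag C hd hun (fun c => ?_) hφ (fun m hm => E.fixK hm hfA) hφh (fun a ha => ?_) m
  · obtain ⟨e, he, h1⟩ := hall c
    exact ⟨e, h1, fun m hm => E.fixK hm he⟩
  · refine line_of D b F C hun (hTwo _ (E.notMem' hfA hne ho' hi')) hX ⟨φ, ⟨hφ0, fun c => ?_⟩, hφh⟩ hpl
      (fun v => E.le hfA v) ha
    obtain ⟨e, he, h1⟩ := hall c
    obtain ⟨g, hg, rfl⟩ := (hA e).1 he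
    exact ⟨ρ g, ⟨g, W_le_Ls hc hg, rfl⟩, fun v => by rw [h1, LinearMap.smul_apply, smul_eq_mul]⟩

/-- **`[M, A] ≤ lam`** for a critical pair `(p, q)` without (D), class P. -/
theorem comm_lam [Finite G] [Finite H] [Finite M] [Finite Fd] [CharP Fd 2] (D : Geom inc R W V s t)
    (F : RD inc R W V p l Sy ρ π ζ T lam U Kh) (C : Cnt.Qm Fd H κ a0 N lam) (hc : Crit inc W n p q) (hn : 1 ≤ n)
    (hnd : ¬ DP inc W p q) (hrl : inc r l) (hwk : Walk inc (n - 1) r q) (hd : N ⊓ lam = ⊥)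
    (hun : ∀ g g' : H, ∀ a ∈ lam, ∀ b ∈ lam, (g • a) * (g' • b)⁻¹ ∈ N → g • a = g' • b) (hN : Dl Kh N)
    {A : Subgroup H} (hA : ∀ a, a ∈ A ↔ ∃ f ∈ W q, ρ f = a) (E : Cnt.Dat Fd κ a0 A)
    (hTwo : ∀ h : H, (∀ c : Fd, h • a0 ≠ c • h⁻¹ • a0) → Two Kh N lam h)
    (hX : ∀ q', Crit inc W n p q' → ∀ f' ∈ W q', ∀ w ∈ W p, π w ∈ N → f' * w = w * f')
    {f : G} (hf : f ∈ W q) (m : M) : (ρ f • m) * m⁻¹ ∈ lam := by
  refine comm_lam_of_bad (r := r) D F C hc hn hd hun hN hA E hTwo hX (fun f hf hf1 => ?_) hf m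
  obtain ⟨h, hh, ho, hi, -, -, hmv, -⟩ := exists_mover_crit D F hc hn hrl hwk hf hf1
  have hhp : h • p = p := Four.fix_p D hh
  exact ⟨h,
    { crit := hc, pos := hn, pl := F.pl, rl := hrl, wk := hwk, hf := hf
      hc := fun z hz => (mem_centralizer_iff.1 hh z hz).symm, odd := ho, inv := hi, mv := hmv
      nd := fun h1 => hnd ⟨h • r, h • l, f, D.inc_smul h _ _ hrl, by
        have := D.inc_smul h _ _ F.pl
        rwa [hhp] at this, hf, hmv, h1⟩ }⟩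

end main

end Cfsg.Agent.Omega.NO3S.FullQ
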