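import Cfsg.Agent.Omega.NO3S.FullQ.Mover

/-!
# FullB, `q ≥ 4`, class P: the `g`-trick, group part (helper298 #21966, (3.1), (3.2))

`b : Free.Bad inc R W n p q r l f h` (a mover without (D)), `x = h r`, `x' = f h r = h⁻¹ r`.

* `Bad.rigid` : `g` centralising `R_x`, `R_{x'}` with `[g, u] ∈ R_p` (`u ∈ R_r`) centralises `u`;
* `exists_phi` : `g ∈ C_G(R_p)` with `[g, R_r] ≤ R_p`: `[g, v] = ζ (φ (π v))` on `R_r` for some `φ ∈ Kh`; `exists_phi'` on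
  the conjugate line;
* `Two Kh N lam h` : elements of `Kh` can be prescribed on `h lam` and `h⁻¹ lam`, trivially on `N`;
* `Bad.cent` : `g ∈ C_G(R_p)` fixing `π u` (`u ∈ R_r`) and `h lam`, `h⁻¹ lam` pointwise centralises `u v v'` for `v ∈ R_x`,
  `v' ∈ R_{x'}` with `π (u v v') ∈ N`;
* `Ls inc R W n p` : `⟨W_{q'} : (p, q') critical⟩`; `Ls_cent`.
-/

set_option autoImplicit false
set_option linter.unusedSectionVars false

namespace Cfsg.Agent.Omega.NO3S.FullQ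

open Subgroup Cfsg Cfsg.Agent.ZN Cfsg.Agent.MinSimple.VModule Cfsg.Agent.Omega.NOThree.Pts
open Cfsg.Agent.Omega.NO3S.FarQ Cfsg.Agent.Omega.NO3S.FarQ.Glue Cfsg.Agent.Omega.NO3S.FarQ.Free

variable {G X L : Type*} [Group G] [MulAction G X] [MulAction G L]
variable {inc : X → L → Prop} {R W : X → Subgroup G} {V : L → Subgroup G} {s t n : ℕ}
variable {H M K : Type*} [Group H] [CommGroup M] [MulDistribMulAction H M] [CommGroup K]
variable {p q r : X} {l : L} {f h : G}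
variable {Sy : Subgroup G} {ρ : G → H} {π : G → M} {ζ : K →* G} {T : Subgroup H} {lam U : Subgroup M}
  {Kh : Subgroup (M →* K)}

/-- `[g z v] ` etc.: `g` centralising `R_p` and two elements with difference in `R_p` -/
theorem commute_of_mem {p x : X} (D : Geom inc R W V s t) (hxp : x ≠ p) {g u : G} (h1 : g * u * g⁻¹ * u⁻¹ ∈ R x)
    (h2 : g * u * g⁻¹ * u⁻¹ ∈ R p) : g * u = u * g := by
  by_contra h3
  refine hxp (D.ti x p _ h1 h2 fun e => h3 ?_)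
  rw [mul_inv_eq_one, mul_inv_eq_iff_eq_mul] at e
  exact e

/-- **Rigidity**: `g` centralises `R_x`, `R_{x'}` and `[g, u] ∈ R_p` for some `u ∈ R_r`; then `g` centralises `u`. -/
theorem Bad.rigid (D : Geom inc R W V s t) (b : Free.Bad inc R W n p q r l f h) {g u : G}
    (h1 : ∀ a ∈ R (h • r), g * a = a * g) (h2 : ∀ a ∈ R (f • h • r), g * a = a * g) (hu : u ∈ R r)
    (hgu : g * u * g⁻¹ * u⁻¹ ∈ R p) : g * u = u * g := by
  by_cases hu1 : u = 1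
  · rw [hu1, mul_one, one_mul]
  have hnd := b.nd
  push Not at hnd
  obtain ⟨y, y1, y2, y3⟩ := hnd
  have k1 : g • (h • r) = h • r := D.fix_of_centralizes h1
  have k2 : g • (f • h • r) = f • h • r := D.fix_of_centralizes h2
  have k1' : g⁻¹ • (h • r) = h • r := by rw [inv_smul_eq_iff, k1]
  have k2' : g⁻¹ • (f • h • r) = f • h • r := by rw [inv_smul_eq_iff, k2]
  have y4 : g⁻¹ * y * g ∈ W r := by
    have a1 := D.norm_W k1' y1
    have a2 := D.norm_W k2' y2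
    rw [inv_inv] at a1 a2
    exact (b.Y_mem D a1 a2).1
  have y5 : y ∈ W (g • r) := (D.W_smul_iff g).2 y4
  have hgr : inc (g • r) l := by
    have h3 : g * u * g⁻¹ ∈ R (g • r) := D.R_smul g r u hu
    have h4 : g * u * g⁻¹ ∈ V l := by
      have h5 := mul_mem (D.R_le p l b.pl hgu) (D.R_le r l b.rl hu)
      rwa [inv_mul_cancel_right] at h5
    refine on_line D h3 (fun h5 => hu1 ?_) h4
    calc u = g⁻¹ * (g * u * g⁻¹) * g := by group
      _ = 1 := by rw [h5]; group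
  have hke : g • r = r := by
    by_contra h5
    have h6 := D.F1 r (g • r) p l b.rl hgr b.pl (Ne.symm h5) b.ne
    have h7 : y ∈ W r ⊓ W (g • r) := ⟨(b.Y_mem D y1 y2).1, y5⟩
    rw [h6] at h7
    exact y3 h7.2
  exact commute_of_mem D b.ne (mul_mem (D.norm_R hke hu) (inv_mem hu)) hgu

/-- `g ∈ C_G(R_p)`, `[g, R_r] ≤ R_p`: on `R_r`, `g` acts as an element of `K_p`. -/
theorem exists_phi (D : Geom inc R W V s t) (F : RD inc R W V p l Sy ρ π ζ T lam U Kh) (hr : inc r l) (hrp : r ≠ p)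
    {g : G} (hg : g ∈ centralizer (R p : Set G)) (hgr : ∀ v ∈ R r, g * v * g⁻¹ * v⁻¹ ∈ R p) :
    ∃ φ ∈ Kh, ∀ v ∈ R r, g * v * g⁻¹ * v⁻¹ = ζ (φ (π v)) := by
  have hrW : R r ≤ W p := (D.R_le r l hr).trans (D.V_le p l F.pl)
  have hgp : g • p = p := Four.fix_p D hg
  have hcg : ∀ z ∈ R p, g * z = z * g := fun z hz => (mem_centralizer_iff.1 hg z hz).symm
  have hgr' : inc (g • r) l := by
    obtain ⟨u, hu, hu1⟩ := D.exists_ne r
    have h3 : g * u * g⁻¹ ∈ R (g • r) := D.R_smul g r u hu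
    have h4 : g * u * g⁻¹ ∈ V l := by
      have h5 := mul_mem (D.R_le p l F.pl (hgr u hu)) (D.R_le r l hr hu)
      rwa [inv_mul_cancel_right] at h5
    refine on_line D h3 (fun h5 => hu1 ?_) h4
    calc u = g⁻¹ * (g * u * g⁻¹) * g := by group
      _ = 1 := by rw [h5]; group
  have hgrp : g • r ≠ p := by
    intro e
    rw [← hgp] at e
    exact hrp (smul_left_cancel g e)
  obtain ⟨k, hk, hk1, hk2⟩ := F.tr r (g • r) hr hrp hgr' hgrp
  have hck : ∀ z ∈ R p, k * z = z * k := fun z hz => (mem_centralizer_iff.1 hk z hz).symm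
  have hKk : InK R W p k := ⟨hck, hk1⟩
  have hkg : (k * g) • r = r := by rw [mul_smul, hk2]
  have hcomm : ∀ v ∈ R r, (k * g) * v = v * (k * g) := by
    intro v hv
    refine commute_of_mem D hrp (mul_mem (D.norm_R hkg hv) (inv_mem hv)) ?_
    have e : k * g * v * (k * g)⁻¹ * v⁻¹ = (k * (g * v * g⁻¹ * v⁻¹) * k⁻¹) * (k * v * k⁻¹ * v⁻¹) := by group
    rw [e, hck _ (hgr v hv), mul_inv_cancel_right]
    exact mul_mem (hgr v hv) (hk1 v (hrW hv))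
  have hKi : InK R W p k⁻¹ := (mem_KK).1 (inv_mem ((mem_KK).2 hKk))
  obtain ⟨φ, hφ, e1⟩ := F.kh' k⁻¹ (inv_mem hk) hKi.low
  refine ⟨φ, hφ, fun v hv => ?_⟩
  rw [← e1 v (hrW hv)]
  have h1 := hcomm v hv
  have h2 : g * v * g⁻¹ = k⁻¹ * v * k⁻¹⁻¹ := by
    calc g * v * g⁻¹ = k⁻¹ * (k * g * v) * g⁻¹ := by group
      _ = k⁻¹ * (v * (k * g)) * g⁻¹ := by rw [h1]
      _ = _ := by group
  rw [h2]

/-- the same on the line `c l`, `c ∈ C_G(R_p)` -/
theorem exists_phi' (D : Geom inc R W V s t) (F : RD inc R W V p l Sy ρ π ζ T lam U Kh) (hr : inc r l) (hrp : r ≠ p)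
    {g c : G} (hg : g ∈ centralizer (R p : Set G)) (hc : c ∈ centralizer (R p : Set G))
    (hgr : ∀ v ∈ R (c • r), g * v * g⁻¹ * v⁻¹ ∈ R p) :
    ∃ φ ∈ Kh, ∀ v ∈ R (c • r), g * v * g⁻¹ * v⁻¹ = ζ (φ (π v)) := by
  have hcc : ∀ z ∈ R p, c * z = z * c := fun z hz => (mem_centralizer_iff.1 hc z hz).symm
  have hrW : R r ≤ W p := (D.R_le r l hr).trans (D.V_le p l F.pl)
  obtain ⟨φ, hφ, h1⟩ := exists_phi D F hr hrp (g := c⁻¹ * g * c) (mul_mem (mul_mem (inv_mem hc) hg) hc) (by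
    intro v hv
    have h2 := hgr _ (D.R_smul c r v hv)
    have e : c⁻¹ * g * c * v * (c⁻¹ * g * c)⁻¹ * v⁻¹ =
        c⁻¹ * (g * (c * v * c⁻¹) * g⁻¹ * (c * v * c⁻¹)⁻¹) * c := by group
    rw [e, mul_assoc, ← hcc _ h2, inv_mul_cancel_left]
    exact h2)
  obtain ⟨ψ, hψ, h3⟩ := F.flag.kh φ hφ (ρ c)⁻¹
  refine ⟨ψ, hψ, fun v hv => ?_⟩
  have hv' : c⁻¹ * v * c ∈ R r := (D.R_smul_iff c).1 hv
  have h4 := h1 _ hv'
  have h5 : π (c⁻¹ * v * c) = (ρ c)⁻¹ • π v := by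
    have h6 := F.re.act c hc _ (hrW hv')
    have e : c * (c⁻¹ * v * c) * c⁻¹ = v := by group
    rw [e] at h6
    rw [h6, inv_smul_smul]
  rw [h5, ← h3] at h4
  have h7 := hgr v hv
  calc g * v * g⁻¹ * v⁻¹ = c⁻¹ * (c * (g * v * g⁻¹ * v⁻¹)) := by group
    _ = c⁻¹ * ((g * v * g⁻¹ * v⁻¹) * c) := by rw [hcc _ h7]
    _ = c⁻¹ * g * c * (c⁻¹ * v * c) * (c⁻¹ * g * c)⁻¹ * (c⁻¹ * v * c)⁻¹ := by group
    _ = ζ (ψ (π v)) := h4

/-- Elements of `Kh` can be prescribed on `h lam` and `h⁻¹ lam`, trivially on `N`. -/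
def Two (Kh : Subgroup (M →* K)) (N lam : Subgroup M) (h : H) : Prop :=
  ∀ φ₁ ∈ Kh, ∀ φ₂ ∈ Kh, ∃ φ ∈ Kh, (∀ a ∈ lam, φ (h • a) = φ₁ (h • a)) ∧ (∀ a ∈ lam, φ (h⁻¹ • a) = φ₂ (h⁻¹ • a)) ∧
    ∀ m ∈ N, φ m = 1

/-- **(3.1)** -/
theorem Bad.cent (D : Geom inc R W V s t) (b : Free.Bad inc R W n p q r l f h)
    (F : RD inc R W V p l Sy ρ π ζ T lam U Kh) {N : Subgroup M} (hT : Two Kh N lam (ρ h)) {g : G}
    (hg : g ∈ centralizer (R p : Set G)) {u v v' : G} (hu : u ∈ R r) (hv : v ∈ R (h • r)) (hv' : v' ∈ R (f • h • r))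
    (hn : π (u * v * v') ∈ N) (h0 : ρ g • π u = π u) (h1 : ∀ a ∈ lam, ρ g • ρ h • a = ρ h • a)
    (h2 : ∀ a ∈ lam, ρ g • (ρ h)⁻¹ • a = (ρ h)⁻¹ • a) : g * (u * v * v') = u * v * v' * g := by
  have hhc := h_cent b F
  have hhc' : h⁻¹ ∈ centralizer (R p : Set G) := inv_mem hhc
  have hrW : R r ≤ W p := (D.R_le r l b.rl).trans (D.V_le p l b.pl)
  have hcg : ∀ z ∈ R p, g * z = z * g := fun z hz => (mem_centralizer_iff.1 hg z hz).symm
  -- `[g, w] ∈ R_p` iff `ρ g` fixes `π w`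
  have key : ∀ w ∈ W p, ρ g • π w = π w → g * w * g⁻¹ * w⁻¹ ∈ R p := by
    intro w hw e
    have hgw : g * w * g⁻¹ ∈ W p := Four.norm_p D hg hw
    rw [← F.re.pker _ (mul_mem hgw (inv_mem hw)), π_comm F.re D hg hw, e, mul_inv_cancel]
  have hx : ∀ w ∈ R (h • r), g * w * g⁻¹ * w⁻¹ ∈ R p := by
    intro w hw
    obtain ⟨a, ha, e⟩ := pi_mem D F b.rl hhc hw
    exact key w (b.xW D hw) (by rw [e]; exact h1 a ha)
  have hx' : ∀ w ∈ R (h⁻¹ • r), g * w * g⁻¹ * w⁻¹ ∈ R p := by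
    intro w hw
    obtain ⟨a, ha, e⟩ := pi_mem D F b.rl hhc' hw
    rw [← b.fx_eq D] at hw
    refine key w (b.x'W D hw) ?_
    rw [e, F.re.inv hhc]
    exact h2 a ha
  obtain ⟨φ₁, hφ₁, e1⟩ := exists_phi' D F b.rl b.ne hg hhc hx
  obtain ⟨φ₂, hφ₂, e2⟩ := exists_phi' D F b.rl b.ne hg hhc' hx'
  obtain ⟨φ, hφ, t1, t2, t3⟩ := hT φ₁ hφ₁ φ₂ hφ₂
  obtain ⟨k, hk, hk2⟩ := F.kh φ hφ
  have hck : ∀ z ∈ R p, k * z = z * k := fun z hz => (mem_centralizer_iff.1 hk z hz).symm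
  have hK : InK R W p k := ⟨hck, fun w hw => by
    rw [hk2 w hw]
    exact (F.ran _).2 ⟨_, rfl⟩⟩
  have hkw : ∀ w ∈ W p, φ (π w) = 1 → k * w = w * k := by
    intro w hw h3
    have h4 := hk2 w hw
    rw [h3, map_one, mul_inv_eq_one, mul_inv_eq_iff_eq_mul] at h4
    exact h4
  -- `k⁻¹ g` centralises `R_x`, `R_{x'}`
  have c1 : ∀ a ∈ R (h • r), k⁻¹ * g * a = a * (k⁻¹ * g) := by
    intro a ha
    obtain ⟨c, hc, e⟩ := pi_mem D F b.rl hhc ha
    have h3 := e1 a ha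
    rw [e, ← t1 c hc, ← e, ← hk2 a (b.xW D ha)] at h3
    have h4 : g * a * g⁻¹ = k * a * k⁻¹ := mul_right_cancel h3
    calc k⁻¹ * g * a = k⁻¹ * (g * a * g⁻¹) * g := by group
      _ = k⁻¹ * (k * a * k⁻¹) * g := by rw [h4]
      _ = a * (k⁻¹ * g) := by group
  have c2 : ∀ a ∈ R (f • h • r), k⁻¹ * g * a = a * (k⁻¹ * g) := by
    intro a ha
    have ha' := ha
    rw [b.fx_eq D] at ha'
    obtain ⟨c, hc, e⟩ := pi_mem D F b.rl hhc' ha'
    rw [F.re.inv hhc] at e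
    have h3 := e2 a ha'
    rw [e, ← t2 c hc, ← e, ← hk2 a (b.x'W D ha)] at h3
    have h4 : g * a * g⁻¹ = k * a * k⁻¹ := mul_right_cancel h3
    calc k⁻¹ * g * a = k⁻¹ * (g * a * g⁻¹) * g := by group
      _ = k⁻¹ * (k * a * k⁻¹) * g := by rw [h4]
      _ = a * (k⁻¹ * g) := by group
  have c3 : k⁻¹ * g * u = u * (k⁻¹ * g) := by
    refine Bad.rigid D b c1 c2 hu ?_
    have h3 := key u (hrW hu) h0
    have hKi : InK R W p k⁻¹ := (mem_KK).1 (inv_mem ((mem_KK).2 hK))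
    have h4 := hKi.low u (hrW hu)
    have e : k⁻¹ * g * u * (k⁻¹ * g)⁻¹ * u⁻¹ = (k⁻¹ * (g * u * g⁻¹ * u⁻¹) * k⁻¹⁻¹) * (k⁻¹ * u * k⁻¹⁻¹ * u⁻¹) := by
      group
    rw [e, hKi.cent _ h3, mul_inv_cancel_right]
    exact mul_mem h3 h4
  have c4 : k⁻¹ * g * (u * v * v') = u * v * v' * (k⁻¹ * g) := by
    calc k⁻¹ * g * (u * v * v') = (k⁻¹ * g * u) * v * v' := by group
      _ = u * (k⁻¹ * g * v) * v' := by rw [c3]; group
      _ = u * v * (k⁻¹ * g * v') := by rw [c1 v hv]; group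
      _ = _ := by rw [c2 v' hv']; group
  have c5 : k * (u * v * v') = u * v * v' * k :=
    hkw _ (mul_mem (mul_mem (hrW hu) (b.xW D hv)) (b.x'W D hv')) (t3 _ hn)
  calc g * (u * v * v') = k * (k⁻¹ * g * (u * v * v')) := by group
    _ = k * (u * v * v' * (k⁻¹ * g)) := by rw [c4]
    _ = (k * (u * v * v')) * (k⁻¹ * g) := by group
    _ = u * v * v' * g := by rw [c5]; group

/-! ### `L̂ = ⟨W_{q'} : (p, q') critical⟩` -/

/-- `⟨W_{q'} : (p, q') critical⟩` -/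
def Ls (inc : X → L → Prop) (W : X → Subgroup G) (n : ℕ) (p : X) : Subgroup G :=
  closure {f | ∃ q', Crit inc W n p q' ∧ f ∈ W q'}

theorem Ls_le (D : Geom inc R W V s t) (hn : 1 ≤ n) : Ls inc W n p ≤ centralizer (R p : Set G) := by
  rw [Ls, closure_le]
  rintro f ⟨q', hc, hf⟩
  exact mem_centralizer_iff.2 fun z hz => (hc.symm.comm_R D hn hf hz).symm

theorem W_le_Ls (hc : Crit inc W n p q) : W q ≤ Ls inc W n p := fun _ hf => subset_closure ⟨q, hc, hf⟩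

/-- an element which commutes with all `W_{q'}` commutes with `L̂` -/
theorem Ls_cent {w : G} (h : ∀ q', Crit inc W n p q' → ∀ f ∈ W q', f * w = w * f) {y : G} (hy : y ∈ Ls inc W n p) :
    y * w = w * y := by
  have h1 : Ls inc W n p ≤ centralizer {w} := by
    rw [Ls, closure_le]
    rintro f ⟨q', hc, hf⟩
    exact mem_centralizer_singleton_iff.2 (h q' hc f hf)
  exact mem_centralizer_singleton_iff.1 (h1 hy)

/-- `L̂` is normalised by `C_G(R_p)` -/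
theorem Ls_conj (D : Geom inc R W V s t) {g : G} (hg : g ∈ centralizer (R p : Set G)) {y : G} (hy : y ∈ Ls inc W n p) :
    g * y * g⁻¹ ∈ Ls inc W n p := by
  have hgp : g • p = p := Four.fix_p D hg
  have h1 : Ls inc W n p ≤ (Ls inc W n p).comap (MulAut.conj g).toMonoidHom := by
    conv_lhs => rw [Ls]
    rw [closure_le]
    rintro f ⟨q', hc, hf⟩
    refine subset_closure ⟨g • q', ?_, D.W_smul g q' f hf⟩
    have h2 := hc.smul D g
    rwa [hgp] at h2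
  exact h1 hy

end Cfsg.Agent.Omega.NO3S.FullQ
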