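import Mathlib

/-!
# NO-3S, `FullB`, `q ≥ 4`, class P (helper471 #21459, section 4): the form `kap`

`s x y` is the unique line vector over the vector `x v₀ + y v₁` of the plane `P⁺/N⁺`, `u t`, `l t` are the two root
groups (trivial on `N = N⁺`).

* `Pl.exists_kap` : `s x y = s x 0 + s 0 y + kap (x y)`, `kap : F →+ M` with values in `N`;
* `Pl.val` : `[m, u t] = s (t φ(m)) 0 + kap (t φ(m)²)` for all `m`;
* `kap_zero_of_two` : two independent root groups in `A` (`d ≥ 2`) ⟹ `kap = 0`.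
-/

set_option autoImplicit false

namespace Cfsg.Agent.Omega.NO3S.FullQ

variable {F M H : Type*} [Field F] [AddCommGroup M] [Group H] [DistribMulAction H M]

/-- the plane: `s x y` = the line vector over `x v₀ + y v₁`; `u`, `l` the root groups of `SL₂(F)` -/
structure Pl (N : AddSubgroup M) (u l : F → H) (s : F → F → M) : Prop where
  two : ∀ m : M, m + m = 0
  ax : ∀ x x', s x 0 + s x' 0 = s (x + x') 0
  ay : ∀ y y', s 0 y + s 0 y' = s 0 (y + y')
  b : ∀ x y x' y', s x y + s x' y' + s (x + x') (y + y') ∈ N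
  us : ∀ t x y, u t • s x y = s (x + t * y) y
  ls : ∀ t x y, l t • s x y = s x (y + t * x)
  un : ∀ t, ∀ n ∈ N, u t • n = n
  ln : ∀ t, ∀ n ∈ N, l t • n = n

namespace Pl

variable {N : AddSubgroup M} {u l : F → H} {s : F → F → M} (P : Pl N u l s)
include P

theorem eq_of_add {a b : M} (h : a + b = 0) : a = b := by
  have h1 := congrArg (· + b) h
  simp only [zero_add] at h1
  rw [← h1, add_assoc, P.two, add_zero]

theorem s00 : s 0 0 = 0 := by
  have h := P.ax 0 0
  rw [add_zero] at h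
  have h2 := P.two (s 0 0)
  rw [h] at h2; exact h2

/-- `K(x,y;x')` does not depend on `x` -/
theorem ku (x y x' : F) : s x y + s x' 0 + s (x + x') y = s 0 y + s x' 0 + s x' y := by
  by_cases hy : y = 0
  · subst hy
    rw [P.ax, P.two, P.s00, zero_add, P.two]
  · have h0 := P.b 0 y x' 0
    rw [zero_add, add_zero] at h0
    have h := P.un (x / y) _ h0
    rw [smul_add, smul_add, P.us, P.us, P.us] at h
    have e : x / y * y = x := div_mul_cancel₀ x hy
    rw [e, mul_zero, add_zero, zero_add, add_comm x' x] at h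
    exact h

theorem kl (x y y' : F) : s x y + s 0 y' + s x (y + y') = s x 0 + s 0 y' + s x y' := by
  by_cases hx : x = 0
  · subst hx
    rw [P.ay, P.two, P.s00, zero_add, P.two]
  · have h0 := P.b x 0 0 y'
    rw [zero_add, add_zero] at h0
    have h := P.ln (y / x) _ h0
    rw [smul_add, smul_add, P.ls, P.ls, P.ls] at h
    have e : y / x * x = y := div_mul_cancel₀ y hx
    rw [e, mul_zero, add_zero, zero_add, add_comm y' y] at h
    exact h

omit P in
/-- the defect -/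
def kk (s : F → F → M) (x y : F) : M := s x y + (s x 0 + s 0 y)

theorem s_eq (x y : F) : s x y = kk s x y + (s x 0 + s 0 y) := by
  unfold kk; rw [add_assoc, P.two, add_zero]

theorem k_mem (x y : F) : kk s x y ∈ N := by
  have h := P.b x 0 0 y
  rw [zero_add, add_zero] at h
  rw [kk, add_comm]
  exact h

theorem k_addl (x x' y : F) : kk s (x + x') y = kk s x y + kk s x' y := by
  have h := P.ku x y x'
  rw [P.s_eq x y, P.s_eq (x + x') y, P.s_eq x' y, ← P.ax x x'] at h
  symm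
  apply P.eq_of_add
  have e : kk s x y + (s x 0 + s 0 y) + s x' 0 + (kk s (x + x') y + (s x 0 + s x' 0 + s 0 y)) =
      (kk s x y + kk s (x + x') y) + ((s x 0 + s 0 y + s x' 0) + (s x 0 + s 0 y + s x' 0)) := by abel
  have e' : s 0 y + s x' 0 + (kk s x' y + (s x' 0 + s 0 y)) =
      kk s x' y + ((s 0 y + s x' 0) + (s 0 y + s x' 0)) := by abel
  rw [e, e', P.two, P.two, add_zero, add_zero] at h
  rw [add_right_comm, h, P.two]

theorem k_addr (x y y' : F) : kk s x (y + y') = kk s x y + kk s x y' := by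
  have h := P.kl x y y'
  rw [P.s_eq x y, P.s_eq x (y + y'), P.s_eq x y', ← P.ay y y'] at h
  symm
  apply P.eq_of_add
  have e : kk s x y + (s x 0 + s 0 y) + s 0 y' + (kk s x (y + y') + (s x 0 + (s 0 y + s 0 y'))) =
      (kk s x y + kk s x (y + y')) + ((s x 0 + s 0 y + s 0 y') + (s x 0 + s 0 y + s 0 y')) := by abel
  have e' : s x 0 + s 0 y' + (kk s x y' + (s x 0 + s 0 y')) =
      kk s x y' + ((s x 0 + s 0 y') + (s x 0 + s 0 y')) := by abel
  rw [e, e', P.two, P.two, add_zero, add_zero] at h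
  rw [add_right_comm, h, P.two]

/-- the torus relation `k (t y₁) y₂ = k (t y₂) y₁` -/
theorem k_swap (t y₁ y₂ : F) : kk s (t * y₁) y₂ = kk s (t * y₂) y₁ := by
  have h0 := P.b 0 y₁ 0 y₂
  rw [add_zero] at h0
  have h := P.un t _ h0
  rw [smul_add, smul_add, P.us, P.us, P.us, zero_add, zero_add, zero_add, P.ay, P.two] at h
  rw [P.s_eq (t * y₁) y₁, P.s_eq (t * y₂) y₂, P.s_eq (t * (y₁ + y₂)) (y₁ + y₂)] at h
  have a1 := P.ax (t * y₁) (t * y₂)
  rw [← mul_add] at a1
  rw [← a1, ← P.ay y₁ y₂] at h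
  rw [mul_add t y₁ y₂, P.k_addl, P.k_addr, P.k_addr] at h
  have e : kk s (t * y₁) y₁ + (s (t * y₁) 0 + s 0 y₁) + (kk s (t * y₂) y₂ + (s (t * y₂) 0 + s 0 y₂)) +
      (kk s (t * y₁) y₁ + kk s (t * y₁) y₂ + (kk s (t * y₂) y₁ + kk s (t * y₂) y₂) +
      (s (t * y₁) 0 + s (t * y₂) 0 + (s 0 y₁ + s 0 y₂))) =
      (kk s (t * y₁) y₂ + kk s (t * y₂) y₁) +
      ((kk s (t * y₁) y₁ + kk s (t * y₂) y₂ + s (t * y₁) 0 + s 0 y₁ + s (t * y₂) 0 + s 0 y₂) +
      (kk s (t * y₁) y₁ + kk s (t * y₂) y₂ + s (t * y₁) 0 + s 0 y₁ + s (t * y₂) 0 + s 0 y₂)) := by abel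
  rw [e, P.two, add_zero] at h
  exact P.eq_of_add h

/-- **`kap`** -/
theorem exists_kap : ∃ k : F →+ M, (∀ z, k z ∈ N) ∧ ∀ x y, s x y = s x 0 + s 0 y + k (x * y) := by
  refine ⟨AddMonoidHom.mk' (fun z => kk s z 1) (fun a b => P.k_addl a b 1), fun z => P.k_mem z 1, fun x y => ?_⟩
  have h := P.k_swap x y 1
  rw [mul_one] at h
  show s x y = s x 0 + s 0 y + kk s (x * y) 1
  rw [h, P.s_eq x y]
  unfold kk
  abel

end Pl

/-- the value of the commutator with `u t` on `M` -/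
theorem Pl.val {N : AddSubgroup M} {u l : F → H} {s : F → F → M} (P : Pl N u l s) {k : F →+ M}
    (hk : ∀ x y, s x y = s x 0 + s 0 y + k (x * y)) (φ : M →+ F) (hs : ∀ y, φ (s 0 y) = y) {t : F}
    (h0 : ∀ m, φ m = 0 → u t • m = m) (m : M) :
    u t • m + m = s (t * φ m) 0 + k (t * φ m ^ 2) := by
  obtain ⟨n, hn⟩ : ∃ n, n = m + s 0 (φ m) := ⟨_, rfl⟩
  have hm : m = n + s 0 (φ m) := by rw [hn, add_assoc, P.two, add_zero]
  have hn0 : φ n = 0 := by
    rw [hn, map_add, hs]
    have h2 : φ m + φ m = φ (m + m) := (map_add φ m m).symm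
    rw [h2, P.two, map_zero]
  have h1 : u t • m = n + s (t * φ m) (φ m) := by
    conv_lhs => rw [hm]
    rw [smul_add, h0 n hn0, P.us, zero_add]
  have h3 : s (t * φ m) (φ m) = s (t * φ m) 0 + s 0 (φ m) + k (t * φ m ^ 2) := by
    rw [hk (t * φ m) (φ m)]
    congr 2
    ring
  have e : n + (s (t * φ m) 0 + s 0 (φ m) + k (t * φ m ^ 2)) + (n + s 0 (φ m)) =
      s (t * φ m) 0 + k (t * φ m ^ 2) + ((n + s 0 (φ m)) + (n + s 0 (φ m))) := by abel
  rw [h1, h3]
  conv_lhs => rw [show m = n + s 0 (φ m) from hm]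
  have e2 : φ (n + s 0 (φ m)) = φ m := by rw [← hm]
  rw [e2, e, P.two, add_zero]

/-- `d ≥ 2` : the form `kap` is zero -/
theorem kap_zero_of_two [Finite F] [CharP F 2] (h4 : 4 ≤ Nat.card F) (two : ∀ m : M, m + m = 0) {σ k k' : F →+ M}
    (h : ∀ t t' : F, t ≠ 0 → t' ≠ 0 → ∃ (k'' : F → M), ∀ x x' : F,
      σ x + k (x ^ 2 / t) + (σ x' + k' (x' ^ 2 / t')) = σ (x + x') + k'' (x + x')) : k = 0 := by
  have key : ∀ t t' : F, t ≠ 0 → t' ≠ 0 → ∀ x : F, k (x ^ 2 / t) = k' (x ^ 2 / t') := by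
    intro t t' ht ht' x
    obtain ⟨k'', h1⟩ := h t t' ht ht'
    have a := h1 x 0
    have b := h1 0 x
    simp only [map_zero, add_zero, zero_add, ne_eq, OfNat.ofNat_ne_zero, not_false_eq_true, zero_pow, zero_div] at a b
    have c := a.trans b.symm
    exact add_left_cancel c
  obtain ⟨c, hc0, hc1⟩ : ∃ c : F, c ≠ 0 ∧ c ≠ 1 := by
    by_contra hc
    push Not at hc
    have h5 : (Set.univ : Set F) ⊆ {0, 1} := fun x _ => by
      by_cases hx : x = 0
      · exact Or.inl hx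
      · exact Or.inr (hc x hx)
    have h6 := Set.ncard_le_ncard h5 (Set.toFinite _)
    rw [Set.ncard_univ] at h6
    have h7 := Set.ncard_insert_le (0 : F) {1}
    rw [Set.ncard_singleton] at h7
    omega
  have hsq : ∀ z : F, ∃ x, x ^ 2 = z := by
    have hi : Function.Injective (fun x : F => x ^ 2) := by
      intro x y hxy
      have h9 : x ^ 2 = y ^ 2 := hxy
      have h8 : (x - y) ^ 2 = 0 := by
        have e2 : (2 : F) = 0 := CharTwo.two_eq_zero
        linear_combination h9 + (y ^ 2 - x * y) * e2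
      exact sub_eq_zero.mp (pow_eq_zero_iff (two_ne_zero) |>.mp h8)
    exact Finite.surjective_of_injective hi
  have key2 : ∀ z : F, k (z / c) = k z := by
    intro z
    obtain ⟨x, hx⟩ := hsq z
    have a := key c 1 hc0 one_ne_zero x
    have b := key 1 1 one_ne_zero one_ne_zero x
    rw [hx] at a b
    rw [a, ← b, div_one]
  have hd : (1 / c + 1 : F) ≠ 0 := by
    intro e
    apply hc1
    have h2 : (1 / c + 1) * c = 0 := by rw [e, zero_mul]
    rw [add_mul, div_mul_cancel₀ _ hc0, one_mul] at h2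
    exact (CharTwo.add_eq_zero.mp h2).symm
  ext z
  have h5 := key2 (z / (1 / c + 1))
  have h6 : k z = k (z / (1 / c + 1) / c) + k (z / (1 / c + 1)) := by
    rw [← map_add]
    congr 1
    have e3 : z / (1 / c + 1) / c + z / (1 / c + 1) = z / (1 / c + 1) * (1 / c + 1) := by
      rw [mul_add, mul_one, mul_one_div]
    rw [e3, div_mul_cancel₀ _ hd]
  rw [h6, h5, two]
  rfl

end Cfsg.Agent.Omega.NO3S.FullQ
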