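import Cfsg.Agent.Omega.NO3S.FullQ.Sec4
import Cfsg.Agent.Omega.NO3S.FullQ.Three
import Cfsg.Agent.Omega.NO3S.FarQ.Free.Sum

/-!
# NO-3S, `FullB`, class P: section 4 for helper649's `Qm`, `Dat` (`M` multiplicative)

* `lv_of` : `Qm` + (line vectors congruent mod `N` are equal) + `M = ⟨lam^H⟩` ⟹ `Lv` on `Additive M`;
* `isE_of`, `tr_of` : the elements of `A` are of type `(a₀, φ)` with `Tr a₀ φ`.
-/

set_option autoImplicit false
set_option linter.unusedSectionVars false

namespace Cfsg.Agent.Omega.NO3S.FullQ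

open Cfsg.Agent.Omega.NO3S.FullQ.Cnt Cfsg.Agent.ZN Cfsg.Agent.Omega.NO3S.FarQ
open Cfsg.Agent.Omega.NO3S.FullQ.Cnt.Dat (fn fn_apply eq_add)

variable {F H M Q : Type*} [Field F] [AddCommGroup Q] [Module F Q] [Group H] [DistribMulAction H Q]
  [SMulCommClass H F Q] [CommGroup M] [MulDistribMulAction H M]

/-- `π` on `Additive M` -/
def piA {π : M → Q} {a0 : Q} {N lam : Subgroup M} (D : Qm F H π a0 N lam) : Additive M →+ Q :=
  AddMonoidHom.mk' (fun m => π m.toMul) fun m n => D.pmul m.toMul n.toMul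

section basic

variable {π : M → Q} {a0 : Q} {N lam : Subgroup M} {A : Subgroup H}

@[simp] theorem piA_apply (D : Qm F H π a0 N lam) (m : M) : piA D (Additive.ofMul m) = π m := rfl

/-- the line vectors -/
theorem lv_of (D : Qm F H π a0 N lam) (sq : ∀ m : M, m * m = 1)
    (uniq : ∀ g g' : H, ∀ a ∈ lam, ∀ b ∈ lam, (g • a) * (g' • b)⁻¹ ∈ N → g • a = g' • b)
    (gen : ∀ E : Subgroup M, (∀ h : H, ∀ a ∈ lam, h • a ∈ E) → E = ⊤) :
    @Lv F Q H (Additive M) _ _ _ _ _ _ (Free.addAct H M) (piA D) (Subgroup.toAddSubgroup lam) a0 := by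
  let _ : DistribMulAction H (Additive M) := Free.addAct H M
  refine { two := fun m => sq m.toMul, act := fun h m => D.act h m.toMul, ne := D.ne, lamc := ?_, clam := ?_,
           uniq := ?_, gen := ?_ }
  · intro a ha
    obtain ⟨c, hc⟩ := Submodule.mem_span_singleton.1 ((D.lam (π a.toMul)).1 ⟨a.toMul, ha, rfl⟩)
    exact ⟨c, hc.symm⟩
  · intro c
    obtain ⟨a, ha, hπ⟩ := (D.lam (c • a0)).2 (Submodule.smul_mem _ _ (Submodule.mem_span_singleton_self _))
    exact ⟨Additive.ofMul a, ha, hπ⟩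
  · intro h h' a ha b hb hab
    have h1 : π (h • a.toMul) = π (h' • b.toMul) := hab
    exact congrArg Additive.ofMul (uniq h h' a.toMul ha b.toMul hb (D.mul_inv_mem h1))
  · intro E hE
    have h1 : AddSubgroup.toSubgroup' E = ⊤ := gen _ fun h a ha => hE h (Additive.ofMul a) ha
    rw [eq_top_iff]
    intro m _
    have h2 : m.toMul ∈ AddSubgroup.toSubgroup' E := by rw [h1]; exact Subgroup.mem_top _
    exact h2

variable [Finite F] [CharP F 2] [Finite H] [Finite M]

/-- an element of `A` is of type `(a₀, fn l e)` -/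
theorem isE_of (D : Qm F H π a0 N lam) (E : Dat F π a0 A) {l : Module.Dual F Q} (hl : l a0 = 1) {e : H} (he : e ∈ A) :
    @IsE F Q H (Additive M) _ _ _ _ _ _ (Free.addAct H M) (piA D) a0 (fn F l e) e := by
  let _ : DistribMulAction H (Additive M) := Free.addAct H M
  exact ⟨fun v => eq_add hl (E.le he v), fun m hm => congrArg Additive.ofMul (E.fixK (m := m.toMul) hm he)⟩

theorem fn_zero {l : Module.Dual F Q} {e : H} (he : e ∈ A) {v : Q} (hv : ∀ b ∈ A, b • v = v) : fn F l e v = 0 := by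
  rw [fn_apply, hv e he, sub_self, map_zero]

/-- all multiples are realised -/
theorem tr_of (D : Qm F H π a0 N lam) (E : Dat F π a0 A) {φ : Module.Dual F Q}
    (hφ : ∀ v, (∀ b ∈ A, b • v = v) → φ v = 0) :
    @Tr F Q H (Additive M) _ _ _ _ _ _ (Free.addAct H M) (piA D) a0 φ := by
  let _ : DistribMulAction H (Additive M) := Free.addAct H M
  intro c
  obtain ⟨a, ha, h1⟩ := E.all (c • φ) fun v hv => by rw [LinearMap.smul_apply, hφ v hv, smul_zero]
  exact ⟨a, h1, fun m hm => congrArg Additive.ofMul (E.fixK (m := m.toMul) hm ha)⟩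

end basic

end Cfsg.Agent.Omega.NO3S.FullQ
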