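import Cfsg.Agent.Omega.NO3S.FullQ.Base

/-!
# NO-3S, `q ≥ 4`: sums of orbits (helper471 #21459, (2d), (7.0))

`C ≥ C_H(lam)`, `T ≤ C_H(lam)`: `ov C lam a = ∏ d • a`, `d ∈ C / C_H(lam)` (an odd number of factors).

* `ov_mul` : additive in `a`; `smul_ov` : `C` fixes `ov C lam a`; `ov_conj` : `N_H(C) ∩ N_H(lam)`-equivariant;
* `Flag.ov_mem` : if `C` centralises `lam` modulo `N`, then `ov C lam a ∈ a N`;
* `cmod N lam = C_H(lam mod N)`, `n0 N lam a = ov (cmod N lam) lam a * a⁻¹ ∈ N`: `n0_mul`, `n0_smul`, `fix_of_n0`,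
  `Flag.n0_mem`.
-/

set_option autoImplicit false
set_option linter.unusedSectionVars false

namespace Cfsg.Agent.Omega.NO3S.FullQ

open Subgroup Cfsg.Agent.ZN Cfsg.Agent.Omega.NO3S.PT Cfsg.Agent.Omega.NO3S.FarQ
open Cfsg.Agent.ClassTwoFusion.Quad (cv mem_cv cv_anti)

variable {H M K : Type*} [Group H] [CommGroup M] [MulDistribMulAction H M] [CommGroup K]

theorem mem_fixer {lam : Subgroup M} {h : H} : h ∈ fixer lam ↔ ∀ a ∈ lam, h • a = a := Iff.rfl

/-- `∏_{d ∈ C / C_H(lam)} d • a` -/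
noncomputable def ov [Finite H] (C : Subgroup H) (lam : Subgroup M) (a : M) : M :=
  letI := Fintype.ofFinite (C ⧸ (fixer (H := H) lam).subgroupOf C)
  ∏ q : C ⧸ (fixer (H := H) lam).subgroupOf C, ((q.out : C) : H) • a

section ov

variable [Finite H] {C : Subgroup H} {lam : Subgroup M}

theorem ov_mul (C : Subgroup H) (lam : Subgroup M) (a b : M) : ov C lam (a * b) = ov C lam a * ov C lam b := by
  unfold ov
  rw [← Finset.prod_mul_distrib]
  exact Finset.prod_congr rfl fun q _ => smul_mul' _ _ _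

theorem ov_one (C : Subgroup H) (lam : Subgroup M) : ov C lam (1 : M) = 1 := by
  unfold ov
  exact Finset.prod_eq_one fun q _ => smul_one _

/-- `c • a` depends only on the coset of `c` -/
theorem out_smul {c : H} (hc : c ∈ C) {a : M} (ha : a ∈ lam) :
    (((QuotientGroup.mk (⟨c, hc⟩ : C) : C ⧸ (fixer (H := H) lam).subgroupOf C).out : C) : H) • a = c • a := by
  have h1 : (⟨c, hc⟩ : C)⁻¹ * ((QuotientGroup.mk (⟨c, hc⟩ : C) : C ⧸ (fixer (H := H) lam).subgroupOf C).out) ∈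
      (fixer (H := H) lam).subgroupOf C := by
    rw [← QuotientGroup.eq, QuotientGroup.out_eq']
  rw [mem_subgroupOf] at h1
  have h2 := mem_fixer.1 h1 a ha
  rw [Subgroup.coe_mul, Subgroup.coe_inv, mul_smul, inv_smul_eq_iff] at h2
  exact h2

/-- `C` fixes `ov` -/
theorem smul_ov {c : H} (hc : c ∈ C) {a : M} (ha : a ∈ lam) : c • ov C lam a = ov C lam a := by
  let _ := Fintype.ofFinite (C ⧸ (fixer (H := H) lam).subgroupOf C)
  show c • (∏ q : C ⧸ (fixer (H := H) lam).subgroupOf C, ((q.out : C) : H) • a) =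
    ∏ q : C ⧸ (fixer (H := H) lam).subgroupOf C, ((q.out : C) : H) • a
  rw [Finset.smul_prod']
  refine Fintype.prod_equiv (MulAction.toPerm (⟨c, hc⟩ : C)) _ _ fun q => ?_
  obtain ⟨⟨d, hd⟩, rfl⟩ := QuotientGroup.mk_surjective q
  have h1 : (MulAction.toPerm (⟨c, hc⟩ : C)) (QuotientGroup.mk (⟨d, hd⟩ : C) :
      C ⧸ (fixer (H := H) lam).subgroupOf C) = QuotientGroup.mk (⟨c * d, mul_mem hc hd⟩ : C) := rfl
  rw [h1, out_smul hd ha, out_smul (mul_mem hc hd) ha, mul_smul]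

/-- equivariance -/
theorem ov_conj {g : H} (hgC : ∀ c, c ∈ C ↔ g * c * g⁻¹ ∈ C) (hgl : ∀ a, a ∈ lam ↔ g • a ∈ lam) {a : M}
    (ha : a ∈ lam) : g • ov C lam a = ov C lam (g • a) := by
  let _ := Fintype.ofFinite (C ⧸ (fixer (H := H) lam).subgroupOf C)
  show g • (∏ q : C ⧸ (fixer (H := H) lam).subgroupOf C, ((q.out : C) : H) • a) =
    ∏ q : C ⧸ (fixer (H := H) lam).subgroupOf C, ((q.out : C) : H) • g • a
  rw [Finset.smul_prod']
  have hfix : ∀ h : H, h ∈ fixer lam ↔ g * h * g⁻¹ ∈ fixer lam := by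
    intro h
    rw [mem_fixer, mem_fixer]
    constructor
    · intro h1 b hb
      have hb' : g⁻¹ • b ∈ lam := by rw [hgl, smul_inv_smul]; exact hb
      rw [mul_smul, mul_smul, h1 _ hb', smul_inv_smul]
    · intro h1 b hb
      have h2 := h1 _ ((hgl b).1 hb)
      rw [mul_smul, mul_smul, inv_smul_smul] at h2
      exact smul_left_cancel g h2
  let e : C ≃* C :=
    { toFun := fun c => ⟨g * c * g⁻¹, (hgC c).1 c.2⟩
      invFun := fun c => ⟨g⁻¹ * c * g, by
        rw [hgC]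
        have e1 : g * (g⁻¹ * (c : H) * g) * g⁻¹ = c := by group
        rw [e1]
        exact c.2⟩
      left_inv := fun c => Subtype.ext (by show g⁻¹ * (g * (c : H) * g⁻¹) * g = c; group)
      right_inv := fun c => Subtype.ext (by show g * (g⁻¹ * (c : H) * g) * g⁻¹ = c; group)
      map_mul' := fun c d => Subtype.ext (by
        show g * ((c : H) * d) * g⁻¹ = g * (c : H) * g⁻¹ * (g * (d : H) * g⁻¹)
        group) }
  let E : C ⧸ (fixer (H := H) lam).subgroupOf C ≃ C ⧸ (fixer (H := H) lam).subgroupOf C :=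
    Quotient.congr e.toEquiv (by
      intro c d
      rw [← @Quotient.eq'' _ (QuotientGroup.leftRel _) c d, ← @Quotient.eq'' _ (QuotientGroup.leftRel _) (e.toEquiv c) (e.toEquiv d)]
      change (QuotientGroup.mk c : C ⧸ (fixer (H := H) lam).subgroupOf C) = QuotientGroup.mk d ↔
        (QuotientGroup.mk (e c) : C ⧸ (fixer (H := H) lam).subgroupOf C) = QuotientGroup.mk (e d)
      rw [QuotientGroup.eq, QuotientGroup.eq, ← map_inv, ← map_mul, mem_subgroupOf, mem_subgroupOf]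
      exact hfix _)
  refine Fintype.prod_equiv E _ _ fun q => ?_
  obtain ⟨⟨d, hd⟩, rfl⟩ := QuotientGroup.mk_surjective q
  have h1 : E (QuotientGroup.mk (⟨d, hd⟩ : C)) = QuotientGroup.mk (⟨g * d * g⁻¹, (hgC d).1 hd⟩ : C) := rfl
  rw [h1, out_smul hd ha, out_smul _ ((hgl a).1 ha), mul_smul, mul_smul, inv_smul_smul]

end ov

/-- `C_H(lam mod N)` -/
def cmod (N lam : Subgroup M) (hN : HInv H N) : Subgroup H where
  carrier := {h | ∀ a ∈ lam, (h • a) * a⁻¹ ∈ N}
  one_mem' := fun a _ => by rw [one_smul, mul_inv_cancel]; exact one_mem _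
  mul_mem' := by
    intro x y hx hy a ha
    have e : (x * y) • a * a⁻¹ = (x • ((y • a) * a⁻¹)) * ((x • a) * a⁻¹) := by
      rw [smul_mul', smul_inv', mul_smul]
      group
    rw [e]
    exact mul_mem (hN x _ (hy a ha)) (hx a ha)
  inv_mem' := by
    intro x hx a ha
    have h1 := inv_mem (hN x⁻¹ _ (hx a ha))
    rw [smul_mul', inv_smul_smul, smul_inv', mul_inv_rev, inv_inv] at h1
    exact h1

theorem mem_cmod {N lam : Subgroup M} {hN : HInv H N} {h : H} :
    h ∈ cmod N lam hN ↔ ∀ a ∈ lam, (h • a) * a⁻¹ ∈ N := Iff.rfl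

theorem fixer_le_cmod {N lam : Subgroup M} {hN : HInv H N} : fixer lam ≤ cmod N lam hN := by
  intro h hh a ha
  rw [mem_fixer.1 hh a ha, mul_inv_cancel]
  exact one_mem _

theorem cq_le_cmod {N lam : Subgroup M} {hN : HInv H N} : cq N ≤ cmod N lam hN := fun _ hh a _ => hh a

section flag

variable {T : Subgroup H} {lam U : Subgroup M} {Kh : Subgroup (M →* K)} (F : Flag T lam U Kh)
include F

/-- a subgroup containing `T` has odd index -/
theorem _root_.Cfsg.Agent.Omega.NO3S.FarQ.Flag.odd_relIndex {A C : Subgroup H} (hT : T ≤ A) (hAC : A ≤ C) :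
    Odd (A.relIndex C) := by
  rw [← Nat.not_even_iff_odd, even_iff_two_dvd]
  intro h
  apply F.ndvd
  have h1 : A.relIndex C * C.index = A.index := relIndex_mul_index hAC
  have h2 : T.relIndex A * A.index = T.index := relIndex_mul_index hT
  rw [← h2, ← h1]
  exact Dvd.dvd.mul_left (Dvd.dvd.mul_right h _) _

theorem _root_.Cfsg.Agent.Omega.NO3S.FarQ.Flag.T_le : T ≤ fixer lam := fun t ht a ha => F.fix t ht a ha

theorem _root_.Cfsg.Agent.Omega.NO3S.FarQ.Flag.odd_pow {n : ℕ} (hn : Odd n) (a : M) : a ^ n = a := by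
  obtain ⟨k, rfl⟩ := hn
  rw [pow_succ, pow_mul, pow_two, F.sq, one_pow, one_mul]

theorem _root_.Cfsg.Agent.Omega.NO3S.FarQ.Flag.inv_eq (a : M) : a⁻¹ = a := inv_eq_of_mul_eq_one_left (F.sq a)

/-- `ov C lam a ∈ a N` if `C` centralises `lam` modulo `N` -/
theorem _root_.Cfsg.Agent.Omega.NO3S.FarQ.Flag.ov_mem [Finite H] {C : Subgroup H} (hC : fixer lam ≤ C) {N : Subgroup M}
    (hCN : ∀ c ∈ C, ∀ a ∈ lam, (c • a) * a⁻¹ ∈ N) {a : M} (ha : a ∈ lam) : ov C lam a * a⁻¹ ∈ N := by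
  let _ := Fintype.ofFinite (C ⧸ (fixer (H := H) lam).subgroupOf C)
  have h1 : ov C lam a * a⁻¹ = ∏ q : C ⧸ (fixer (H := H) lam).subgroupOf C, (((q.out : C) : H) • a) * a⁻¹ := by
    rw [Finset.prod_mul_distrib, Finset.prod_const, Finset.card_univ, inv_pow]
    have h2 : Fintype.card (C ⧸ (fixer (H := H) lam).subgroupOf C) = (fixer (H := H) lam).relIndex C := by
      rw [← Nat.card_eq_fintype_card]
      rfl
    rw [h2, F.odd_pow (F.odd_relIndex F.T_le hC)]
    rfl
  rw [h1]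
  exact prod_mem fun q _ => hCN _ (q.out : C).2 a ha

end flag

/-- `n₀(a) = a + v(a)` -/
noncomputable def n0 [Finite H] (N lam : Subgroup M) (hN : HInv H N) (a : M) : M := ov (cmod N lam hN) lam a * a⁻¹

section n0

variable [Finite H] {N lam : Subgroup M} {hN : HInv H N}

theorem n0_mul (a b : M) : n0 N lam hN (a * b) = n0 N lam hN a * n0 N lam hN b := by
  unfold n0
  rw [ov_mul, mul_inv]
  exact mul_mul_mul_comm _ _ _ _

theorem n0_one : n0 N lam hN (1 : M) = 1 := by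
  unfold n0
  rw [ov_one, inv_one, mul_one]

/-- `n₀` is equivariant for `N_H(lam)` -/
theorem n0_smul {g : H} (hg : ∀ a, a ∈ lam ↔ g • a ∈ lam) {a : M} (ha : a ∈ lam) :
    n0 N lam hN (g • a) = g • n0 N lam hN a := by
  unfold n0
  rw [smul_mul', smul_inv', ← ov_conj _ hg ha]
  intro c
  rw [mem_cmod, mem_cmod]
  constructor
  · intro h b hb
    have hb' : g⁻¹ • b ∈ lam := by rw [hg, smul_inv_smul]; exact hb
    have h1 := hN g _ (h _ hb')
    rw [smul_mul', smul_inv', smul_inv_smul] at h1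
    rw [mul_smul, mul_smul]
    exact h1
  · intro h b hb
    have h1 := hN g⁻¹ _ (h _ ((hg b).1 hb))
    rw [smul_mul', smul_inv', inv_smul_smul, mul_smul, mul_smul, inv_smul_smul, inv_smul_smul] at h1
    exact h1

/-- `n₀(a) = 1`: `C_H(lam mod N)` fixes `a` -/
theorem fix_of_n0 {a : M} (ha : a ∈ lam) (h : n0 N lam hN a = 1) {c : H} (hc : c ∈ cmod N lam hN) : c • a = a := by
  have h1 : ov (cmod N lam hN) lam a = a := mul_inv_eq_one.1 h
  have h2 := smul_ov hc ha
  rwa [h1] at h2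

end n0

theorem _root_.Cfsg.Agent.Omega.NO3S.FarQ.Flag.n0_mem {T : Subgroup H} {lam U : Subgroup M} {Kh : Subgroup (M →* K)}
    (F : Flag T lam U Kh) [Finite H] {N : Subgroup M} {hN : HInv H N} {a : M} (ha : a ∈ lam) : n0 N lam hN a ∈ N :=
  F.ov_mem fixer_le_cmod (fun _ hc => mem_cmod.1 hc) ha

end Cfsg.Agent.Omega.NO3S.FullQ
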