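import Cfsg.Agent.Omega.NO3S.FullQ.Three
import Cfsg.Agent.Omega.NO3S.FullQ.Base
import Cfsg.Agent.Omega.NO3S.FarQ.Free.Mover

/-!
# FULL, `q ≥ 4`: critical pairs of type N have movers (helper298 #21966, #22114 (T4))

`[M, A] ≤ lam`, `A ≤ O₂(C_H(lam))` of exponent 2: `Mv N lam A a` for every `a ∈ A`, `a ≠ 1`, and every `H`-invariant `N`.
-/

set_option autoImplicit false
set_option linter.unusedSectionVars false

namespace Cfsg.Agent.Omega.NO3S.FullQ.Cnt

open Subgroup Cfsg.Agent.ZN Cfsg.Agent.Omega.NO3S.FarQ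
open Cfsg.Agent.MinSimple.VModule (le_o2 o2_le o2_isPGroup le_normalizer_o2)
open Cfsg.Agent.ClassTwoFusion.Quad (cv mem_cv cv_anti)
open Cfsg.Agent.Omega.NO3S.FarQ.Free (eq_bot_of_normal conj_eq_sq mem_of_sq_mem)
open scoped Pointwise

variable {H M K : Type*} [Group H] [CommGroup M] [MulDistribMulAction H M] [CommGroup K]
variable {T : Subgroup H} {lam U : Subgroup M} {Kh : Subgroup (M →* K)} {N : Subgroup M} {A : Subgroup H}

/-- `h` of odd order inverted by `a ∈ O₂(C_H(lam))` and fixing some `1 ≠ x ∈ lam` is trivial. -/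
theorem eq_one_of_fix (F : Flag T lam U Kh) {a h : H} (ha : a ∈ ZN.o2 (fixer (H := H) lam)) (ho : Odd (orderOf h))
    (hi : a * h * a⁻¹ = h⁻¹) {x : M} (hx : x ∈ lam) (hx1 : x ≠ 1) (hhx : (h * h) • x = x) : h = 1 := by
  have hf : h * h ∈ fixer (H := H) lam := fun b hb => F.lin x hx hx1 _ hhx b hb
  have hf' : h ∈ fixer (H := H) lam := mem_of_sq_mem ho hf
  have := F.finH
  have h1 : h * a * h⁻¹ ∈ ZN.o2 (fixer (H := H) lam) := by
    have h2 := le_normalizer_o2 _ hf'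
    exact (mem_normalizer_iff.1 h2 a).1 ha
  have h3 : h * h ∈ ZN.o2 (fixer (H := H) lam) := by
    rw [← conj_eq_sq hi]
    exact mul_mem h1 (inv_mem ha)
  have h4 : h ∈ ZN.o2 (fixer (H := H) lam) := mem_of_sq_mem ho h3
  obtain ⟨k, hk⟩ := (o2_isPGroup (fixer (H := H) lam)) ⟨h, h4⟩
  have h5 : h ^ 2 ^ k = 1 := congrArg Subtype.val hk
  have h6 : Nat.Coprime (orderOf h) (2 ^ k) := (Nat.coprime_two_right.2 ho).pow_right _
  exact orderOf_eq_one_iff.1 (Nat.Coprime.eq_one_of_dvd h6 (orderOf_dvd_of_pow_eq_one h5))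

/-- **(T4)** -/
theorem mv_of_typeN (F : Flag T lam U Kh) (hN : HInv H N) (hA : A ≤ ZN.o2 (fixer (H := H) lam))
    (hsq : ∀ a ∈ A, a * a = 1) (hl : ∀ b ∈ A, ∀ m : M, (b • m) * m⁻¹ ∈ lam) :
    ∀ a ∈ A, a ≠ 1 → Mv N lam A a := by
  intro a ha ha1
  have := F.finH
  have hM := F.finM
  obtain ⟨h, h1, ho, hi⟩ := Cfsg.Agent.Involutions.BaerSuzuki.exists_odd_inverted a (hsq a ha) (by
    intro h1
    apply ha1
    have h2 := eq_bot_of_normal F h1
    have h3 : a ∈ (normalClosure {a} : Subgroup H) := subset_normalClosure rfl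
    rw [h2] at h3
    exact mem_bot.1 h3)
  have hfix : ∀ x ∈ lam, a • x = x := fun x hx => o2_le _ (hA ha) x hx
  have e1 : a * h = h⁻¹ * a := by rw [← hi]; group
  have e2 : a * h⁻¹ = h * a := by
    have h3 : a * h⁻¹ * a⁻¹ = h := by
      have := congrArg (fun x => x⁻¹) hi
      simpa [mul_assoc] using this
    calc a * h⁻¹ = a * h⁻¹ * a⁻¹ * a := by group
      _ = h * a := by rw [h3]
  -- `a h x = h⁻¹ x`
  have ah : ∀ x ∈ lam, a • h • x = h⁻¹ • x := fun x hx => by rw [← mul_smul, e1, mul_smul, hfix x hx]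
  have ah' : ∀ x ∈ lam, a • h⁻¹ • x = h • x := fun x hx => by rw [← mul_smul, e2, mul_smul, hfix x hx]
  have mh : ∀ {g : H} {x : M}, x ∈ lam → g • x ∈ g • lam := fun {g x} hx => Subgroup.smul_mem_pointwise_smul _ _ _ hx
  -- `x ↦ [h x, a]` is a bijection of `lam`
  have hbij : ∀ y ∈ lam, ∃ x ∈ lam, (h⁻¹ • x) * (h • x)⁻¹ = y := by
    let φ : lam → lam := fun x => ⟨(h⁻¹ • (x : M)) * (h • (x : M))⁻¹, by
      rw [← ah x x.2]
      exact hl a ha _⟩
    have hinj : Function.Injective φ := by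
      intro x x' hxx
      have h3 : (h⁻¹ • (x : M)) * (h • (x : M))⁻¹ = (h⁻¹ • (x' : M)) * (h • (x' : M))⁻¹ := congrArg Subtype.val hxx
      have h4 : h⁻¹ • ((x : M) * (x' : M)⁻¹) = h • ((x : M) * (x' : M)⁻¹) := by
        rw [smul_mul', smul_mul', smul_inv', smul_inv', mul_inv_eq_iff_eq_mul]
        rw [mul_inv_eq_iff_eq_mul] at h3
        rw [h3]
        generalize h⁻¹ • (x' : M) = u
        generalize h • (x' : M) = v
        generalize h • (x : M) = w
        calc u * v⁻¹ * w = w * v⁻¹ * u := by rw [mul_comm, mul_comm u, ← mul_assoc]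
          _ = w * v⁻¹ * u := rfl
      have h5 : (h * h) • ((x : M) * (x' : M)⁻¹) = (x : M) * (x' : M)⁻¹ := by
        rw [mul_smul, ← h4, smul_inv_smul]
      by_contra hne
      have h6 : (x : M) * (x' : M)⁻¹ ≠ 1 := fun e => hne (Subtype.ext (mul_inv_eq_one.1 e))
      exact h1 (eq_one_of_fix F (hA ha) ho hi (mul_mem x.2 (inv_mem x'.2)) h6 h5)
    have hb : Function.Surjective φ := Finite.surjective_of_injective hinj
    intro y hy
    obtain ⟨x, hx⟩ := hb ⟨y, hy⟩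
    exact ⟨x, x.2, congrArg Subtype.val hx⟩
  have hle : lam ≤ (h • lam) ⊔ (h⁻¹ • lam) ⊔ N := by
    intro y hy
    obtain ⟨x, hx, rfl⟩ := hbij y hy
    exact mem_sup_left (mul_mem (mem_sup_right (mh hx)) (mem_sup_left (inv_mem (mh hx))))
  refine ⟨h, h1, ho, hi, hle, fun b hb m hm => ?_, ?_⟩
  · have e : b • m = (b • m * m⁻¹) * m := by rw [inv_mul_cancel_right]
    rw [e]
    exact mul_mem (hle (hl b hb m)) hm
  · have hPP : ∀ m ∈ (h • lam) ⊔ (h⁻¹ • lam) ⊔ N, m ∈ ((h • lam) ⊔ (h⁻¹ • lam) ⊔ N).comap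
        (MulDistribMulAction.toMonoidHom M h) := by
      have : (h • lam) ⊔ (h⁻¹ • lam) ⊔ N ≤ ((h • lam) ⊔ (h⁻¹ • lam) ⊔ N).comap
          (MulDistribMulAction.toMonoidHom M h) := by
        refine sup_le (sup_le ?_ ?_) ?_
        · -- `h² lam ≤ lam · h lam`
          intro m hm
          obtain ⟨x, hx, rfl⟩ := Subgroup.mem_smul_pointwise_iff_exists _ _ _ |>.1 hm
          show h • h • x ∈ (h • lam) ⊔ (h⁻¹ • lam) ⊔ N
          have h3 : h • h • x = (h • ((a • h⁻¹ • x) * (h⁻¹ • x)⁻¹)) * x := by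
            rw [smul_mul', smul_inv', smul_inv_smul, inv_mul_cancel_right, ah' x hx]
          rw [h3]
          exact mul_mem (mem_sup_left (mem_sup_left (mh (hl a ha _)))) (hle hx)
        · intro m hm
          obtain ⟨x, hx, rfl⟩ := Subgroup.mem_smul_pointwise_iff_exists _ _ _ |>.1 hm
          show h • h⁻¹ • x ∈ (h • lam) ⊔ (h⁻¹ • lam) ⊔ N
          rw [smul_inv_smul]
          exact hle hx
        · exact fun m hm => mem_sup_right (hN h m hm)
      exact this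
    exact fun m hm => hPP m hm

end Cfsg.Agent.Omega.NO3S.FullQ.Cnt
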