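import Cfsg.Agent.Omega.NO3S.FullQ.GEnd

/-!
# FullB, `q ≥ 4`: `Two` (input of `comm_lam`) from the `F`-structure (helper298 #21966)

* `two_of` : if `Kh` contains every `F`-linear map `Q → K` and its elements are `F`-linear on `lam`, then elements of `Kh`
  can be prescribed on `h lam` and `h⁻¹ lam`, trivially on `N`.
-/

set_option autoImplicit false
set_option linter.unusedSectionVars false

namespace Cfsg.Agent.Omega.NO3S.FullQ

open Subgroup Cfsg.Agent.Omega.NO3S.FarQ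

variable {H M K : Type*} [Group H] [CommGroup M] [MulDistribMulAction H M] [CommGroup K]
variable {lam N : Subgroup M} {Kh : Subgroup (M →* K)}
variable {Fd Q : Type*} [Field Fd] [AddCommGroup Q] [Module Fd Q] [DistribMulAction H Q] [SMulCommClass H Fd Q]
  [Module Fd (Additive K)] {κ : M → Q} {a0 : Q}

/-- a functional with `α u = 1`, `α v = 0` -/
theorem exists_fun {u v : Q} (h : ∀ c : Fd, u ≠ c • v) : ∃ α : Q →ₗ[Fd] Fd, α u = 1 ∧ α v = 0 := by
  have h1 : u ∉ Submodule.span Fd {v} := fun hu => by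
    obtain ⟨c, hc⟩ := Submodule.mem_span_singleton.1 hu
    exact h c hc.symm
  obtain ⟨f, hf, hf'⟩ := Submodule.exists_le_ker_of_notMem h1
  refine ⟨(f u)⁻¹ • f, ?_, ?_⟩
  · rw [LinearMap.smul_apply, smul_eq_mul, inv_mul_cancel₀ hf]
  · have h2 : f v = 0 := hf' (Submodule.mem_span_singleton_self v)
    rw [LinearMap.smul_apply, h2, smul_zero]

/-- **`Two`** from the `F`-structure. -/
theorem two_of (C : Cnt.Qm Fd H κ a0 N lam) (kh : ∀ φ ∈ Kh, ∀ h : H, ∃ ψ ∈ Kh, ∀ m, ψ m = φ (h • m))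
    (full : ∀ f : Q →ₗ[Fd] Additive K, ∃ φ ∈ Kh, ∀ m, Additive.ofMul (φ m) = f (κ m))
    (lin : ∀ φ ∈ Kh, ∀ c : Fd, ∀ a ∈ lam, ∀ b ∈ lam, κ b = c • κ a → Additive.ofMul (φ b) = c • Additive.ofMul (φ a))
    {h : H} (hi : ∀ c : Fd, h • a0 ≠ c • h⁻¹ • a0) : Two Kh N lam h := by
  intro φ₁ hφ₁ φ₂ hφ₂
  obtain ⟨a, ha, hκ⟩ := (C.lam a0).2 (Submodule.mem_span_singleton_self _)
  have hi' : ∀ c : Fd, h⁻¹ • a0 ≠ c • h • a0 := by
    intro c hc
    have hc0 : c ≠ 0 := by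
      rintro rfl
      rw [zero_smul] at hc
      exact C.ne ((smul_eq_zero_iff_eq h⁻¹).1 hc)
    refine hi c⁻¹ ?_
    rw [hc, smul_smul, inv_mul_cancel₀ hc0, one_smul]
  obtain ⟨α, α1, α0⟩ := exists_fun hi
  obtain ⟨β, β1, β0⟩ := exists_fun hi'
  obtain ⟨φ, hφ, h1⟩ := full (α.smulRight (Additive.ofMul (φ₁ (h • a))) + β.smulRight (Additive.ofMul (φ₂ (h⁻¹ • a))))
  -- linearity on `g lam`
  have key : ∀ φ ∈ Kh, ∀ g : H, ∀ c : Fd, ∀ b ∈ lam, κ b = c • a0 →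
      Additive.ofMul (φ (g • b)) = c • Additive.ofMul (φ (g • a)) := by
    intro φ hφ g c b hb hc
    obtain ⟨ψ, hψ, e⟩ := kh φ hφ g
    rw [← e, ← e]
    exact lin ψ hψ c a ha b hb (by rw [hκ, hc])
  refine ⟨φ, hφ, fun b hb => ?_, fun b hb => ?_, fun m hm => ?_⟩
  · obtain ⟨c, hc⟩ := Submodule.mem_span_singleton.1 ((C.lam (κ b)).1 ⟨b, hb, rfl⟩)
    apply Additive.ofMul.injective
    rw [key φ hφ h c b hb hc.symm, key φ₁ hφ₁ h c b hb hc.symm, h1, C.act, hκ, LinearMap.add_apply,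
      LinearMap.smulRight_apply, LinearMap.smulRight_apply, α1, β0, one_smul, zero_smul, add_zero]
  · obtain ⟨c, hc⟩ := Submodule.mem_span_singleton.1 ((C.lam (κ b)).1 ⟨b, hb, rfl⟩)
    apply Additive.ofMul.injective
    rw [key φ hφ h⁻¹ c b hb hc.symm, key φ₂ hφ₂ h⁻¹ c b hb hc.symm, h1, C.act, hκ, LinearMap.add_apply,
      LinearMap.smulRight_apply, LinearMap.smulRight_apply, α0, β1, one_smul, zero_smul, zero_add]
  · have h2 := h1 m
    rw [(C.ker m).2 hm, map_zero] at h2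
    exact Additive.ofMul.injective (by rw [h2, ofMul_one])

end Cfsg.Agent.Omega.NO3S.FullQ
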