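import Cfsg.Agent.Omega.NO3S.FullQ.PBad
import Cfsg.Agent.Omega.NO3S.FullQ.TwoN
import Cfsg.Agent.Omega.NO3S.FullQ.TwoOf

/-!
# FullB, `q ≥ 4`, every `n ≥ 1`: class P gives `[W_a, W_b] ≤ V_l` for all critical pairs (helper298 #21966)

* `Bd inc R W V n` : for every critical pair `(p, q)` with first line `l = p r`: `[W_p, W_q] ≤ V_l`, or every `f ∈ W_q`
  moving `W_p` has a mover without (D) (`Free.Bad`);
* `mv_pair` : the movers of `A = ρ(W_q)` on `M`; `dat_pair` : `Dat` after TOR;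
* `com_np` : after TOR, `W_{q'}` centralises the preimage of `N⁺`;
* **`lines_of_tor`** : after TOR `[W_a, W_b] ≤ V_l` for every critical pair; **`lines_of_pa`** : from class P for one pair.
-/

set_option autoImplicit false
set_option linter.unusedSectionVars false

namespace Cfsg.Agent.Omega.NO3S.FullQ

open Subgroup Cfsg Cfsg.Agent.ZN Cfsg.Agent.MinSimple.VModule Cfsg.Agent.Omega.NOThree.Pts
open Cfsg.Agent.Omega.NO3S.FarQ Cfsg.Agent.Omega.NO3S.FarQ.Glue Cfsg.Agent.Omega.NO3S.FarQ.Free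
open Cfsg.Agent.Omega.NO3S.FarQ.Asm
open scoped Pointwise

variable {G X L : Type*} [Group G] [MulAction G X] [MulAction G L]
variable {inc : X → L → Prop} {R W : X → Subgroup G} {V : L → Subgroup G} {s t n : ℕ}
variable {H M K : Type*} [Group H] [CommGroup M] [MulDistribMulAction H M] [CommGroup K]
variable {p q r : X} {l : L} {f h : G}
variable {Sy : Subgroup G} {ρ : G → H} {π : G → M} {ζ : K →* G} {T : Subgroup H} {lam U : Subgroup M}
  {Kh : Subgroup (M →* K)}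

/-- **The world of class P.** -/
def Bd (inc : X → L → Prop) (R W : X → Subgroup G) (V : L → Subgroup G) (n : ℕ) : Prop :=
  ∀ p q r l, Crit inc W n p q → inc p l → inc r l → Walk inc (n - 1) r q →
    (∀ x ∈ W p, ∀ y ∈ W q, x * y * x⁻¹ * y⁻¹ ∈ V l) ∨
      ∀ f ∈ W q, (¬ ∀ x ∈ W p, f * x = x * f) → ∃ h, Free.Bad inc R W n p q r l f h

/-- if `ρ f ≠ 1` then `f` moves `W_p` -/
theorem not_cent_of (F : RD inc R W V p l Sy ρ π ζ T lam U Kh)
    (hf : f ∈ centralizer (R p : Set G)) (hf1 : ρ f ≠ 1) : ¬ ∀ x ∈ W p, f * x = x * f := by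
  intro h1
  refine hf1 ((F.re.ker f hf).2 fun w hw => ?_)
  rw [h1 w hw, mul_inv_cancel_right, mul_inv_cancel]
  exact one_mem _

/-- `[W_p, W_q] ≤ V_l` on `M` -/
theorem lam_of_lines (D : Geom inc R W V s t) (F : RD inc R W V p l Sy ρ π ζ T lam U Kh)
    (hc : Crit inc W n p q) (hn : 1 ≤ n) (hl : ∀ x ∈ W p, ∀ y ∈ W q, x * y * x⁻¹ * y⁻¹ ∈ V l) :
    ∀ b ∈ im F.re (W q) (W_le_cent D hc hn), ∀ m : M, (b • m) * m⁻¹ ∈ lam := by
  rintro _ ⟨f, hf, rfl⟩ m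
  obtain ⟨w, hw, rfl⟩ := F.re.psurj m
  rw [← π_comm F.re D (W_le_cent D hc hn hf) hw, F.mlam]
  refine ⟨_, ?_, rfl⟩
  have h1 := inv_mem (hl w hw f hf)
  have e : (w * f * w⁻¹ * f⁻¹)⁻¹ = f * w * f⁻¹ * w⁻¹ := by group
  rwa [e] at h1

/-- conversely -/
theorem lines_of_lam (D : Geom inc R W V s t) (F : RD inc R W V p l Sy ρ π ζ T lam U Kh)
    (hc : Crit inc W n p q) (hn : 1 ≤ n) (hl : ∀ f ∈ W q, ∀ m : M, (ρ f • m) * m⁻¹ ∈ lam) :
    ∀ x ∈ W p, ∀ y ∈ W q, x * y * x⁻¹ * y⁻¹ ∈ V l := by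
  intro x hx y hy
  have hyc := W_le_cent D hc hn hy
  have h1 := hl y hy (π x)
  rw [← π_comm F.re D hyc hx, F.mlam] at h1
  obtain ⟨v, hv, e⟩ := h1
  have hvW := D.V_le p l F.pl hv
  have hyx : y * x * y⁻¹ * x⁻¹ ∈ W p := mul_mem (Four.norm_p D hyc hx) (inv_mem hx)
  have h2 : (y * x * y⁻¹ * x⁻¹) * v⁻¹ ∈ R p := by
    rw [← F.re.pker _ (mul_mem hyx (inv_mem hvW)), F.re.pmul _ hyx _ (inv_mem hvW), ← e, π_inv F.re hvW,
      mul_inv_cancel]
  have h3 : y * x * y⁻¹ * x⁻¹ ∈ V l := by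
    have h4 := mul_mem (D.R_le p l F.pl h2) hv
    rwa [inv_mul_cancel_right] at h4
  have h4 := inv_mem h3
  have e2 : (y * x * y⁻¹ * x⁻¹)⁻¹ = x * y * x⁻¹ * y⁻¹ := by group
  rwa [e2] at h4

/-- **the movers of `A = ρ(W_q)`** -/
theorem mv_pair [Finite G] (D : Geom inc R W V s t) (F : RD inc R W V p l Sy ρ π ζ T lam U Kh) (hn : 1 ≤ n)
    (hE : ExP inc R W V n p q) (hrl : inc r l) (hwk : Walk inc (n - 1) r q) (hB : Bd inc R W V n) :
    ∀ a ∈ im F.re (W q) (W_le_cent D hE.crit hn), a ≠ 1 →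
      Cnt.Mv (Np Kh) lam (im F.re (W q) (W_le_cent D hE.crit hn)) a := by
  rcases hB p q r l hE.crit F.pl hrl hwk with hl | hb
  · have hx := exact_of D F hn hE hrl hwk
    exact Cnt.mv_of_typeN F.flag F.flag.hinv_Np hx.le hx.sq (lam_of_lines D F hE.crit hn hl)
  · exact mv_of_bad D F hE.crit hn fun f hf hf1 => hb f hf (not_cent_of F (W_le_cent D hE.crit hn hf) hf1)

section qm

variable {Fd Q : Type*} [Field Fd] [AddCommGroup Q] [Module Fd Q] [DistribMulAction H Q] [SMulCommClass H Fd Q]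
variable {κ : M → Q} {a0 : Q} [Finite Fd] [CharP Fd 2]

/-- **`Dat` for every critical pair, after TOR** -/
theorem dat_pair [Finite G] (D : Geom inc R W V s t) (F : RD inc R W V p l Sy ρ π ζ T lam U Kh) (hn : 1 ≤ n)
    (hE : ExP inc R W V n p q) (hrl : inc r l) (hwk : Walk inc (n - 1) r q) (hB : Bd inc R W V n)
    (Qd : Cnt.Qm Fd H κ a0 (Np Kh) lam) (ht : Tor H (Np Kh) lam) :
    Cnt.Dat Fd κ a0 (im F.re (W q) (W_le_cent D hE.crit hn)) :=
  dat_of_tor Qd ht (exact_of D F hn hE hrl hwk) (mv_pair D F hn hE hrl hwk hB)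

/-- **`W_{q'}` centralises the preimage of `N⁺`.** -/
theorem com_np [Finite G] (D : Geom inc R W V s t) (F : Frm inc R W V p l Sy ρ π ζ T lam U Kh) (hn : 1 ≤ n)
    (hE : ∀ a b, Crit inc W n a b → ExP inc R W V n a b) (hB : Bd inc R W V n)
    (Qd : Cnt.Qm Fd H κ a0 (Np Kh) lam) (ht : Tor H (Np Kh) lam) {q' : X} (hc : Crit inc W n p q') {f' : G}
    (hf' : f' ∈ W q') {w : G} (hw : w ∈ W p) (hwN : π w ∈ Np Kh) : f' * w = w * f' := by
  obtain ⟨r', l', hr', hrl', hpl'⟩ := hc.symm.last hn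
  obtain ⟨c, hcc, rfl⟩ := F.cl l' hpl'
  have hcp : c • p = p := Four.fix_p D hcc
  have F₂ : Frm inc R W V p (c • l) (Sy.map (MulAut.conj c).toMonoidHom) (fun a => ρ (c⁻¹ * a * c))
      (fun w => π (c⁻¹ * w * c)) ((MulAut.conj c).toMonoidHom.comp ζ) T lam U Kh := by
    have h1 := F.smul D c
    rw [hcp] at h1
    exact h1
  have hEq := hE _ _ hc
  have E₂ := dat_pair D F₂.toRD hn hEq hrl' hr'.symm hB Qd ht
  have := F.flag.finH
  have := F.flag.finM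
  have h3 := Cnt.N_le Qd E₂
  have hwc : c⁻¹ * w * c ∈ W p := by
    have h4 := Four.norm_p D (inv_mem hcc) hw
    rwa [inv_inv] at h4
  have h5 : π (c⁻¹ * w * c) ∈ Np Kh := by
    have h6 := F.re.act c⁻¹ (inv_mem hcc) w hw
    rw [inv_inv] at h6
    rw [h6]
    exact F.flag.hinv_Np _ _ hwN
  refine hEq.cen w hw (fun b hb => ?_) f' hf'
  have hbc := W_le_cent D hc hn hb
  have h7 := F₂.re.act b hbc w hw
  have h8 := h3 h5 _ (mem_im.2 ⟨b, hb, rfl⟩)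
  have hbw : b * w * b⁻¹ ∈ W p := Four.norm_p D hbc hw
  rw [← F₂.re.pker _ (mul_mem hbw (inv_mem hw)), π_comm F₂.re D hbc hw]
  rw [mul_inv_eq_one]
  exact h8

/-- **after TOR: `[W_a, W_b] ≤ V_l` for every critical pair** -/
theorem lines_of_tor [Finite G] (D : Geom inc R W V s t) (F : Frm inc R W V p l Sy ρ π ζ T lam U Kh) (hn : 1 ≤ n)
    (hE : ∀ a b, Crit inc W n a b → ExP inc R W V n a b) (hB : Bd inc R W V n)
    (Qd : Cnt.Qm Fd H κ a0 (Np Kh) lam) (hd : Np Kh ⊓ lam = ⊥) (ht : Tor H (Np Kh) lam)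
    (hTwo : ∀ h : H, (∀ c : Fd, h • a0 ≠ c • h⁻¹ • a0) → Two Kh (Np Kh) lam h) {a b c : X} {m : L}
    (hc : Crit inc W n a b) (ham : inc a m) (hcm : inc c m) (hwk : Walk inc (n - 1) c b) :
    ∀ x ∈ W a, ∀ y ∈ W b, x * y * x⁻¹ * y⁻¹ ∈ V m := by
  rcases hB a b c m hc ham hcm hwk with hl | hb
  · exact hl
  obtain ⟨Sy₁, ρ₁, π₁, ζ₁, F₁⟩ := F.at_flag D ham
  have := F.flag.finH
  have := F.flag.finM
  have hEq := hE _ _ hc
  have E := dat_pair D F₁.toRD hn hEq hcm hwk hB Qd ht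
  refine lines_of_lam D F₁.toRD hc hn fun f hf m' => ?_
  exact comm_lam_of_bad (r := c) D F₁.toRD Qd hc hn hd
    (fun g g' a ha b hb hab => Cnt.smul_eq_of_mem Qd hd ht.norm ha hb hab) (dl_Np F.flag)
    (fun x => mem_im) E hTwo (fun q' hq' f' hf' w hw hwN => com_np D F₁ hn hE hB Qd ht hq' hf' hw hwN)
    (fun f hf hf1 => hb f hf (not_cent_of F₁.toRD (W_le_cent D hc hn hf) hf1)) hf m'

/-- **class P for one critical pair: `[W_a, W_b] ≤ V_l` for every critical pair** -/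
theorem lines_of_pa [Finite G] (D : Geom inc R W V s t) (F : Frm inc R W V p l Sy ρ π ζ T lam U Kh) (hn : 1 ≤ n)
    (hE : ∀ a b, Crit inc W n a b → ExP inc R W V n a b) (hB : Bd inc R W V n)
    (Qd : Cnt.Qm Fd H κ a0 (Np Kh) lam)
    (hTwo : ∀ h : H, (∀ c : Fd, h • a0 ≠ c • h⁻¹ • a0) → Two Kh (Np Kh) lam h)
    (hpq : Crit inc W n p q) (hrl : inc r l) (hwk : Walk inc (n - 1) r q) {A1 : Subgroup H}
    (hA1 : A1 ≤ im F.re (W q) (W_le_cent D hpq hn)) (h1 : PA Kh lam A1 Qd.inv) {a b c : X} {m : L}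
    (hc : Crit inc W n a b) (ham : inc a m) (hcm : inc c m) (hwk' : Walk inc (n - 1) c b) :
    ∀ x ∈ W a, ∀ y ∈ W b, x * y * x⁻¹ * y⁻¹ ∈ V m :=
  lines_of_tor D F hn hE hB Qd (np_inf F.flag h1.ne h1.cent)
    (tor_abs F.flag Qd (exact_of D F.toRD hn (hE _ _ hpq) hrl hwk) hA1 h1
      (mv_pair D F.toRD hn (hE _ _ hpq) hrl hwk hB)) hTwo hc ham hcm hwk'

end qm

end Cfsg.Agent.Omega.NO3S.FullQ
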