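import Cfsg.Agent.Omega.NO3S.FullQ.PSide

/-!
# FullB, `q ≥ 4`: `PSide` with a `Bad` mover for every `f` instead of `¬ DP inc W p q` (for `n = 2`; asked by helper426)

* `Bad.rho_ne` : `ρ h ≠ 1`;
* `plane_of_bad` : (2a) of #21459 for one mover;
* `mv_of_bad`, `dat_of_bad`, `tor_of_bad` : input `∀ f ∈ W q, ρ f ≠ 1 → ∃ h, Bad inc R W n p q r l f h`.
-/

set_option autoImplicit false
set_option linter.unusedSectionVars false

namespace Cfsg.Agent.Omega.NO3S.FullQ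

open Subgroup Cfsg Cfsg.Agent.ZN Cfsg.Agent.MinSimple.VModule Cfsg.Agent.Omega.NOThree.Pts
open Cfsg.Agent.Omega.NO3S.FarQ Cfsg.Agent.Omega.NO3S.FarQ.Glue Cfsg.Agent.Omega.NO3S.FarQ.Free
open Cfsg.Agent.Omega.NO3S.FarQ.Asm
open scoped Pointwise

variable {G X L : Type*} [Group G] [MulAction G X] [MulAction G L]
variable {inc : X → L → Prop} {R W : X → Subgroup G} {V : L → Subgroup G} {s t n : ℕ}
variable {H M K : Type*} [Group H] [CommGroup M] [MulDistribMulAction H M] [CommGroup K]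
variable {p q r : X} {l : L} {f h : G}
variable {Sy : Subgroup G} {ρ : G → H} {π : G → M} {ζ : K →* G} {T : Subgroup H} {lam U : Subgroup M}
  {Kh : Subgroup (M →* K)}

/-- **`ρ h ≠ 1`** -/
theorem Bad.rho_ne (D : Geom inc R W V s t) (b : Free.Bad inc R W n p q r l f h)
    (F : RD inc R W V p l Sy ρ π ζ T lam U Kh) : ρ h ≠ 1 := by
  intro h0
  have hhc : h ∈ centralizer (R p : Set G) := Bad.h_cent b F
  have key : ∀ g ∈ centralizer (R p : Set G), ρ g = 1 → inc (g • r) l := by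
    intro g hg hg0
    obtain ⟨v, hv, hv1⟩ := D.exists_ne r
    have hvV : v ∈ V l := D.R_le r l b.rl hv
    have h1 := (F.re.ker g hg).1 hg0 v (D.V_le p l b.pl hvV)
    have h2 : g * v * g⁻¹ ∈ V l := by
      have e : g * v * g⁻¹ = (g * v * g⁻¹ * v⁻¹) * v := by group
      rw [e]
      exact mul_mem (D.R_le p l b.pl h1) hvV
    refine on_line D (D.R_smul g r v hv) (fun e => hv1 ?_) h2
    have h3 : g * v * g⁻¹ = 1 := e
    rw [mul_inv_eq_one] at h3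
    exact mul_eq_left.1 h3
  have h1 := key h hhc h0
  have h2 := key h⁻¹ (inv_mem hhc) (by rw [F.re.inv hhc, h0, inv_one])
  rw [← b.fx_eq D] at h2
  apply b.nd
  intro a ha ha'
  have h3 := D.F1 (h • r) (f • h • r) p l h1 h2 b.pl b.mv.symm (b.x_ne D)
  have h4 : a ∈ W (h • r) ⊓ W (f • h • r) := ⟨ha, ha'⟩
  rw [h3] at h4
  exact h4.2

/-- **(2a) for one mover** -/
theorem plane_of_bad [Finite G] (D : Geom inc R W V s t) (F : RD inc R W V p l Sy ρ π ζ T lam U Kh)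
    (b : Free.Bad inc R W n p q r l f h) {N : Subgroup M} (hN : Dl Kh N) (hNH : ∀ k : H, ∀ m ∈ N, k • m ∈ N) :
    ρ h ≠ 1 ∧ Odd (orderOf (ρ h)) ∧ ρ f * ρ h * (ρ f)⁻¹ = (ρ h)⁻¹ ∧ lam ≤ PP (ρ h) lam N ∧
      (∀ g ∈ W q, ∀ m ∈ PP (ρ h) lam N, ρ g • m ∈ PP (ρ h) lam N) ∧
      ∀ m ∈ PP (ρ h) lam N, ρ h • m ∈ PP (ρ h) lam N := by
  have hh : h ∈ centralizer (R p : Set G) := Bad.h_cent b F
  have hfc : f ∈ centralizer (R p : Set G) := W_le_cent D b.crit b.pos b.hf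
  refine ⟨Bad.rho_ne D b F, ?_, ?_, Bad.lam_le D b F hN, fun g hg => Bad.inv_W D b F hN hNH hg,
    Bad.inv_h D b F hN hNH⟩
  · have h1 : ρ h ^ orderOf h = 1 := by
      rw [← rho_pow F.toRF F.flag hh, pow_orderOf_eq_one, F.re.one]
    exact Odd.of_dvd_nat b.odd (orderOf_dvd_of_pow_eq_one h1)
  · rw [← F.re.conj hfc hh, b.inv, F.re.inv hh]

/-- **The movers of `A = ρ(W_q)`**, from `Bad`. -/
theorem mv_of_bad [Finite G] (D : Geom inc R W V s t) (F : RD inc R W V p l Sy ρ π ζ T lam U Kh)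
    (hc : Crit inc W n p q) (hn : 1 ≤ n) (hb : ∀ f ∈ W q, ρ f ≠ 1 → ∃ h, Free.Bad inc R W n p q r l f h) :
    ∀ a ∈ im F.re (W q) (W_le_cent D hc hn), a ≠ 1 →
      Cnt.Mv (Np Kh) lam (im F.re (W q) (W_le_cent D hc hn)) a := by
  rintro _ ⟨f, hf, rfl⟩ hf1
  obtain ⟨h, b⟩ := hb f hf hf1
  obtain ⟨h1, h2, h3, h4, h5, h6⟩ := plane_of_bad D F b (dl_Np F.flag) F.flag.hinv_Np
  rw [PP_eq] at h4
  simp only [PP_eq] at h5 h6
  refine ⟨ρ h, h1, h2, h3, h4, ?_, h6⟩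
  rintro _ ⟨g, hg, rfl⟩
  exact h5 g hg

section qm

variable {F' Q : Type*} [Field F'] [AddCommGroup Q] [Module F' Q] [DistribMulAction H Q] [SMulCommClass H F' Q]
variable {π' : M → Q} {a0 : Q} [Finite F'] [CharP F' 2]

/-- **`Dat` for a critical pair, after TOR**, from `Bad`. -/
theorem dat_of_bad [Finite G] (D : Geom inc R W V s t) (F : RD inc R W V p l Sy ρ π ζ T lam U Kh) (hn : 1 ≤ n)
    (hE : ExP inc R W V n p q) (hrl : inc r l) (hwk : Walk inc (n - 1) r q)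
    (hb : ∀ f ∈ W q, ρ f ≠ 1 → ∃ h, Free.Bad inc R W n p q r l f h)
    (Qd : Cnt.Qm F' H π' a0 (Np Kh) lam) (ht : Tor H (Np Kh) lam) :
    Cnt.Dat F' π' a0 (im F.re (W q) (W_le_cent D hE.crit hn)) :=
  dat_of_tor Qd ht (exact_of D F hn hE hrl hwk) (mv_of_bad D F hE.crit hn hb)

/-- **TOR from class P for one critical pair**, from `Bad`. -/
theorem tor_of_bad [Finite G] (D : Geom inc R W V s t) (F : RD inc R W V p l Sy ρ π ζ T lam U Kh) (hn : 1 ≤ n)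
    (hE : ExP inc R W V n p q) (hrl : inc r l) (hwk : Walk inc (n - 1) r q)
    (hb : ∀ f ∈ W q, ρ f ≠ 1 → ∃ h, Free.Bad inc R W n p q r l f h)
    (Qd : Cnt.Qm F' H π' a0 (Np Kh) lam) {A1 : Subgroup H} (hA1 : A1 ≤ im F.re (W q) (W_le_cent D hE.crit hn))
    (h1 : PA Kh lam A1 Qd.inv) : Tor H (Np Kh) lam :=
  tor_abs F.flag Qd (exact_of D F hn hE hrl hwk) hA1 h1 (mv_of_bad D F hE.crit hn hb)

end qm

end Cfsg.Agent.Omega.NO3S.FullQ
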