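import Cfsg.Agent.Omega.NO3S.FullQ.FMod
import Cfsg.Agent.Omega.NO3S.WQ.OfFrm

/-!
# FullB (`q ≥ 4`): the plug of class N

* `nn_iff` : `N_p / p = rad`;
* `false_of_noP` : if no critical pair has a subgroup of class P, there is no critical pair (`n ≥ 2`).
-/

set_option autoImplicit false
set_option linter.unusedSectionVars false

namespace Cfsg.Agent.Omega.NO3S.FullQ

open Subgroup Cfsg Cfsg.Agent.ZN Cfsg.Agent.Omega.NOThree.Pts Cfsg.Agent.Omega.NO3S.PT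
open Cfsg.Agent.Omega.NO3S.FarQ Cfsg.Agent.Omega.NO3S.FarQ.Glue Cfsg.Agent.Omega.NO3S.FarQ.Free
open Cfsg.Agent.Omega.NO3S.FarQ.Asm (ExP)
open Cfsg.Agent.Omega.NO3S.WQ (NN mem_NN KK KK_iff false_of_frm)
open Cfsg.Agent.ClassTwoFusion.Quad (mem_cv)
open Cfsg.Agent.Omega.ML.Final (MLK)

universe u

variable {G X L : Type*} [Group G] [MulAction G X] [MulAction G L]
variable {inc : X → L → Prop} {R W : X → Subgroup G} {V : L → Subgroup G} {s t n : ℕ}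

section nn

variable {H M K : Type*} [Group H] [CommGroup M] [MulDistribMulAction H M] [CommGroup K]
variable {p q : X} {l : L} {Sy : Subgroup G} {ρ : G → H} {π : G → M} {ζ : K →* G} {T : Subgroup H}
  {lam U : Subgroup M} {Kh : Subgroup (M →* K)}

/-- `N_p / R_p = rad` -/
theorem nn_iff (D : Geom inc R W V s t) (E : RD inc R W V p l Sy ρ π ζ T lam U Kh) {w : G} (hw : w ∈ W p) :
    w ∈ NN R W p ↔ π w ∈ rad Kh := by
  rw [mem_NN, mem_rad]
  constructor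
  · rintro ⟨-, h⟩ φ hφ
    obtain ⟨k, hk, hkW⟩ := E.kh φ hφ
    have h1 : KK R W p k := (KK_iff D).2 ⟨hk, fun w' hw' => by
      rw [hkW w' hw']
      exact (E.ran _).2 ⟨_, rfl⟩⟩
    apply E.inj
    rw [map_one, ← hkW w hw, h k h1, mul_inv_cancel_right, mul_inv_cancel]
  · intro h
    refine ⟨hw, fun k hk => ?_⟩
    obtain ⟨hk1, hk2⟩ := (KK_iff D).1 hk
    obtain ⟨φ, hφ, e⟩ := E.kh' k hk1 hk2
    have h1 := e w hw
    rw [h φ hφ, map_one] at h1
    exact (mul_inv_eq_one.1 (by rw [← h1]; group) : k * w = w * k)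

end nn

variable {H M K : Type u} [Group H] [CommGroup M] [MulDistribMulAction H M] [CommGroup K]
variable {p q : X} {l : L} {Sy : Subgroup G} {ρ : G → H} {π : G → M} {ζ : K →* G} {T : Subgroup H}
  {lam U : Subgroup M} {Kh : Subgroup (M →* K)}

/-- **The plug of class N.** -/
theorem false_of_noP [Finite G] (hML : MLK.{u, u}) (hK : IsKGroup H) (D : Geom inc R W V s t)
    (F : Frm inc R W V p l Sy ρ π ζ T lam U Kh) (hn : 2 ≤ n) (hV : Function.Injective V)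
    (t6 : ∀ l u, u ∈ centralizer (V l : Set G) → u * u = 1 → (∀ c ∈ centralizer (V l : Set G), c * u = u * c) →
      u ∈ V l)
    (hE : ∀ a b, Crit inc W n a b → ExP inc R W V n a b)
    (hP : ∀ (a b c : X) (m : L) (hc : Crit inc W n a b) (_ : inc a m) (_ : inc c m) (_ : Walk inc (n - 1) c b)
      (Sy₁ : Subgroup G) (ρ₁ : G → H) (π₁ : G → M) (ζ₁ : K →* G)
      (F₁ : Frm inc R W V a m Sy₁ ρ₁ π₁ ζ₁ T lam U Kh),
      ∀ A₁ ≤ im F₁.re (W b) (W_le_cent D hc (by omega)), ¬ ClassP lam Kh A₁)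
    {a b : X} (hc : Crit inc W n a b) : False := by
  -- every critical `A` is in `C_H(M / rad)`
  have key : ∀ {a b : X} (hc : Crit inc W n a b), ∃ (m : L) (Sy₁ : Subgroup G) (ρ₁ : G → H) (π₁ : G → M)
      (ζ₁ : K →* G) (F₁ : Frm inc R W V a m Sy₁ ρ₁ π₁ ζ₁ T lam U Kh),
      im F₁.re (W b) (W_le_cent D hc (by omega)) ≤ cq (rad Kh) := by
    intro a b hc
    obtain ⟨r, m, hr, hrm, ham⟩ := hc.symm.last (by omega)
    obtain ⟨Sy₁, ρ₁, π₁, ζ₁, F₁⟩ := F.at_flag D ham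
    refine ⟨m, Sy₁, ρ₁, π₁, ζ₁, F₁, ?_⟩
    rcases F₁.flag.dich hML hK (onL_of D F₁.toRD) (exact_of D F₁.toRD (by omega) (hE a b hc) hrm hr.symm) with h | ⟨A₁, h1, h2⟩
    · exact h
    · exact absurd h2 (hP a b r m hc ham hrm hr.symm _ _ _ _ F₁ A₁ h1)
  obtain ⟨m₁, Sy₁, ρ₁, π₁, ζ₁, F₁, hA₁⟩ := key hc
  obtain ⟨m₂, Sy₂, ρ₂, π₂, ζ₂, F₂, hA₂⟩ := key hc.symm
  have hWb : W b ≤ centralizer (R a : Set G) := W_le_cent D hc (by omega)
  have hWa : W a ≤ centralizer (R b : Set G) := W_le_cent D hc.symm (by omega)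
  -- some `f ∈ N_b` moves `W_a`
  obtain ⟨f, hf, hm⟩ : ∃ f ∈ NN R W b, ∃ w ∈ W a, f * w ≠ w * f := by
    by_contra hcon
    push Not at hcon
    apply hc.ne
    intro w hw f hf
    have h1 : π₂ f ∈ rad Kh ⊔ zm M (im F₂.re (W a) hWa) := by
      rw [F₂.flag.sup_zm F₂.flag.hinv_rad hA₂]
      exact mem_top _
    obtain ⟨y, hy, z, hz, e⟩ := mem_sup.1 h1
    obtain ⟨g, hg, rfl⟩ := F₂.re.psurj y
    have hgN : g ∈ NN R W b := (nn_iff D F₂.toRD hg).2 hy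
    have hgf : g⁻¹ * f ∈ W b := mul_mem (inv_mem hg) hf
    have h2 : π₂ (g⁻¹ * f) = z := by
      rw [F₂.re.pmul _ (inv_mem hg) _ hf, π_inv F₂.re hg, ← e, inv_mul_cancel_left]
    have h3 : ∀ w ∈ W a, w * (g⁻¹ * f) = (g⁻¹ * f) * w := by
      apply (hE a b hc).cen' _ hgf
      intro w hw
      rw [comm_mem_iff F₂.re D (hWa hw) hgf, h2]
      exact mem_cv.1 hz _ ⟨w, hw, rfl⟩
    have h4 := h3 w hw
    have h5 := hcon g hgN w hw
    calc w * f = w * (g * (g⁻¹ * f)) := by rw [mul_inv_cancel_left]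
      _ = (w * g) * (g⁻¹ * f) := by rw [mul_assoc]
      _ = g * (w * (g⁻¹ * f)) := by rw [← h5, mul_assoc]
      _ = f * w := by rw [h4]; group
  have hfW : f ∈ W b := (mem_NN.1 hf).1
  refine false_of_frm D F hn hV t6 hE hc hf (fun w hw => ?_) hm
  have h1 : f * w * f⁻¹ * w⁻¹ ∈ W a := mul_mem (Four.norm_p D (hWb hfW) hw) (inv_mem hw)
  rw [nn_iff D F₁.toRD h1, π_comm F₁.re D (hWb hfW) hw]
  exact hA₁ ⟨f, hfW, rfl⟩ _

end Cfsg.Agent.Omega.NO3S.FullQ
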