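import Cfsg.Agent.Omega.NO3S.FullQ.Base
import Cfsg.Agent.Omega.NO3S.FullQ.Three

/-!
# FullB, `q ≥ 4`: the `F`-module `Q = M / N⁺` (helper471 #21459, section 0; helper973)

* `FS F lam Kh` : `K` is an `F`-line, and `c • (a ∈ lam)` exists modulo `rad` (`FSOf.exists_fs`);
* `FS.all`, `FS.np` : `M / rad` is an `F`-space, `N⁺ / rad` an `F`-subspace;
* `KhP Kh` : the elements of `Kh` trivial on `N⁺`;
* `exists_qm` : **`Qm F H π a₀ N⁺ lam`**, if `lam` is not in `N⁺`, and every `F`-linear `Q → K` is in `Kh`.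
-/

set_option autoImplicit false
set_option linter.unusedSectionVars false

namespace Cfsg.Agent.Omega.NO3S.FullQ.QF

open Subgroup Cfsg Cfsg.Agent.ZN Cfsg.Agent.Omega.NO3S.PT Cfsg.Agent.Omega.NO3S.FarQ
open scoped Pointwise

universe u

variable {F H M K : Type*} [Field F] [Group H] [CommGroup M] [MulDistribMulAction H M] [CommGroup K]
  [Module F (Additive K)]

variable (F) in
/-- **FS**: `K` is an `F`-line and `c • a` exists modulo `rad`. -/
structure FS (lam : Subgroup M) (Kh : Subgroup (M →* K)) : Prop where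
  card : Nat.card F = Nat.card K
  smul : ∀ c : F, ∀ a ∈ lam, ∃ b ∈ lam, ∀ φ ∈ Kh, Additive.ofMul (φ b) = c • Additive.ofMul (φ a)

/-- if `F x ≤ D < K`, then `x = 1` -/
theorem eq_one_of_smul [Finite K] (hc : Nat.card F = Nat.card K) {D : Subgroup K} (hD : D ≠ ⊤) {x : K}
    (h : ∀ c : F, (c • Additive.ofMul x).toMul ∈ D) : x = 1 := by
  by_contra hx
  have hx' : Additive.ofMul x ≠ 0 := hx
  have hinj : Function.Injective (fun c : F => (c • Additive.ofMul x).toMul) := smul_left_injective F hx'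
  have hb := (Nat.bijective_iff_injective_and_card (fun c : F => (c • Additive.ofMul x).toMul)).2 ⟨hinj, hc⟩
  apply hD
  rw [eq_top_iff]
  intro y _
  obtain ⟨c, hc⟩ := hb.2 y
  rw [← hc]
  exact h c

theorem _root_.Cfsg.Agent.Omega.NO3S.FarQ.Flag.finK {T : Subgroup H} {lam U : Subgroup M} {Kh : Subgroup (M →* K)}
    (Fl : Flag T lam U Kh) : Finite K := by
  have := Fl.finM
  have h1 : Nat.card K ≠ 0 := by rw [Fl.cardR]; exact Nat.card_pos.ne'
  exact Nat.finite_of_card_ne_zero h1

/-- the elements of `Kh` trivial on `N⁺` -/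
def KhP (Kh : Subgroup (M →* K)) : Subgroup (M →* K) where
  carrier := {φ | φ ∈ Kh ∧ ∀ n ∈ Np Kh, φ n = 1}
  one_mem' := ⟨one_mem _, fun n _ => rfl⟩
  mul_mem' := fun {a b} ha hb => ⟨mul_mem ha.1 hb.1, fun n hn => by
    rw [MonoidHom.mul_apply, ha.2 n hn, hb.2 n hn, mul_one]⟩
  inv_mem' := fun {a} ha => ⟨inv_mem ha.1, fun n hn => by rw [MonoidHom.inv_apply, ha.2 n hn, inv_one]⟩

section flag

variable {T : Subgroup H} {lam U : Subgroup M} {Kh : Subgroup (M →* K)} (Fl : Flag T lam U Kh)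
include Fl

/-- `M / rad` is closed under `F` -/
theorem FS.all (h : FS F lam Kh) (c : F) (m : M) : ∃ m' : M, ∀ φ ∈ Kh, Additive.ofMul (φ m') = c • Additive.ofMul (φ m) := by
  let N : Subgroup M :=
    { carrier := {m | ∃ m' : M, ∀ φ ∈ Kh, Additive.ofMul (φ m') = c • Additive.ofMul (φ m)}
      one_mem' := ⟨1, fun φ _ => by rw [map_one φ, ofMul_one, smul_zero]⟩
      mul_mem' := by
        rintro a b ⟨a', ha⟩ ⟨b', hb⟩
        exact ⟨a' * b', fun φ hφ => by rw [map_mul φ, map_mul φ, ofMul_mul, ofMul_mul, smul_add, ha φ hφ, hb φ hφ]⟩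
      inv_mem' := by
        rintro a ⟨a', ha⟩
        exact ⟨a'⁻¹, fun φ hφ => by rw [map_inv φ, map_inv φ, ofMul_inv, ofMul_inv, smul_neg, ha φ hφ]⟩ }
  have h1 : N = ⊤ := Fl.gen N fun g a ha => by
    obtain ⟨b, -, hb⟩ := h.smul c a ha
    refine ⟨g • b, fun φ hφ => ?_⟩
    exact hb _ (Fl.comp_mem hφ g)
  have h2 : m ∈ N := by rw [h1]; exact mem_top m
  exact h2

/-- `N⁺ / rad` is closed under `F` -/
theorem FS.np (h : FS F lam Kh) (c : F) {m : M} (hm : m ∈ Np Kh) :
    ∃ m' ∈ Np Kh, ∀ φ ∈ Kh, Additive.ofMul (φ m') = c • Additive.ofMul (φ m) := by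
  let N : Subgroup M :=
    { carrier := {m | ∃ m' ∈ Np Kh, ∀ φ ∈ Kh, Additive.ofMul (φ m') = c • Additive.ofMul (φ m)}
      one_mem' := ⟨1, one_mem _, fun φ _ => by rw [map_one φ, ofMul_one, smul_zero]⟩
      mul_mem' := by
        rintro a b ⟨a', ha', ha⟩ ⟨b', hb', hb⟩
        exact ⟨a' * b', mul_mem ha' hb', fun φ hφ => by
          rw [map_mul φ, map_mul φ, ofMul_mul, ofMul_mul, smul_add, ha φ hφ, hb φ hφ]⟩
      inv_mem' := by
        rintro a ⟨a', ha', ha⟩
        exact ⟨a'⁻¹, inv_mem ha', fun φ hφ => by rw [map_inv φ, map_inv φ, ofMul_inv, ofMul_inv, smul_neg, ha φ hφ]⟩ }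
  have h1 : Np Kh ≤ N := by
    refine Np_le fun D hD x hx => ?_
    obtain ⟨m', hm'⟩ := h.all Fl c x
    refine ⟨m', ?_, hm'⟩
    by_cases hc : c = 0
    · refine (Mt_le_Np Kh Fl.bot_ne_top) (mem_rad.2 fun φ hφ => ?_)
      have h2 := hm' φ hφ
      rw [hc, zero_smul] at h2
      exact h2
    · let D' : Subgroup K :=
        { carrier := {y | (c⁻¹ • Additive.ofMul y).toMul ∈ D}
          one_mem' := by
            show (c⁻¹ • Additive.ofMul (1 : K)).toMul ∈ D
            rw [ofMul_one, smul_zero]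
            exact one_mem _
          mul_mem' := by
            intro a b ha hb
            show (c⁻¹ • Additive.ofMul (a * b)).toMul ∈ D
            rw [ofMul_mul, smul_add, toMul_add]
            exact mul_mem ha hb
          inv_mem' := by
            intro a ha
            show (c⁻¹ • Additive.ofMul (a⁻¹)).toMul ∈ D
            rw [ofMul_inv, smul_neg, toMul_neg]
            exact inv_mem ha }
      have hD' : D' ≠ ⊤ := by
        intro e
        apply hD
        rw [eq_top_iff]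
        intro y _
        have h3 : (c • Additive.ofMul y).toMul ∈ D' := by rw [e]; exact mem_top _
        have h4 : (c⁻¹ • Additive.ofMul ((c • Additive.ofMul y).toMul)).toMul ∈ D := h3
        rw [ofMul_toMul, smul_smul, inv_mul_cancel₀ hc, one_smul] at h4
        exact h4
      refine (Mt_le_Np Kh hD') fun φ hφ => ?_
      show (c⁻¹ • Additive.ofMul (φ m')).toMul ∈ D
      rw [hm' φ hφ, smul_smul, inv_mul_cancel₀ hc, one_smul]
      exact hx φ hφ
  exact h1 hm

/-- `φ ∈ Kh` with `φ(N⁺) ≤ D < K` is trivial on `N⁺` -/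
theorem FS.triv (h : FS F lam Kh) {D : Subgroup K} (hD : D ≠ ⊤) {φ : M →* K} (hφ : φ ∈ Kh)
    (h1 : ∀ n ∈ Np Kh, φ n ∈ D) : φ ∈ KhP Kh := by
  have := Fl.finK
  refine ⟨hφ, fun n hn => eq_one_of_smul h.card hD fun c => ?_⟩
  obtain ⟨n', hn', h2⟩ := h.np Fl c hn
  rw [← h2 φ hφ]
  exact h1 n' hn'

theorem KhP_comp {φ : M →* K} (hφ : φ ∈ KhP Kh) (h : H) : φ.comp (MulDistribMulAction.toMonoidHom M h) ∈ KhP Kh :=
  ⟨Fl.comp_mem hφ.1 h, fun n hn => hφ.2 _ (Fl.hinv_Np h n hn)⟩

/-- `N⁺` is the intersection of the kernels of `KhP` -/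
theorem FS.mem_np (h : FS F lam Kh) {m : M} (hm : ∀ φ ∈ KhP Kh, φ m = 1) : m ∈ Np Kh := by
  by_contra hn
  obtain ⟨D, hD⟩ := Fl.exists_index_two
  have hDt := ne_top_of_index hD
  obtain ⟨φ, hφ, h1, h2⟩ := Fl.dual hD (Mt_le_Np Kh hDt) hn
  apply h2
  rw [hm φ (h.triv Fl hDt hφ h1)]
  exact one_mem _

end flag

/-- evaluation -/
def evQ (Kh : Subgroup (M →* K)) (m : M) : KhP Kh → Additive K := fun φ => Additive.ofMul ((φ : M →* K) m)

/-- `Q` as an `F`-space -/
def QS {T : Subgroup H} {lam U : Subgroup M} {Kh : Subgroup (M →* K)} (Fl : Flag T lam U Kh) (h : FS F lam Kh) :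
    Submodule F (KhP Kh → Additive K) where
  carrier := {f | ∃ m, evQ Kh m = f}
  zero_mem' := ⟨1, by
    funext φ
    show Additive.ofMul ((φ : M →* K) 1) = 0
    rw [map_one, ofMul_one]⟩
  add_mem' := by
    rintro _ _ ⟨m, rfl⟩ ⟨n, rfl⟩
    refine ⟨m * n, ?_⟩
    funext φ
    show Additive.ofMul ((φ : M →* K) (m * n)) = _
    rw [map_mul, ofMul_mul]
    rfl
  smul_mem' := by
    rintro c _ ⟨m, rfl⟩
    obtain ⟨m', hm'⟩ := h.all Fl c m
    refine ⟨m', ?_⟩
    funext φ
    exact hm' φ φ.2.1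

/-- the action of `H` on `Q` -/
@[reducible] def qact {T : Subgroup H} {lam U : Subgroup M} {Kh : Subgroup (M →* K)} (Fl : Flag T lam U Kh)
    (h : FS F lam Kh) : DistribMulAction H (QS Fl h) where
  smul g f := ⟨fun φ => f.1 ⟨_, KhP_comp Fl φ.2 g⟩, by
    obtain ⟨m, hm⟩ := f.2
    refine ⟨g • m, ?_⟩
    rw [← hm]
    rfl⟩
  one_smul f := by
    obtain ⟨f, m, rfl⟩ := f
    refine Subtype.ext (funext fun φ => ?_)
    show Additive.ofMul ((φ : M →* K) ((1 : H) • m)) = Additive.ofMul ((φ : M →* K) m)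
    rw [one_smul]
  mul_smul a b f := by
    obtain ⟨f, m, rfl⟩ := f
    refine Subtype.ext (funext fun φ => ?_)
    show Additive.ofMul ((φ : M →* K) ((a * b) • m)) = Additive.ofMul ((φ : M →* K) (a • b • m))
    rw [mul_smul]
  smul_zero g := rfl
  smul_add g a b := rfl

/-- **`Q`.** -/
theorem exists_qm {F : Type*} [Field F] {H : Type*} {M K : Type u} [Group H] [CommGroup M] [MulDistribMulAction H M]
    [CommGroup K] [Module F (Additive K)] {T : Subgroup H} {lam U : Subgroup M} {Kh : Subgroup (M →* K)}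
    (Fl : Flag T lam U Kh) (h : FS F lam Kh) (hne : ¬ lam ≤ Np Kh) :
    ∃ (Q : Type u) (_ : AddCommGroup Q) (_ : Module F Q) (_ : DistribMulAction H Q) (_ : SMulCommClass H F Q)
      (π' : M → Q) (a0 : Q), Cnt.Qm F H π' a0 (Np Kh) lam ∧
      (∀ g : Q →ₗ[F] Additive K, ∃ φ ∈ Kh, ∀ m, Additive.ofMul (φ m) = g (π' m)) ∧
      ∀ (c : F) (m m' : M), (∀ φ ∈ Kh, Additive.ofMul (φ m') = c • Additive.ofMul (φ m)) → π' m' = c • π' m := by
  classical
  have := Fl.finK
  have := Fl.finM
  let _ := qact Fl h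
  have hcomm : SMulCommClass H F (QS Fl h) := ⟨fun g c f => rfl⟩
  let π' : M → QS Fl h := fun m => ⟨evQ Kh m, m, rfl⟩
  obtain ⟨a, ha, han⟩ := SetLike.not_le_iff_exists.1 hne
  have hpm : ∀ m n, π' (m * n) = π' m + π' n := by
    intro m n
    refine Subtype.ext (funext fun φ => ?_)
    show Additive.ofMul ((φ : M →* K) (m * n)) = Additive.ofMul ((φ : M →* K) m) + Additive.ofMul ((φ : M →* K) n)
    rw [map_mul, ofMul_mul]
  have hker : ∀ m, π' m = 0 ↔ m ∈ Np Kh := by
    intro m
    constructor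
    · intro h1
      refine h.mem_np Fl fun φ hφ => ?_
      have h2 := congrFun (congrArg Subtype.val h1) ⟨φ, hφ⟩
      exact h2
    · intro h1
      refine Subtype.ext (funext fun φ => ?_)
      exact φ.2.2 m h1
  have hsmul : ∀ (c : F) (m m' : M), (∀ φ ∈ Kh, Additive.ofMul (φ m') = c • Additive.ofMul (φ m)) → π' m' = c • π' m :=
    fun c m m' h1 => Subtype.ext (funext fun φ => h1 φ φ.2.1)
  have ha0 : π' a ≠ 0 := fun e => han ((hker a).1 e)
  -- `lam` is onto `F a₀`
  choose b hb hb2 using fun c : F => h.smul c a ha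
  have hbinj : Function.Injective fun c : F => (⟨b c, hb c⟩ : lam) := by
    intro c d hcd
    have h1 : b c = b d := congrArg Subtype.val hcd
    have h2 : c • π' a = d • π' a := by rw [← hsmul c a (b c) (hb2 c), ← hsmul d a (b d) (hb2 d), h1]
    exact smul_left_injective F ha0 h2
  have hbb := (Nat.bijective_iff_injective_and_card fun c : F => (⟨b c, hb c⟩ : lam)).2
    ⟨hbinj, h.card.trans Fl.cardR⟩
  refine ⟨QS Fl h, inferInstance, inferInstance, inferInstance, hcomm, π', π' a,
    ⟨hpm, ?_, fun g m => rfl, hker, ?_, ha0⟩, ?_, hsmul⟩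
  · rintro ⟨_, m, rfl⟩
    exact ⟨m, rfl⟩
  · intro v
    rw [Submodule.mem_span_singleton]
    constructor
    · rintro ⟨x, hx, rfl⟩
      obtain ⟨c, hc⟩ := hbb.2 ⟨x, hx⟩
      have hc' : b c = x := congrArg Subtype.val hc
      exact ⟨c, by rw [← hsmul c a (b c) (hb2 c), hc']⟩
    · rintro ⟨c, rfl⟩
      exact ⟨b c, hb c, hsmul c a (b c) (hb2 c)⟩
  · intro g
    obtain ⟨D, hD⟩ := Fl.exists_index_two
    have hDt := ne_top_of_index hD
    let gm : M →* K := MonoidHom.mk' (fun m => (g (π' m)).toMul) (by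
      intro m n
      rw [hpm, map_add, toMul_add])
    have hgm : ∀ m, Additive.ofMul (gm m) = g (π' m) := fun m => rfl
    by_cases hg : gm = 1
    · refine ⟨1, one_mem _, fun m => ?_⟩
      rw [← hgm, hg]
    -- `E = {m | g (π m) ∈ D}`
    obtain ⟨m₀, hm₀⟩ : ∃ m, gm m ∉ D := by
      by_contra hcon
      push Not at hcon
      apply hg
      ext m
      refine eq_one_of_smul h.card hDt (fun c => ?_)
      obtain ⟨m', hm'⟩ := h.all Fl c m
      have h1 : c • Additive.ofMul (gm m) = Additive.ofMul (gm m') := by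
        rw [hgm, hgm, hsmul c m m' hm', map_smul]
      rw [h1]
      exact hcon m'
    have hE : Mt Kh D ≤ D.comap gm := by
      intro m hm
      have h1 : m ∈ Np Kh := Mt_le_Np Kh hDt hm
      show gm m ∈ D
      have h2 : gm m = 1 := by
        have h3 := hgm m
        rw [(hker m).2 h1, map_zero] at h3
        exact h3
      rw [h2]
      exact one_mem _
    obtain ⟨φ, hφ, h1, h2⟩ := Fl.dual hD hE (m := m₀) hm₀
    -- the two homomorphisms agree modulo `D`
    have h3 : ∀ m, φ m * (gm m)⁻¹ ∈ D := by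
      intro m
      have hidx : (D.comap gm).index = 2 := by
        have h4 : (D.comap gm).index ∣ D.index := by
          rw [index_comap]
          exact relIndex_dvd_index_of_normal D gm.range
        rw [hD, Nat.dvd_prime Nat.prime_two, index_eq_one] at h4
        rcases h4 with h4 | h4
        · exfalso
          have h5 : m₀ ∈ D.comap gm := by rw [h4]; exact mem_top _
          exact hm₀ h5
        · exact h4
      by_cases hm : gm m ∈ D
      · exact mul_mem (h1 m hm) (inv_mem hm)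
      · have h4 : φ m ∉ D := by
          intro h5
          have h6 : m₀ * m⁻¹ ∈ D.comap gm := by
            have h7 := Subgroup.mul_mem_iff_of_index_two hidx (a := m₀) (b := m⁻¹)
            rw [h7]
            constructor
            · intro h8
              exact absurd h8 hm₀
            · intro h8
              exact absurd ((inv_mem_iff).1 h8) hm
          have h8 := mul_mem (h1 _ h6) h5
          rw [← map_mul, inv_mul_cancel_right] at h8
          exact h2 h8
        have h7 := Subgroup.mul_mem_iff_of_index_two hD (a := φ m) (b := (gm m)⁻¹)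
        rw [h7]
        constructor
        · intro h8
          exact absurd h8 h4
        · intro h8
          exact absurd ((inv_mem_iff).1 h8) hm
    refine ⟨φ, hφ, fun m => ?_⟩
    have h4 : φ m * (gm m)⁻¹ = 1 := by
      refine eq_one_of_smul h.card hDt (fun c => ?_)
      obtain ⟨m', hm'⟩ := h.all Fl c m
      have h5 : Additive.ofMul (gm m') = c • Additive.ofMul (gm m) := by
        rw [hgm, hgm, hsmul c m m' hm', map_smul]
      rw [ofMul_mul, ofMul_inv, smul_add, smul_neg, ← hm' φ hφ, ← h5]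
      exact h3 m'
    rw [← hgm, mul_inv_eq_one.1 h4]

end Cfsg.Agent.Omega.NO3S.FullQ.QF
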