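import Cfsg.Agent.Omega.NO3S.FullQ.PAll
import Cfsg.Agent.Omega.NO3S.FullQ.PlugN
import Cfsg.Agent.Omega.NO3S.FullQ.QmOf
import Cfsg.Agent.Omega.NO3S.FullQ.Front
import Cfsg.Agent.Omega.NO3S.FullQ.FSOf
import Cfsg.Agent.Omega.NO3S.WQ.TSix
import Cfsg.Agent.Omega.NO3S.FarQ.Free.End

/-!
# FullB (`q ≥ 4`): the plug, abstract part and `n ≥ 3` (helper973)

* `lines_of_classP` : class P for one critical pair gives `[W_a, W_b] ≤ V_l` (`l` the first line) for all critical pairs;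
* `false_of_bd` : **every `n ≥ 2`**: exactness for all critical pairs and the movers without (D) (`Bd`) are contradictory,
  if `[W_a, W_b] ≤ V_l` for all critical pairs is;
* `far_end` : `n ≥ 3`: `[W_a, W_b] ≤ V_l` for all critical pairs is contradictory; `bd_of_w0`;
* `far_false` : over the `(R, B)`-frame with (F1) there is no critical pair at distance `n ≥ 3`.
-/

set_option autoImplicit false
set_option linter.unusedSectionVars false

namespace Cfsg.Agent.Omega.NO3S.FullQ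

open Subgroup Cfsg Cfsg.Agent.ZN Cfsg.Agent.Omega.NOThree.Pts Cfsg.Agent.Omega.NO3S.PT
open Cfsg.Agent.Omega.NO3S.FarQ Cfsg.Agent.Omega.NO3S.FarQ.Glue Cfsg.Agent.Omega.NO3S.FarQ.Free
open Cfsg.Agent.Omega.NO3S.FarQ.Asm (ExP)
open Cfsg.Agent.Omega.ML.Final (MLK)
open Cfsg.Agent.Omega.NO3S.PtGeom (Pt inc)

universe u

section abs

variable {G X L : Type*} [Group G] [MulAction G X] [MulAction G L]
variable {inc : X → L → Prop} {R W : X → Subgroup G} {V : L → Subgroup G} {s t n : ℕ}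
variable {H M K : Type u} [Group H] [CommGroup M] [MulDistribMulAction H M] [CommGroup K]
variable {p q r : X} {l : L} {Sy : Subgroup G} {ρ : G → H} {π : G → M} {ζ : K →* G} {T : Subgroup H}
  {lam U : Subgroup M} {Kh : Subgroup (M →* K)}
variable {Fd : Type*} [Field Fd] [Finite Fd] [CharP Fd 2] [Module Fd (Additive K)]

/-- `[W_a, W_b] ≤ V_l` for all critical pairs, `l` the first line -/
def Lns (inc : X → L → Prop) (W : X → Subgroup G) (V : L → Subgroup G) (n : ℕ) : Prop :=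
  ∀ (a b c : X) (m : L), Crit inc W n a b → inc a m → inc c m → Walk inc (n - 1) c b →
    ∀ x ∈ W a, ∀ y ∈ W b, x * y * x⁻¹ * y⁻¹ ∈ V m

/-- **Class P for one critical pair.** -/
theorem lines_of_classP [Finite G] (hML : MLK.{u, u}) (hK : IsKGroup H) (D : Geom inc R W V s t)
    (F : Frm inc R W V p l Sy ρ π ζ T lam U Kh) (hn : 1 ≤ n) (hE : ∀ a b, Crit inc W n a b → ExP inc R W V n a b)
    (hB : Bd inc R W V n) (hS : FSp Fd lam Kh) (hcard : Nat.card Fd = Nat.card K)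
    (hpq : Crit inc W n p q) (hrl : inc r l) (hwk : Walk inc (n - 1) r q) {A₁ : Subgroup H}
    (hA₁ : A₁ ≤ im F.re (W q) (W_le_cent D hpq hn)) (h1 : ClassP lam Kh A₁) : Lns inc W V n := by
  intro a b c m hc ham hcm hwk'
  have hfs : QF.FS Fd lam Kh := ⟨hcard, hS⟩
  have := F.flag.finM
  have hne : ¬ lam ≤ Np Kh := by
    intro hle
    have h2 : 1 < Nat.card lam := by have := F.flag.four; omega
    have h3 := (Finite.one_lt_card_iff_nontrivial (α := lam)).1 h2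
    obtain ⟨x, hx⟩ := exists_ne (1 : lam)
    exact hx (Subtype.ext (F.flag.np_lam hML hK h1 x.2 (hle x.2)))
  obtain ⟨Q, i1, i2, i3, i4, κ, a0, Qd, hfull, hsm⟩ := QF.exists_qm F.flag hfs hne
  have hlin : ∀ φ ∈ Kh, ∀ c : Fd, ∀ a ∈ lam, ∀ b ∈ lam, κ b = c • κ a →
      Additive.ofMul (φ b) = c • Additive.ofMul (φ a) := by
    intro φ hφ c a ha b hb e
    obtain ⟨b', hb', h4⟩ := hS c a ha
    have h5 : κ b = κ b' := by rw [e, hsm c a b' h4]
    have h6 : b * b'⁻¹ = 1 := F.flag.np_lam hML hK h1 (mul_mem hb (inv_mem hb')) (Qd.mul_inv_mem h5)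
    rw [mul_inv_eq_one.1 h6]
    exact h4 φ hφ
  exact lines_of_pa D F hn hE hB Qd (fun h hi => two_of Qd F.flag.kh hfull hlin hi) hpq hrl hwk hA₁
    (h1.pa F.flag hML hK Qd) hc ham hcm hwk'

/-- **The abstract end**, every `n ≥ 2`. -/
theorem false_of_bd [Finite G] (hML : MLK.{u, u}) (hK : IsKGroup H) (D : Geom inc R W V s t)
    (F : Frm inc R W V p l Sy ρ π ζ T lam U Kh) (hn : 2 ≤ n) (hV : Function.Injective V)
    (t6 : ∀ l u, u ∈ centralizer (V l : Set G) → u * u = 1 → (∀ c ∈ centralizer (V l : Set G), c * u = u * c) →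
      u ∈ V l)
    (hE : ∀ a b, Crit inc W n a b → ExP inc R W V n a b) (hB : Bd inc R W V n) (hS : FSp Fd lam Kh)
    (hcard : Nat.card Fd = Nat.card K) (hend : ¬ Lns inc W V n) {a b : X} (hc : Crit inc W n a b) : False :=
  false_of_noP hML hK D F hn hV t6 hE
    (fun _ _ _ _ hc _ hcm hwk _ _ _ _ F₁ _ hA₁ h1 =>
      hend (lines_of_classP hML hK D F₁ (by omega) hE hB hS hcard hc hcm hwk hA₁ h1)) hc

/-- **`n ≥ 3`: the lines are impossible.** -/
theorem far_end (D : Geom inc R W V s t) (hn : 3 ≤ n) (hl : Lns inc W V n) {a b : X} (hc : Crit inc W n a b) :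
    False := by
  obtain ⟨r₁, l₁, hr₁, hrl₁, hal₁⟩ := hc.symm.last (by omega)
  obtain ⟨r₂, l₂, hr₂, hrl₂, hbl₂⟩ := hc.last (by omega)
  apply hc.ne
  intro x hx y hy
  by_contra hne
  have h1 : x * y * x⁻¹ * y⁻¹ ∈ V l₁ := hl a b r₁ l₁ hc hal₁ hrl₁ hr₁.symm x hx y hy
  have h2 : x * y * x⁻¹ * y⁻¹ ∈ V l₂ := by
    have h3 := inv_mem (hl b a r₂ l₂ hc.symm hbl₂ hrl₂ hr₂.symm y hy x hx)
    have e : (y * x * y⁻¹ * x⁻¹)⁻¹ = x * y * x⁻¹ * y⁻¹ := by group
    rwa [e] at h3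
  have h0 : x * y * x⁻¹ * y⁻¹ ≠ 1 := fun e => hne (by rwa [mul_inv_eq_one, mul_inv_eq_iff_eq_mul] at e)
  obtain ⟨z₁, hz₁, h3⟩ := D.cover l₁ _ h1
  obtain ⟨z₂, hz₂, h4⟩ := D.cover l₂ _ h2
  obtain rfl := D.ti z₁ z₂ _ h3 h4 h0
  exact hc.ne (hc.min 2 (by omega) _ _ ((Walk.one hal₁ hz₁).trans (Walk.one hz₂ hbl₂)))

/-- the movers in the world W0 -/
theorem bd_of_w0 [Finite G] (h : W0 inc R W V n) (D : Geom inc R W V s t)
    (F : Frm inc R W V p l Sy ρ π ζ T lam U Kh) (hn : 1 ≤ n) : Bd inc R W V n := by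
  intro a b r m hc ham hrm hwk
  right
  intro f hf hf1
  obtain ⟨Sy₁, ρ₁, π₁, ζ₁, F₁⟩ := F.at_flag D ham
  have hρ : ρ₁ f ≠ 1 := by
    intro h1
    apply hf1
    intro w hw
    exact (h.ex a b hc).good f hf ((F₁.re.ker f (W_le_cent D hc hn hf)).1 h1) w hw
  obtain ⟨k, hk, ho, hi, -, -, hmv, -⟩ := exists_mover_crit D F₁.toRD hc hn hrm hwk hf hρ
  have hkp : k • a = a := Four.fix_p D hk
  exact ⟨k,
    { crit := hc, pos := hn, pl := F₁.pl, rl := hrm, wk := hwk, hf := hf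
      hc := fun z hz => (mem_centralizer_iff.1 hk z hz).symm, odd := ho, inv := hi, mv := hmv
      nd := fun h1 => h.nd a b hc ⟨k • r, k • m, f, D.inc_smul k _ _ hrm, by
        have := D.inc_smul k _ _ F₁.pl
        rwa [hkp] at this, hf, hmv, h1⟩ }⟩

end abs

variable {G : Type u} [Group G] [Finite G] {S : Sylow 2 G} {B P V Z : Subgroup G}
variable {Fd : Type} [Field Fd] [Finite Fd] [CharP Fd 2]

/-- `H` is a K-group -/
theorem kg_of {H M K : Type u} [Group H] [CommGroup M] [MulDistribMulAction H M] [CommGroup K] {ρ : G → H}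
    {π : G → M} {ζ : K →* G} {T : Subgroup H} {lam U : Subgroup M} {Kh : Subgroup (M →* K)}
    (F : Frm (inc (Z := Z) (V := V)) (fun x => x.sg) (fun x => ws V x.sg) (fun l => l.sg) (Pt.base Z) (Pt.base V)
        B ρ π ζ T lam U Kh) (hG : IsKProper G) (hC : centralizer (Z : Set G) ≠ ⊤) : IsKGroup H :=
  kgroup_of_img hG hC H ⟨MonoidHom.mk' (fun a => ρ a) (fun a b => F.re.mul a a.2 b b.2), fun x => by
      obtain ⟨g, hg, rfl⟩ := F.re.surj x
      exact ⟨⟨g, hg⟩, rfl⟩⟩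

/-- **`n ≥ 3`**: over the `(R, B)`-frame with (F1) there is no critical pair at distance `n ≥ 3`. -/
theorem far_false (h : PB S B P V Z) (hf : ¬ kx V Z ≤ centralizer (V : Set G)) (hO : OmB B V) (hq : 4 ≤ Nat.card Z)
    (hML : MLK.{u, u}) (hG : IsKProper G) (hC : centralizer (Z : Set G) ≠ ⊤)
    (hNO : KNO.{u} (fun H _ => Img (centralizer (Z : Set G)) H))
    (C : Fld.Crd Fd (S : Subgroup G) P V) (hcard : Nat.card Z = Nat.card Fd) {n : ℕ} (hn : 3 ≤ n) {x y : Pt Z}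
    (hc : Crit (inc (Z := Z) (V := V)) (fun x : Pt Z => ws V x.sg) n x y) : False := by
  obtain ⟨H, M, K, iH, iM, iA, iK, ρ, π, ζ, T, lam, U, Kh, F⟩ := exists_frm h hf hO hq hNO
  have D := PB.Geom.geom h hf hO
  obtain ⟨iF, hc1, hS⟩ := exists_fs h C hcard F.toRD rfl rfl (h.V_le_ws h.ZV)
  have hw := w0 D F hn
  exact false_of_bd hML (kg_of F hG hC) D F (by omega) (fun _ _ e => Pt.ext e) (WQ.t6 h hO) hw.ex
    (bd_of_w0 hw D F (by omega)) hS hc1 (fun hl => far_end D hn hl hc) hc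

end Cfsg.Agent.Omega.NO3S.FullQ
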