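import Cfsg.Agent.Omega.NO3S.FullQ.Count

/-!
# NO-3S, `FullB`, class P (helper471 #21459, section 5): two sides

`SO Wp Wq a b k φ ψ` : `a`, `b` are additive on `W_p`; `a [w,f] = φ w · ψ f`, `b [w,f] = k ((φ w)² · ψ f)`.

* `SO.exists_u` : both sides, `b u = b' u = 0 ⟹ u = 1` on `W_p ∩ W_q` : some `u ≠ 1` of `[W_p, W_q]` has `a u = 0`,
  `b' u = 0`.
-/

set_option autoImplicit false
set_option linter.unusedSectionVars false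

namespace Cfsg.Agent.Omega.NO3S.FullQ

open Subgroup

variable {G F M M' : Type*} [Group G] [Field F] [AddCommGroup M] [AddCommGroup M']

/-- one side -/
structure SO (Wp Wq : Subgroup G) (a : G → F) (b : G → M) (k : F →+ M) (φ ψ : G → F) : Prop where
  amul : ∀ u ∈ Wp, ∀ v ∈ Wp, a (u * v) = a u + a v
  bmul : ∀ u ∈ Wp, ∀ v ∈ Wp, b (u * v) = b u + b v
  surj : ∀ x y : F, ∃ w ∈ Wp, ∃ f ∈ Wq, φ w = x ∧ ψ f = y
  ca : ∀ w ∈ Wp, ∀ f ∈ Wq, a (f * w * f⁻¹ * w⁻¹) = φ w * ψ f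
  cb : ∀ w ∈ Wp, ∀ f ∈ Wq, b (f * w * f⁻¹ * w⁻¹) = k (φ w ^ 2 * ψ f)

/-- `[W_p, W_q]` -/
def CR (Wp Wq : Subgroup G) : Subgroup G := closure {c | ∃ w ∈ Wp, ∃ f ∈ Wq, c = f * w * f⁻¹ * w⁻¹}

theorem CR_le {Wp Wq N : Subgroup G} (h : ∀ w ∈ Wp, ∀ f ∈ Wq, f * w * f⁻¹ * w⁻¹ ∈ N) : CR Wp Wq ≤ N := by
  rw [CR, closure_le]
  rintro _ ⟨w, hw, f, hf, rfl⟩
  exact h w hw f hf

theorem SO.exists_u [Finite F] [Finite G] {Wp Wq : Subgroup G} {a a' : G → F} {b : G → M} {b' : G → M'} {k : F →+ M}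
    {k' : F →+ M'} {φ ψ φ' ψ' : G → F} (h4 : 4 ≤ Nat.card F) (S : SO Wp Wq a b k φ ψ) (S' : SO Wq Wp a' b' k' φ' ψ')
    (comm : ∀ u ∈ Wp, ∀ v ∈ Wp, u * v = v * u) (sq : ∀ u ∈ Wp, u * u = 1)
    (h1 : ∀ w ∈ Wp, ∀ f ∈ Wq, f * w * f⁻¹ * w⁻¹ ∈ Wp) (h2 : ∀ w ∈ Wp, ∀ f ∈ Wq, f * w * f⁻¹ * w⁻¹ ∈ Wq)
    (inj : ∀ u ∈ CR Wp Wq, b u = 0 → b' u = 0 → u = 1) :
    ∃ u ∈ CR Wp Wq, u ≠ 1 ∧ a u = 0 ∧ b' u = 0 := by
  have hRp : CR Wp Wq ≤ Wp := CR_le h1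
  have hRq : CR Wp Wq ≤ Wq := CR_le h2
  let _ : CommGroup (CR Wp Wq) :=
    { (inferInstance : Group (CR Wp Wq)) with
      mul_comm := fun u v => Subtype.ext (comm u (hRp u.2) v (hRp v.2)) }
  have hfin : Finite (Additive (CR Wp Wq)) := inferInstanceAs (Finite (CR Wp Wq))
  let aA : Additive (CR Wp Wq) →+ F :=
    AddMonoidHom.mk' (fun u => a (u.toMul : G)) fun u v => S.amul _ (hRp u.toMul.2) _ (hRp v.toMul.2)
  let bA : Additive (CR Wp Wq) →+ M :=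
    AddMonoidHom.mk' (fun u => b (u.toMul : G)) fun u v => S.bmul _ (hRp u.toMul.2) _ (hRp v.toMul.2)
  let aA' : Additive (CR Wp Wq) →+ F :=
    AddMonoidHom.mk' (fun u => a' (u.toMul : G)) fun u v => S'.amul _ (hRq u.toMul.2) _ (hRq v.toMul.2)
  let bA' : Additive (CR Wp Wq) →+ M' :=
    AddMonoidHom.mk' (fun u => b' (u.toMul : G)) fun u v => S'.bmul _ (hRq u.toMul.2) _ (hRq v.toMul.2)
  let β : Wp → Wq → Additive (CR Wp Wq) := fun w f => Additive.ofMul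
    ⟨(f : G) * w * (f : G)⁻¹ * (w : G)⁻¹, subset_closure ⟨w, w.2, f, f.2, rfl⟩⟩
  have hinv : ∀ (w : Wp) (f : Wq), (w : G) * f * (w : G)⁻¹ * (f : G)⁻¹ = (f : G) * w * (f : G)⁻¹ * (w : G)⁻¹ := by
    intro w f
    have e1 : (w : G) * f * (w : G)⁻¹ * (f : G)⁻¹ = ((f : G) * w * (f : G)⁻¹ * (w : G)⁻¹)⁻¹ := by group
    rw [e1]
    exact inv_eq_of_mul_eq_one_left (sq _ (h1 w w.2 f f.2))
  have hgen : AddSubgroup.closure {u | ∃ x y, u = β x y} = ⊤ := by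
    rw [eq_top_iff]
    rintro ⟨u, hu⟩ -
    refine closure_induction (p := fun u hu => (Additive.ofMul (⟨u, hu⟩ : CR Wp Wq)) ∈
      AddSubgroup.closure {u | ∃ x y, u = β x y}) ?_ ?_ ?_ ?_ hu
    · rintro _ ⟨w, hw, f, hf, rfl⟩
      exact AddSubgroup.subset_closure ⟨⟨w, hw⟩, ⟨f, hf⟩, rfl⟩
    · exact zero_mem _
    · intro x y hx hy h3 h4
      exact add_mem h3 h4
    · intro x hx h3
      exact neg_mem h3
  have hs1 : ∀ x y : F, ∃ (p : Wp) (q : Wq), φ p = x ∧ ψ q = y := by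
    intro x y
    obtain ⟨w, hw, f, hf, h3, h4⟩ := S.surj x y
    exact ⟨⟨w, hw⟩, ⟨f, hf⟩, h3, h4⟩
  have hs2 : ∀ x y : F, ∃ (q : Wq) (p : Wp), φ' q = x ∧ ψ' p = y := by
    intro x y
    obtain ⟨w, hw, f, hf, h3, h4⟩ := S'.surj x y
    exact ⟨⟨w, hw⟩, ⟨f, hf⟩, h3, h4⟩
  have ha' : ∀ (w : Wp) (f : Wq), aA' (β w f) = φ' f * ψ' w := by
    intro w f
    have h3 := S'.ca f f.2 w w.2
    rw [hinv] at h3
    exact h3
  have hb' : ∀ (w : Wp) (f : Wq), bA' (β w f) = k' (φ' f ^ 2 * ψ' w) := by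
    intro w f
    have h3 := S'.cb f f.2 w w.2
    rw [hinv] at h3
    exact h3
  have hinj : ∀ u, bA u = 0 → bA' u = 0 → u = 0 := by
    intro u h3 h4
    have h5 := inj u.toMul u.toMul.2 h3 h4
    exact congrArg Additive.ofMul (Subtype.ext h5)
  obtain ⟨u, hu, hu1, hu2⟩ := FullQ.exists_u h4 aA aA' bA bA' k k' β (fun w => φ w) (fun w => ψ' w) (fun f => ψ f)
    (fun f => φ' f) hgen hs1 (fun w f => S.ca w w.2 f f.2) (fun w f => S.cb w w.2 f f.2) hs2 ha' hb' hinj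
  refine ⟨(u.toMul : G), u.toMul.2, fun e => hu ?_, hu2, hu1⟩
  exact congrArg Additive.ofMul (Subtype.ext e)

end Cfsg.Agent.Omega.NO3S.FullQ
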