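import Cfsg.Agent.Omega.NO3S.FullQ.Lift
import Cfsg.Agent.Omega.NO3S.FullQ.Side
import Cfsg.Agent.Omega.NO3S.FarQ.Free.Mover

/-!
# NO-3S, `FullB`, `q ≥ 4`, class P, `n ≥ 3` (helper471 #21459, section 5): the end

`(p, q)` critical, `F₁` the flag `(p, l₁)`, `F₂` the flag `(q, l₂)` (same `(H, M, lam)`), `Dat` on both sides.

* `sec5` : `3 ≤ n` ⟹ `False`;
* `sec5_rd` : over `RD` and `ExP`.
-/

set_option autoImplicit false
set_option linter.unusedSectionVars false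

namespace Cfsg.Agent.Omega.NO3S.FullQ

open Subgroup Cfsg Cfsg.Agent.ZN Cfsg.Agent.Omega.NOThree.Pts
open Cfsg.Agent.Omega.NO3S.FullQ.Cnt Cfsg.Agent.Omega.NO3S.FarQ Cfsg.Agent.Omega.NO3S.FarQ.Glue
open Cfsg.Agent.Omega.NO3S.FullQ.Cnt.Dat (fn fn_apply eq_add)
open Cfsg.Agent.Omega.NO3S.FarQ.Free (exists_mover_crit)

variable {Fd G X L H M Q : Type*} [Field Fd] [Group G] [MulAction G X] [MulAction G L]
  [AddCommGroup Q] [Module Fd Q] [Group H] [DistribMulAction H Q] [SMulCommClass H Fd Q] [CommGroup M]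
  [MulDistribMulAction H M]
variable {inc : X → L → Prop} {R W : X → Subgroup G} {V : L → Subgroup G} {s t n : ℕ}
variable {p q : X} {lam U N : Subgroup M} {A : Subgroup H} {τ : M → Q} {a0 : Q}

/-- type of the elements of `A` -/
theorem fn_ne_zero [Finite Fd] [CharP Fd 2] [Finite H] [Finite M] (E : Dat Fd τ a0 A) {l : Module.Dual Fd Q}
    (hl : l a0 = 1) {e : H} (he : e ∈ A) (h1 : e ≠ 1) : fn Fd l e ≠ 0 := by
  intro h0
  refine h1 (E.inj he fun v => ?_)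
  rw [eq_add hl (E.le he v), h0, LinearMap.zero_apply, zero_smul, add_zero]

section side

variable [Finite Fd] [CharP Fd 2] [Finite H] [Finite M]

/-- **one side** -/
theorem side (D : Geom inc R W V s t) {ρ : G → H} {π : G → M} (Re : Four.Real R W p ρ π)
    (hcen : ∀ f ∈ W q, f ∈ centralizer (R p : Set G)) (hA : ∀ x, x ∈ A ↔ ∃ f ∈ W q, ρ f = x)
    (Q1 : Qm Fd H τ a0 N lam) (E : Dat Fd τ a0 A) {l : Module.Dual Fd Q} (hl : l a0 = 1) {φ1 : Q →ₗ[Fd] Fd} {v1 : Q}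
    (hv1 : φ1 v1 = 1)
    (hmul : ∀ φ : Q →ₗ[Fd] Fd, @Tr Fd Q H (Additive M) _ _ _ _ _ _ (Free.addAct H M) (piA Q1) a0 φ → ∃ c : Fd, φ = c • φ1)
    (hne : A ≠ ⊥) {σ k : Fd →+ Additive M}
    (hk : ∀ (t : Fd) (e : H), t ≠ 0 → @IsE Fd Q H (Additive M) _ _ _ _ _ _ (Free.addAct H M) (piA Q1) a0 (t • φ1) e →
      ∀ m : M, Additive.ofMul (e • m) + Additive.ofMul m = σ (t * φ1 (τ m)) + k ((t * φ1 (τ m)) ^ 2 / t))
    (sq : ∀ m : M, m * m = 1) :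
    SO (W p) (W q) (fun w => l (τ (π w))) (fun w => Additive.ofMul (π w) + σ (l (τ (π w)))) k (fun w => φ1 (τ (π w)))
      (fun f => fn Fd l (ρ f) v1) := by
  -- `φ₁` kills `C_Q(A)`
  have h0 : ∀ v, (∀ b ∈ A, b • v = v) → φ1 v = 0 := by
    obtain ⟨⟨e, he⟩, he1⟩ := Subgroup.ne_bot_iff_exists_ne_one.1 hne
    have he1' : e ≠ 1 := fun h => he1 (Subtype.ext h)
    obtain ⟨c, hc⟩ := hmul _ (tr_of Q1 E (φ := fn Fd l e) fun v hv => fn_zero he hv)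
    have hc0 : c ≠ 0 := by
      rintro rfl
      rw [zero_smul] at hc
      exact fn_ne_zero E hl he he1' hc
    intro v hv
    have h1 : fn Fd l e v = 0 := fn_zero he hv
    rw [hc, LinearMap.smul_apply, smul_eq_mul] at h1
    exact (mul_eq_zero.1 h1).resolve_left hc0
  have hψ : ∀ e ∈ A, fn Fd l e = (fn Fd l e v1) • φ1 := by
    intro e he
    obtain ⟨c, hc⟩ := hmul _ (tr_of Q1 E (φ := fn Fd l e) fun v hv => fn_zero he hv)
    have h1 : fn Fd l e v1 = c := by rw [hc, LinearMap.smul_apply, hv1, smul_eq_mul, mul_one]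
    rw [h1]; exact hc
  have hmem : ∀ f ∈ W q, ρ f ∈ A := fun f hf => (hA _).2 ⟨f, hf, rfl⟩
  have ca : ∀ w ∈ W p, ∀ f ∈ W q, l (τ (π (f * w * f⁻¹ * w⁻¹))) = φ1 (τ (π w)) * fn Fd l (ρ f) v1 := by
    intro w hw f hf
    rw [π_comm Re D (hcen f hf) hw, Q1.map_comm]
    have h1 := hψ _ (hmem f hf)
    have h2 : fn Fd l (ρ f) (τ (π w)) = fn Fd l (ρ f) v1 * φ1 (τ (π w)) := by
      conv_lhs => rw [h1]
      rw [LinearMap.smul_apply, smul_eq_mul]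
    rw [fn_apply] at h2
    rw [h2, mul_comm]
  refine ⟨?_, ?_, ?_, ca, ?_⟩
  · intro u hu v hv
    show l (τ (π (u * v))) = l (τ (π u)) + l (τ (π v))
    rw [Re.pmul u hu v hv, Q1.pmul, map_add]
  · intro u hu v hv
    show Additive.ofMul (π (u * v)) + σ (l (τ (π (u * v)))) =
      Additive.ofMul (π u) + σ (l (τ (π u))) + (Additive.ofMul (π v) + σ (l (τ (π v))))
    rw [Re.pmul u hu v hv, Q1.pmul, map_add, map_add, ofMul_mul]
    abel
  · intro x y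
    obtain ⟨m, hm⟩ := Q1.surj (x • v1)
    obtain ⟨w, hw, rfl⟩ := Re.psurj m
    obtain ⟨a, ha, h1⟩ := E.all (y • φ1) fun v hv => by rw [LinearMap.smul_apply, h0 v hv, smul_zero]
    obtain ⟨f, hf, rfl⟩ := (hA a).1 ha
    refine ⟨w, hw, f, hf, ?_, ?_⟩
    · show φ1 (τ (π w)) = x
      rw [hm, map_smul, hv1, smul_eq_mul, mul_one]
    · show fn Fd l (ρ f) v1 = y
      rw [fn_apply, h1, add_sub_cancel_left, LinearMap.smul_apply, hv1, smul_eq_mul, mul_one, map_smul, hl,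
        smul_eq_mul, mul_one]
  · intro w hw f hf
    show Additive.ofMul (π (f * w * f⁻¹ * w⁻¹)) + σ (l (τ (π (f * w * f⁻¹ * w⁻¹)))) = k (φ1 (τ (π w)) ^ 2 * fn Fd l (ρ f) v1)
    rw [ca w hw f hf, π_comm Re D (hcen f hf) hw]
    have hinv : (π w)⁻¹ = π w := inv_eq_of_mul_eq_one_left (sq _)
    have two : ∀ m : Additive M, m + m = 0 := fun m => sq m.toMul
    rw [hinv, ofMul_mul]
    by_cases ht : fn Fd l (ρ f) v1 = 0
    · have h1 : ρ f = 1 := by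
        by_contra h2
        apply fn_ne_zero E hl (hmem f hf) h2
        rw [hψ _ (hmem f hf), ht, zero_smul]
      rw [ht, mul_zero, mul_zero, map_zero, map_zero, add_zero, h1, one_smul, two]
    · have h1 : @IsE Fd Q H (Additive M) _ _ _ _ _ _ (Free.addAct H M) (piA Q1) a0 ((fn Fd l (ρ f) v1) • φ1) (ρ f) := by
        rw [← hψ _ (hmem f hf)]
        exact isE_of Q1 E hl (hmem f hf)
      rw [hk _ _ ht h1 (π w), mul_comm (φ1 (τ (π w))) (fn Fd l (ρ f) v1), add_right_comm, two, zero_add]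
      congr 1
      field_simp

/-- an element of `V_l` is an element of `W_p` with image in `lam` -/
theorem mem_V_of {l : L} {ρ : G → H} {π : G → M} (D : Geom inc R W V s t) (F : RF inc R W V p l ρ π lam U) {u : G}
    (hu : u ∈ W p) (h : π u ∈ lam) : u ∈ V l := by
  obtain ⟨v, hv, h1⟩ := (F.mlam _).1 h
  have h2 := mem_mul_R F.re hu (D.V_le p l F.pl hv) h1.symm
  have h3 := mul_mem (D.R_le p l F.pl h2) hv
  rwa [inv_mul_cancel_right] at h3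

/-- the lines at the ends of a critical pair meet trivially, `n ≥ 3` -/
theorem inf_V (D : Geom inc R W V s t) (hc : Crit inc W n p q) (hn : 3 ≤ n) {l₁ l₂ : L} (h1 : inc p l₁)
    (h2 : inc q l₂) {u : G} (hu1 : u ∈ V l₁) (hu2 : u ∈ V l₂) : u = 1 := by
  by_contra hne
  obtain ⟨x, hx, hux⟩ := D.cover _ u hu1
  obtain ⟨y, hy, huy⟩ := D.cover _ u hu2
  have e := D.ti x y u hux huy hne
  subst e
  exact hc.not_walk (k := 2) (by omega) ((Walk.one h1 hx).trans (Walk.one hy h2))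

/-- **section 5: class P is dead for `n ≥ 3`.** -/
theorem sec5 [Finite G] {l₁ l₂ : L} {ρ₁ ρ₂ : G → H} {π₁ π₂ : G → M} {A₁ A₂ : Subgroup H}
    (D : Geom inc R W V s t) (hc : Crit inc W n p q) (hn : 3 ≤ n)
    (F₁ : RF inc R W V p l₁ ρ₁ π₁ lam U) (F₂ : RF inc R W V q l₂ ρ₂ π₂ lam U)
    (hA₁ : ∀ x, x ∈ A₁ ↔ ∃ f ∈ W q, ρ₁ f = x) (hA₂ : ∀ x, x ∈ A₂ ↔ ∃ f ∈ W p, ρ₂ f = x)
    (Q1 : Qm Fd H τ a0 N lam) (E₁ : Dat Fd τ a0 A₁) (E₂ : Dat Fd τ a0 A₂) (sq : ∀ m : M, m * m = 1)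
    (uniq : ∀ g g' : H, ∀ a ∈ lam, ∀ b ∈ lam, (g • a) * (g' • b)⁻¹ ∈ N → g • a = g' • b)
    (gen : ∀ E : Subgroup M, (∀ h : H, ∀ a ∈ lam, h • a ∈ E) → E = ⊤) (h4 : 4 ≤ Nat.card Fd) (hne₂ : A₂ ≠ ⊥)
    (hmv : ∃ f ∈ W q, ρ₁ f ≠ 1 ∧ ∃ h ∈ centralizer (R p : Set G), Odd (orderOf h) ∧ f * h * f⁻¹ = h⁻¹ ∧ ρ₁ h ≠ 1) :
    False := by
  have hn1 : 1 ≤ n := by omega
  have hcen₁ : ∀ f ∈ W q, f ∈ centralizer (R p : Set G) := fun f hf => by
    rw [mem_centralizer_iff]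
    exact fun r hr => (hc.symm.comm_R D hn1 hf hr).symm
  have hcen₂ : ∀ f ∈ W p, f ∈ centralizer (R q : Set G) := fun f hf => by
    rw [mem_centralizer_iff]
    exact fun r hr => (hc.comm_R D hn1 hf hr).symm
  have c1 : ∀ w ∈ W p, ∀ f ∈ W q, f * w * f⁻¹ * w⁻¹ ∈ W p := fun w hw f hf =>
    mul_mem (D.norm_W (hc.symm.fix D hn1 hf) hw) (inv_mem hw)
  have c2 : ∀ w ∈ W p, ∀ f ∈ W q, f * w * f⁻¹ * w⁻¹ ∈ W q := fun w hw f hf => by
    have h1 : f * w * f⁻¹ * w⁻¹ = f * (w * f⁻¹ * w⁻¹) := by group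
    rw [h1]
    exact mul_mem hf (D.norm_W (hc.fix D hn1 hw) (inv_mem hf))
  have two : ∀ m : Additive M, m + m = 0 := fun m => sq m.toMul
  let _ : DistribMulAction H (Additive M) := Free.addAct H M
  have Lv1 := lv_of Q1 sq uniq gen
  have hQ : Finite Q := Finite.of_surjective τ Q1.surj
  obtain ⟨l, hl⟩ := E₁.exists_l
  have hsurj : Function.Surjective (piA Q1) := fun v => by
    obtain ⟨m, hm⟩ := Q1.surj v
    exact ⟨Additive.ofMul m, hm⟩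
  have hker : ∀ {A : Subgroup H}, Dat Fd τ a0 A → ∀ e ∈ A, Tr H (piA Q1) a0 (fn Fd l e) := fun E e he =>
    tr_of Q1 E fun v hv => fn_zero he hv
  obtain ⟨f, hf, hf1, h, hh, ho, hi, hh1⟩ := hmv
  by_cases hd : ∀ φ₀ : Q →ₗ[Fd] Fd, ∃ φ : Q →ₗ[Fd] Fd, Tr H (piA Q1) a0 φ ∧ ∀ c : Fd, φ ≠ c • φ₀
  · -- `d ≥ 2`
    have key : ∀ {A : Subgroup H}, Dat Fd τ a0 A → ∀ e ∈ A, ∀ m : M, (e • m) * m⁻¹ ∈ lam := by
      intro A E e he m
      have h1 := Lv1.le_lam h4 hsurj hd (hker E e he) (isE_of Q1 E hl he) (Additive.ofMul m)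
      have hinv : m⁻¹ = m := inv_eq_of_mul_eq_one_left (sq m)
      rw [hinv]
      exact h1
    apply hc.ne
    intro w hw f hf
    have h1 : f * w * f⁻¹ * w⁻¹ ∈ V l₁ := by
      refine mem_V_of D F₁ (c1 w hw f hf) ?_
      rw [π_comm F₁.re D (hcen₁ f hf) hw]
      exact key E₁ _ ((hA₁ _).2 ⟨f, hf, rfl⟩) _
    have h2 : w * f * w⁻¹ * f⁻¹ ∈ V l₂ := by
      have h3 : w * f * w⁻¹ * f⁻¹ ∈ W q := mul_mem (D.norm_W (hc.fix D hn1 hw) hf) (inv_mem hf)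
      refine mem_V_of D F₂ h3 ?_
      rw [π_comm F₂.re D (hcen₂ w hw) hf]
      exact key E₂ _ ((hA₂ _).2 ⟨w, hw, rfl⟩) _
    have h3 : f * w * f⁻¹ * w⁻¹ ∈ V l₂ := by
      have e1 : f * w * f⁻¹ * w⁻¹ = (w * f * w⁻¹ * f⁻¹)⁻¹ := by group
      rw [e1]
      exact inv_mem h2
    have h4 := inf_V D hc hn F₁.pl F₂.pl h1 h3
    have h5 : f * w = w * f := by
      calc f * w = (f * w * f⁻¹ * w⁻¹) * (w * f) := by group
        _ = w * f := by rw [h4, one_mul]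
    exact h5.symm
  · -- `d = 1`
    push Not at hd
    obtain ⟨φ0, hφ0⟩ := hd
    have hne₁ : A₁ ≠ ⊥ := by
      intro h1
      have h2 : ρ₁ f ∈ A₁ := (hA₁ _).2 ⟨f, hf, rfl⟩
      rw [h1, mem_bot] at h2
      exact hf1 h2
    have h00 : φ0 ≠ 0 := by
      rintro rfl
      obtain ⟨c, hc1⟩ := hφ0 _ (hker E₁ _ ((hA₁ _).2 ⟨f, hf, rfl⟩))
      rw [smul_zero] at hc1
      exact fn_ne_zero E₁ hl ((hA₁ _).2 ⟨f, hf, rfl⟩) hf1 hc1
    obtain ⟨v0, hv0⟩ : ∃ v, φ0 v ≠ 0 := by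
      by_contra hcon
      push Not at hcon
      exact h00 (LinearMap.ext hcon)
    have hv1 : φ0 ((φ0 v0)⁻¹ • v0) = 1 := by rw [map_smul, smul_eq_mul, inv_mul_cancel₀ hv0]
    have htr : Tr H (piA Q1) a0 φ0 := by
      obtain ⟨c, hc1⟩ := hφ0 _ (hker E₁ _ ((hA₁ _).2 ⟨f, hf, rfl⟩))
      have hc0 : c ≠ 0 := by
        rintro rfl
        rw [zero_smul] at hc1
        exact fn_ne_zero E₁ hl ((hA₁ _).2 ⟨f, hf, rfl⟩) hf1 hc1
      have h1 := (hker E₁ _ ((hA₁ _).2 ⟨f, hf, rfl⟩)).smul c⁻¹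
      rwa [hc1, smul_smul, inv_mul_cancel₀ hc0, one_smul] at h1
    obtain ⟨σ, hσ, hσ'⟩ := Lv1.exists_sec
    obtain ⟨k, hk0, hk⟩ := Lv1.val' hsurj hσ hσ' htr
    have S1 := side D F₁.re hcen₁ hA₁ Q1 E₁ hl hv1 hφ0 hne₁ (σ := σ) (k := k) (fun t e ht he m => hk t e ht he _) sq
    have S2 := side D F₂.re hcen₂ hA₂ Q1 E₂ hl hv1 hφ0 hne₂ (σ := σ) (k := k) (fun t e ht he m => hk t e ht he _) sq
    have hlam : ∀ {m : M} {c : Fd}, Additive.ofMul m + σ c = 0 → m ∈ lam := by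
      intro m c h1
      have h2 : Additive.ofMul m = σ c := by
        have h3 := congrArg (· + σ c) h1
        simp only [zero_add] at h3
        rw [add_assoc, two, add_zero] at h3
        exact h3
      have h3 := hσ c
      rw [← h2] at h3
      exact h3
    obtain ⟨u, hu, hu1, hau, hbu⟩ := S1.exists_u h4 S2 (D.comm p) (D.sq p) c1 c2 fun u hu h1 h2 =>
      inf_V D hc hn F₁.pl F₂.pl (mem_V_of D F₁ (CR_le c1 hu) (hlam h1)) (mem_V_of D F₂ (CR_le c2 hu) (hlam h2))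
    have hup : u ∈ W p := CR_le c1 hu
    have huq : u ∈ W q := CR_le c2 hu
    have huV : u ∈ V l₂ := mem_V_of D F₂ huq (hlam hbu)
    -- `ū ∈ N`
    have hspan : τ (π₁ u) = (l (τ (π₁ u))) • a0 := by
      have h1 : u ∈ W p ∧ τ (π₁ u) = (l (τ (π₁ u))) • a0 := by
        refine closure_induction (p := fun u _ => u ∈ W p ∧ τ (π₁ u) = (l (τ (π₁ u))) • a0) ?_ ?_ ?_ ?_ hu
        · rintro _ ⟨w, hw, f, hf, rfl⟩
          refine ⟨c1 w hw f hf, ?_⟩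
          have h2 := E₁.le ((hA₁ _).2 ⟨f, hf, rfl⟩) (τ (π₁ w))
          obtain ⟨c, hc1⟩ := Submodule.mem_span_singleton.1 h2
          rw [π_comm F₁.re D (hcen₁ f hf) hw, Q1.map_comm, ← hc1, map_smul, hl, smul_eq_mul, mul_one]
        · refine ⟨one_mem _, ?_⟩
          rw [π_one F₁.re, Q1.map_one, map_zero, zero_smul]
        · rintro x y - - ⟨hx, hx'⟩ ⟨hy, hy'⟩
          refine ⟨mul_mem hx hy, ?_⟩
          rw [F₁.re.pmul x hx y hy, Q1.pmul, map_add, add_smul, ← hx', ← hy']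
        · rintro x - ⟨hx, hx'⟩
          refine ⟨inv_mem hx, ?_⟩
          rw [π_inv F₁.re hx, Q1.map_inv, map_neg, neg_smul, ← hx']
      exact h1.2
    have hτ : τ (π₁ u) = 0 := by
      rw [hspan]
      have h1 : l (τ (π₁ u)) = 0 := hau
      rw [h1, zero_smul]
    -- `h` centralises `N`
    have hff : f * f = 1 := D.sq q f hf
    have hfi : f⁻¹ = f := inv_eq_of_mul_eq_one_left hff
    have hfc := hcen₁ f hf
    have hfA : ρ₁ f ∈ A₁ := (hA₁ _).2 ⟨f, hf, rfl⟩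
    have e1 : (h * f * h⁻¹) * f = h * h := by
      have h2 : f * h⁻¹ * f⁻¹ = h := by
        have h3 := congrArg (·⁻¹) hi
        simp only [mul_inv_rev, inv_inv] at h3
        rw [mul_assoc]; exact h3
      rw [hfi] at h2
      calc (h * f * h⁻¹) * f = h * (f * h⁻¹ * f) := by group
        _ = h * h := by rw [h2]
    have hρ2 : ρ₁ h * ρ₁ h = ρ₁ h * ρ₁ f * (ρ₁ h)⁻¹ * ρ₁ f := by
      rw [← F₁.re.mul h hh h hh, ← e1, F₁.re.mul _ (mul_mem (mul_mem hh hfc) (inv_mem hh)) _ hfc, F₁.re.conj hh hfc]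
    have hN : ∀ m, τ m = 0 → (ρ₁ h * ρ₁ h) • m = m := by
      intro m hm
      have h3 : τ ((ρ₁ h)⁻¹ • m) = 0 := by rw [Q1.act, hm, smul_zero]
      rw [hρ2, mul_smul, E₁.fixK hm hfA, mul_smul, mul_smul, E₁.fixK h3 hfA, smul_inv_smul]
    have hpow : ∀ j : ℕ, ρ₁ (h ^ j) = ρ₁ h ^ j := by
      intro j
      induction j with
      | zero => rw [pow_zero, pow_zero, F₁.re.one]
      | succ j ih => rw [pow_succ, pow_succ, F₁.re.mul _ (pow_mem hh j) _ hh, ih]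
    have hNh : ∀ m, τ m = 0 → ρ₁ h • m = m := by
      intro m hm
      obtain ⟨j, hj⟩ := ho
      have h6 : ρ₁ h = (ρ₁ h * ρ₁ h) ^ (j + 1) := by
        rw [← pow_two, ← pow_mul, ← hpow]
        congr 1
        rw [show 2 * (j + 1) = orderOf h + 1 by omega, pow_succ, pow_orderOf_eq_one, one_mul]
      rw [h6]
      have : ∀ i : ℕ, (ρ₁ h * ρ₁ h) ^ i • m = m := by
        intro i
        induction i with
        | zero => rw [pow_zero, one_smul]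
        | succ i ih => rw [pow_succ, mul_smul, hN m hm, ih]
      exact this _
    have hhp : h * u * h⁻¹ ∈ W p := Four.norm_p D hh hup
    have hr : u⁻¹ * (h * u * h⁻¹) ∈ R p := by
      rw [← F₁.re.pker _ (mul_mem (inv_mem hup) hhp), F₁.re.pmul _ (inv_mem hup) _ hhp, π_inv F₁.re hup,
        F₁.re.act h hh u hup, hNh _ hτ, inv_mul_cancel]
    have hfin : h = 1 := by
      refine no_mover (f := f) (u := u) hff ho hi (D.comm q f hf u huq) ?_ ?_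
      · refine ⟨u⁻¹ * (h * u * h⁻¹), by group, ?_⟩
        have h7 : h * f * h⁻¹ ∈ centralizer (R p : Set G) := mul_mem (mul_mem hh hfc) (inv_mem hh)
        exact ((mem_centralizer_iff.1 h7) _ hr).symm
      · intro h8
        obtain ⟨z, hz, huz⟩ := D.cover _ u huV
        have h9 : h • z = z := D.fix huz hu1 (by
          calc h * u = h * u * h⁻¹ * h := by group
            _ = u * h := by rw [h8])
        have h10 : inc z (h • l₂) := by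
          have := D.inc_smul h _ _ hz
          rwa [h9] at this
        have h11 : Com W q (h • q) :=
          hc.min 2 (by omega) _ _ ((Walk.one F₂.pl hz).trans (Walk.one h10 (D.inc_smul h _ _ F₂.pl)))
        exact h11 f hf _ (D.W_smul h q f hf)
    apply hh1
    rw [hfin, F₁.re.one]

/-- **section 5 over `RD`, `ExP`** (`uniq` = 649's `Cnt.smul_eq_of_mem` after LEMMA TOR). -/
theorem sec5_rd [Finite G] {K : Type*} [CommGroup K] {l₁ l₂ : L} {ρ₁ ρ₂ : G → H} {π₁ π₂ : G → M}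
    {A₁ A₂ : Subgroup H} {Sy₁ Sy₂ : Subgroup G} {ζ₁ ζ₂ : K →* G} {T : Subgroup H} {Kh : Subgroup (M →* K)} {r : X}
    (D : Geom inc R W V s t) (hn : 3 ≤ n) (hE : Asm.ExP inc R W V n p q)
    (F₁ : RD inc R W V p l₁ Sy₁ ρ₁ π₁ ζ₁ T lam U Kh) (F₂ : RD inc R W V q l₂ Sy₂ ρ₂ π₂ ζ₂ T lam U Kh)
    (hr : inc r l₁) (hw : Walk inc (n - 1) r q)
    (hA₁ : ∀ x, x ∈ A₁ ↔ ∃ f ∈ W q, ρ₁ f = x) (hA₂ : ∀ x, x ∈ A₂ ↔ ∃ f ∈ W p, ρ₂ f = x)
    (Q1 : Qm Fd H τ a0 N lam) (E₁ : Dat Fd τ a0 A₁) (E₂ : Dat Fd τ a0 A₂)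
    (uniq : ∀ g g' : H, ∀ a ∈ lam, ∀ b ∈ lam, (g • a) * (g' • b)⁻¹ ∈ N → g • a = g' • b)
    (h4 : 4 ≤ Nat.card Fd) : False := by
  have hc := hE.crit
  have hn1 : 1 ≤ n := by omega
  have hcen₁ : ∀ f ∈ W q, f ∈ centralizer (R p : Set G) := fun f hf => by
    rw [mem_centralizer_iff]
    exact fun r hr => (hc.symm.comm_R D hn1 hf hr).symm
  have hcen₂ : ∀ f ∈ W p, f ∈ centralizer (R q : Set G) := fun f hf => by
    rw [mem_centralizer_iff]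
    exact fun r hr => (hc.comm_R D hn1 hf hr).symm
  obtain ⟨f, hf, hf1⟩ : ∃ f ∈ W q, ρ₁ f ≠ 1 := by
    by_contra hcon
    push Not at hcon
    apply hc.ne
    intro w hw f hf
    exact (hE.good f hf ((F₁.re.ker f (hcen₁ f hf)).1 (hcon f hf)) w hw).symm
  obtain ⟨w, hw2, hw1⟩ : ∃ w ∈ W p, ρ₂ w ≠ 1 := by
    by_contra hcon
    push Not at hcon
    apply hc.ne
    intro w hw f hf
    exact hE.good' w hw ((F₂.re.ker w (hcen₂ w hw)).1 (hcon w hw)) f hf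
  obtain ⟨h, hh, ho, hi, hne, -⟩ := exists_mover_crit D F₁ hc hn1 hr hw hf hf1
  refine sec5 D hc hn F₁.toRF F₂.toRF hA₁ hA₂ Q1 E₁ E₂ F₁.flag.sq uniq F₁.flag.gen h4 ?_ ⟨f, hf, hf1, h, hh, ho, hi, hne⟩
  intro h1
  have h2 : ρ₂ w ∈ A₂ := (hA₂ _).2 ⟨w, hw2, rfl⟩
  rw [h1, mem_bot] at h2
  exact hw1 h2

end side

end Cfsg.Agent.Omega.NO3S.FullQ
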