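import Mathlib

/-!
# FullB, `q ≥ 4`, class P, one functional: transitivity (helper298 #21966, (3.3))

`H` acts `F`-linearly on `Q`, `L₀` is a normal subgroup which contains the root group `v ↦ v + c φ₀(v) a₀` (`c : F`), and
`C_H(a₀)` acts on `F φ₀` (`dim Φ_{a₀} = 1`).

* `Tv.sym` : joined is symmetric: `φ₀(g a₀) = 0 → φ₀(g⁻¹ a₀) = 0`;
* `Tv.trans` : line vectors `x`, `y` (multiples of conjugates of `a₀`) with `φ₀ x = φ₀ y ≠ 0` are conjugate under
  `C_{L₀}(a₀)`;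
* `Tv.two_fix` : an element of `C_H(a₀)` of 2-power order fixes `φ₀`.
-/

set_option autoImplicit false
set_option linter.unusedSectionVars false

namespace Cfsg.Agent.Omega.NO3S.FullQ.Trv

variable {F H Q : Type*} [Field F] [CharP F 2] [AddCommGroup Q] [Module F Q] [Group H] [DistribMulAction H Q]
  [SMulCommClass H F Q]

/-- **The situation.** -/
structure Tv (L0 : Subgroup H) (a0 : Q) (φ0 : Module.Dual F Q) : Prop where
  norm : ∀ g : H, ∀ e ∈ L0, g * e * g⁻¹ ∈ L0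
  root : ∀ c : F, ∃ e ∈ L0, ∀ v : Q, e • v = v + (c * φ0 v) • a0
  zero : φ0 a0 = 0
  ne : φ0 ≠ 0
  sc : ∀ g : H, g • a0 = a0 → ∃ c : F, ∀ v, φ0 (g • v) = c * φ0 v

namespace Tv

variable {L0 : Subgroup H} {a0 : Q} {φ0 : Module.Dual F Q}

omit [CharP F 2] in
/-- the root group of the line vector `k g a₀` -/
theorem root_at (D : Tv L0 a0 φ0) (g : H) (k c : F) :
    ∃ e ∈ L0, ∀ v : Q, e • v = v + (c * φ0 (g⁻¹ • v)) • (k • g • a0) := by
  obtain ⟨e, he, h1⟩ := D.root (c * k)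
  refine ⟨g * e * g⁻¹, D.norm g e he, fun v => ?_⟩
  rw [mul_smul, mul_smul, h1, smul_add, smul_inv_smul, smul_comm g, smul_smul, mul_right_comm, mul_right_comm c]

omit [CharP F 2] in
/-- **joined is symmetric** -/
theorem sym (D : Tv L0 a0 φ0) {g : H} (h : φ0 (g • a0) = 0) : φ0 (g⁻¹ • a0) = 0 := by
  by_contra hne
  obtain ⟨e, -, h1⟩ := D.root_at g⁻¹ 1 1
  simp only [one_smul, one_mul, inv_inv] at h1
  have h2 : e • a0 = a0 := by rw [h1, h, zero_smul, add_zero]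
  obtain ⟨c, hc⟩ := D.sc e h2
  have h3 : c = 1 := by
    have h4 := hc (g⁻¹ • a0)
    rw [h1, smul_inv_smul, D.zero, zero_smul, add_zero] at h4
    exact (mul_right_cancel₀ hne (by rw [one_mul]; exact h4)).symm
  apply D.ne
  ext v
  have h4 := hc (g⁻¹ • v)
  rw [h1, smul_inv_smul, h3, one_mul, LinearMap.map_add, LinearMap.map_smul, smul_eq_mul, add_eq_left] at h4
  exact (mul_eq_zero.1 h4).resolve_right hne

/-- the joined case -/
theorem trans_joined (D : Tv L0 a0 φ0) {g g' : H} {k k' : F} (hk : k ≠ 0) (hk' : k' ≠ 0)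
    (h : φ0 (k • g • a0) = φ0 (k' • g' • a0)) (hj : φ0 (g⁻¹ • k' • g' • a0) ≠ 0) :
    ∃ ℓ ∈ L0, ℓ • a0 = a0 ∧ ℓ • (k • g • a0) = k' • g' • a0 := by
  have two : ∀ v : Q, v + v = 0 := fun v => by
    rw [← two_smul F v, CharTwo.two_eq_zero, zero_smul]
  set y := k' • g' • a0 with hy
  obtain ⟨e, he, h1⟩ := D.root_at g k (φ0 (g⁻¹ • y))⁻¹
  have hx0 : φ0 (g⁻¹ • k • g • a0) = 0 := by
    rw [smul_comm g⁻¹, inv_smul_smul, LinearMap.map_smul, D.zero, smul_zero]
  set x := k • g • a0 with hx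
  have h2 : e • y = y + x := by rw [h1, inv_mul_cancel₀ hj, one_smul]
  have hz : y + x = k' • (e * g') • a0 := by rw [← h2, hy, smul_comm e, mul_smul]
  have h3 : φ0 ((e * g') • a0) = 0 := by
    have h4 : φ0 (y + x) = 0 := by rw [LinearMap.map_add, h, CharTwo.add_self_eq_zero]
    rw [hz, LinearMap.map_smul, smul_eq_mul] at h4
    exact (mul_eq_zero.1 h4).resolve_left hk'
  have h4 := D.sym h3
  have h5 : φ0 ((e * g')⁻¹ • x) ≠ 0 := by
    intro h6
    have h7 : φ0 ((g⁻¹ * (e * g'))⁻¹ • a0) = 0 := by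
      rw [hx, smul_comm, LinearMap.map_smul, smul_eq_mul] at h6
      have h8 := (mul_eq_zero.1 h6).resolve_left hk
      rwa [← mul_smul, show (e * g')⁻¹ * g = (g⁻¹ * (e * g'))⁻¹ by group] at h8
    have h8 := D.sym h7
    rw [inv_inv, mul_smul] at h8
    apply hj
    have h9 : φ0 (g⁻¹ • (y + x)) = 0 := by
      rw [hz, smul_comm, LinearMap.map_smul, h8, smul_zero]
    rwa [smul_add, LinearMap.map_add, hx0, add_zero] at h9
  obtain ⟨e', he', h6⟩ := D.root_at (e * g') k' (φ0 ((e * g')⁻¹ • x))⁻¹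
  rw [← hz] at h6
  refine ⟨e', he', ?_, ?_⟩
  · rw [h6, h4, mul_zero, zero_smul, add_zero]
  · rw [h6, inv_mul_cancel₀ h5, one_smul, add_comm y x, ← add_assoc, two, zero_add]

/-- **`C_{L₀}(a₀)` is transitive** on the line vectors with the same value `φ₀ ≠ 0`. -/
theorem trans (D : Tv L0 a0 φ0) {g g' : H} {k k' : F} (hk' : k' ≠ 0)
    (h : φ0 (k • g • a0) = φ0 (k' • g' • a0)) (hne : φ0 (k • g • a0) ≠ 0) :
    ∃ ℓ ∈ L0, ℓ • a0 = a0 ∧ ℓ • (k • g • a0) = k' • g' • a0 := by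
  have hk : k ≠ 0 := by
    rintro rfl
    rw [zero_smul, LinearMap.map_zero] at hne
    exact hne rfl
  by_cases hj : φ0 (g⁻¹ • k' • g' • a0) = 0
  · obtain ⟨b, hb, h1⟩ := D.root 1
    simp only [one_mul] at h1
    have hba : b • a0 = a0 := by rw [h1, D.zero, zero_smul, add_zero]
    have hy2 : b • k' • g' • a0 = k' • (b * g') • a0 := by rw [smul_comm b, mul_smul]
    have hv : φ0 (k' • (b * g') • a0) = φ0 (k' • g' • a0) := by
      rw [← hy2, h1, LinearMap.map_add, LinearMap.map_smul φ0 (φ0 _), D.zero, smul_zero, add_zero]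
    have hga : φ0 (g⁻¹ • a0) ≠ 0 := by
      intro h2
      have h3 := D.sym h2
      rw [inv_inv] at h3
      rw [LinearMap.map_smul, h3, smul_zero] at hne
      exact hne rfl
    have hj' : φ0 (g⁻¹ • k' • (b * g') • a0) ≠ 0 := by
      rw [← hy2, h1, smul_add, LinearMap.map_add, hj, zero_add, smul_comm, LinearMap.map_smul, smul_eq_mul, ← h]
      exact mul_ne_zero hne hga
    obtain ⟨ℓ, hl, h2, h3⟩ := D.trans_joined hk hk' (h.trans hv.symm) hj'
    refine ⟨b⁻¹ * ℓ, mul_mem (inv_mem hb) hl, ?_, ?_⟩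
    · rw [mul_smul, h2, inv_smul_eq_iff, hba]
    · rw [mul_smul, h3, inv_smul_eq_iff, hy2]
  · exact D.trans_joined hk hk' h hj

/-- an element of `C_H(a₀)` of 2-power order fixes `φ₀` -/
theorem two_fix (D : Tv L0 a0 φ0) {t : H} (h : t • a0 = a0) {n : ℕ} (hn : t ^ 2 ^ n = 1) (v : Q) :
    φ0 (t • v) = φ0 v := by
  obtain ⟨c, hc⟩ := D.sc t h
  have h1 : ∀ (i : ℕ) (v : Q), φ0 (t ^ i • v) = c ^ i * φ0 v := by
    intro i
    induction i with
    | zero => intro v; rw [pow_zero, pow_zero, one_smul, one_mul]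
    | succ i ih => intro v; rw [pow_succ, mul_smul, ih, hc, pow_succ, mul_assoc]
  obtain ⟨w, hw⟩ : ∃ w, φ0 w ≠ 0 := by
    by_contra hcon
    push Not at hcon
    exact D.ne (LinearMap.ext hcon)
  have h2 := h1 (2 ^ n) w
  rw [hn, one_smul] at h2
  have h3 : c ^ 2 ^ n = 1 := (mul_right_cancel₀ hw (by rw [one_mul]; exact h2)).symm
  have h4 : (c - 1) ^ 2 ^ n = 0 := by
    rw [sub_pow_char_pow, h3, one_pow, sub_self]
  have h5 : c = 1 := by
    have := (pow_eq_zero_iff (M₀ := F) (pow_ne_zero n (two_ne_zero (α := ℕ)))).1 h4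
    rwa [sub_eq_zero] at this
  rw [hc, h5, one_mul]

end Tv

end Cfsg.Agent.Omega.NO3S.FullQ.Trv
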