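import Cfsg.Agent.Omega.NO3S.FullQ.PAll
import Cfsg.Agent.Omega.NO3S.FullQ.TwoFront

/-!
# FullB, `q ≥ 4`, `n = 2`: class P is impossible (helper298 #21966, section 4)

* `Two.bd` : `Bd inc R W V 2` over `Mid`, (NO), `q ≥ 4`, not TYPE N;
* **`Two.false_of_pa`** : over `Mid`, (NO), `q ≥ 4`: no critical pair has class P.
-/

set_option autoImplicit false
set_option linter.unusedSectionVars false

namespace Cfsg.Agent.Omega.NO3S.FullQ.Two

open Subgroup Cfsg Cfsg.Agent.ZN Cfsg.Agent.Omega.NOThree.Pts Cfsg.Agent.Omega.NO3S.PT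
open Cfsg.Agent.Omega.NO3S.MidQ (Adj Cr TypN)
open Cfsg.Agent.Omega.NO3S.MidB (Mid)
open Cfsg.Agent.Omega.NO3S.PtGeom (Pt inc)
open Cfsg.Agent.Omega.NOThree.LemmaM (NoOver)
open Cfsg.Agent.Omega.NO3S.FarQ Cfsg.Agent.Omega.NO3S.FarQ.Glue Cfsg.Agent.Omega.NO3S.FarQ.Free
open Cfsg.Agent.Omega.NO3S.FarQ.Asm (ExP)

universe u

variable {G : Type u} [Group G] [Finite G] {S : Sylow 2 G} {P V Z : Subgroup G}

/-- the world of class P for `n = 2` -/
theorem bd (h : Mid S P V Z) (hNO : MidB.No.NOg V Z) (hq : 4 ≤ Nat.card Z) (hT : ¬ TypN V Z) :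
    Bd (inc (Z := Z) (V := V)) (fun x => x.sg) (fun x => ws V x.sg) (fun l => l.sg) 2 := by
  intro p q r l hc hpl hrl hw
  by_cases hne : ∀ a ∈ ws V p.sg, ∀ b ∈ ws V q.sg, a * b * a⁻¹ * b⁻¹ ∈ r.sg
  · exact Or.inl fun x hx y hy => hrl (hne x hx y hy)
  · refine Or.inr fun f hf hf1 => ?_
    obtain ⟨k, -, hk⟩ := exists_bad h hNO hq hT hc hpl hrl hw hne hf hf1
    exact ⟨k, hk⟩

variable {H M K : Type*} [Group H] [CommGroup M] [MulDistribMulAction H M] [CommGroup K]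
variable {p q r : Pt Z} {l : Pt V}
variable {Sy : Subgroup G} {ρ : G → H} {π : G → M} {ζ : K →* G} {T : Subgroup H} {lam U : Subgroup M}
  {Kh : Subgroup (M →* K)}
variable {Fd Q : Type*} [Field Fd] [AddCommGroup Q] [Module Fd Q] [DistribMulAction H Q] [SMulCommClass H Fd Q]
variable {κ : M → Q} {a0 : Q} [Finite Fd] [CharP Fd 2]

/-- **class P is impossible for `n = 2`** -/
theorem false_of_pa (h : Mid S P V Z) (hNO : MidB.No.NOg V Z) (hq : 4 ≤ Nat.card Z)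
    (hNO' : NoOver (inc (Z := Z) (V := V)) (fun x => x.sg) (fun x => ws V x.sg) (fun l => l.sg))
    (F : Frm (inc (Z := Z) (V := V)) (fun x => x.sg) (fun x => ws V x.sg) (fun l => l.sg) p l Sy ρ π ζ T lam U Kh)
    (Qd : Cnt.Qm Fd H κ a0 (Np Kh) lam)
    (hTwo : ∀ h : H, (∀ c : Fd, h • a0 ≠ c • h⁻¹ • a0) → FullQ.Two Kh (Np Kh) lam h)
    (hc : Crit (inc (Z := Z) (V := V)) (fun x : Pt Z => ws V x.sg) 2 p q) (hrl : inc r l)
    (hwk : Walk (inc (Z := Z) (V := V)) 1 r q) {A1 : Subgroup H}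
    (hA1 : A1 ≤ im F.re (ws V q.sg) (W_le_cent (geom h) hc one_le_two)) (h1 : PA Kh lam A1 Qd.inv) : False := by
  have hno : TypN V Z → False := fun hT => by
    obtain ⟨r, hr⟩ := (crit_iff h).1 hc
    exact h.no_typN hT ⟨_, _, _, hr⟩
  refine hno ?_
  by_contra hT
  refine hT (typN_of_lines h fun a b c m hab hcb hcm ham => ?_)
  exact lines_of_pa (geom h) F one_le_two (fun a b hab => exP h hNO' hab) (bd h hNO hq hT) Qd hTwo hc hrl hwk hA1 h1
    hab ham hcm hcb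

end Cfsg.Agent.Omega.NO3S.FullQ.Two
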