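import Cfsg.Agent.Omega.NO3S.FullQ.FMod
import Cfsg.Agent.Omega.NO3S.FullQ.TwoOf

/-!
# FullB, `q ≥ 4`: the `F`-module `Q = M / N⁺` with `Two` (helper298 #21966; helper471 `FMod`)

* `Lnk Fd Kh π` : the `F`-structures of `Q` and of `K̂` agree;
* `full_of` : every `F`-linear `Q → K` is in `K̂`; `lin_of` : elements of `K̂` are `F`-linear on `lam`;
* **`exists_qm_two`** : `exists_qm` with `Two` for all `h` with `h a₀ ∉ F h⁻¹ a₀` (input of `comm_lam`, `lines_of_pa`).
-/

set_option autoImplicit false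
set_option linter.unusedSectionVars false

namespace Cfsg.Agent.Omega.NO3S.FullQ

open Subgroup Cfsg Cfsg.Agent.Omega.NO3S.FarQ

universe u

section lnk

variable {Fd : Type*} [Field Fd] {H M K : Type*} [Group H] [CommGroup M] [MulDistribMulAction H M] [CommGroup K]
  [Module Fd (Additive K)]
variable {T : Subgroup H} {lam U : Subgroup M} {Kh : Subgroup (M →* K)}
variable {Q : Type*} [AddCommGroup Q] [Module Fd Q] [DistribMulAction H Q] [SMulCommClass H Fd Q]
variable {π : M → Q} {a0 : Q}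

/-- the `F`-structures of `Q` and of `K̂` agree -/
def Lnk (Fd : Type*) [Field Fd] {M K : Type*} [CommGroup M] [CommGroup K] [Module Fd (Additive K)]
    (Kh : Subgroup (M →* K)) {Q : Type*} [AddCommGroup Q] [Module Fd Q] (π : M → Q) : Prop :=
  ∀ (c : Fd) (a b : M), (∀ φ ∈ Kh, Additive.ofMul (φ b) = c • Additive.ofMul (φ a)) → π b = c • π a

/-- **every `F`-linear map `Q → K` is in `K̂`** -/
theorem full_of (F : Flag T lam U Kh) (hS : FSp Fd lam Kh) (hcard : Nat.card Fd = Nat.card K)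
    (C : Cnt.Qm Fd H π a0 (Np Kh) lam) (hl : Lnk Fd Kh π) (f : Q →ₗ[Fd] Additive K) :
    ∃ φ ∈ Kh, ∀ m, Additive.ofMul (φ m) = f (π m) := by
  obtain ⟨D, hD⟩ := F.exists_index_two
  have hDt := ne_top_of_index hD
  let θ : M →* K := MonoidHom.mk' (fun m => (f (π m)).toMul) (fun a b => by
    rw [C.pmul, map_add]
    rfl)
  have hθ' : ∀ m, Additive.ofMul (θ m) = f (π m) := fun _ => rfl
  obtain ⟨ψ, hψ, h1⟩ := F.dual_hom hD θ fun m hm => by
    have h2 : π m = 0 := (C.ker m).2 (Mt_le_Np Kh hDt hm)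
    have h3 : Additive.ofMul (θ m) = 0 := by rw [hθ', h2, map_zero]
    have h4 : θ m = 1 := h3
    rw [h4]
    exact one_mem _
  have h2 : θ * ψ⁻¹ = 1 := by
    refine eq_one_of_lin F hS hcard hDt ?_ h1
    intro c g a ha b hb e
    have e1 : Additive.ofMul (ψ (g • b)) = c • Additive.ofMul (ψ (g • a)) := e _ (F.comp_mem hψ g)
    have e2 : π b = c • π a := hl c a b e
    show Additive.ofMul (θ (g • b)) + -Additive.ofMul (ψ (g • b)) =
      c • (Additive.ofMul (θ (g • a)) + -Additive.ofMul (ψ (g • a)))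
    rw [e1, hθ', hθ', C.act, C.act, e2, smul_comm g c, map_smul, smul_add, smul_neg]
  rw [mul_inv_eq_one] at h2
  exact ⟨ψ, hψ, fun m => by rw [← h2]; exact hθ' m⟩

/-- **elements of `K̂` are `F`-linear on `lam`** -/
theorem lin_of (hS : FSp Fd lam Kh) (C : Cnt.Qm Fd H π a0 (Np Kh) lam) (hl : Lnk Fd Kh π)
    (hNl : ∀ a ∈ lam, a ∈ Np Kh → a = 1) {φ : M →* K} (hφ : φ ∈ Kh) (c : Fd) {a b : M} (ha : a ∈ lam) (hb : b ∈ lam)
    (h : π b = c • π a) : Additive.ofMul (φ b) = c • Additive.ofMul (φ a) := by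
  obtain ⟨b', hb', e⟩ := hS c a ha
  have h1 : π b' = c • π a := hl c a b' e
  have h2 : b * b'⁻¹ ∈ Np Kh := by
    rw [← C.ker]
    have h3 : π (b * b'⁻¹) + π b' = π b := by rw [← C.pmul, inv_mul_cancel_right]
    rw [h, h1] at h3
    exact add_eq_right.1 h3
  have h3 : b * b'⁻¹ = 1 := hNl _ (mul_mem hb (inv_mem hb')) h2
  rw [mul_inv_eq_one] at h3
  rw [h3]
  exact e φ hφ

/-- **`Two`** -/
theorem two_of_lnk (F : Flag T lam U Kh) (hS : FSp Fd lam Kh) (hcard : Nat.card Fd = Nat.card K)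
    (hNl : ∀ a ∈ lam, a ∈ Np Kh → a = 1) (C : Cnt.Qm Fd H π a0 (Np Kh) lam) (hl : Lnk Fd Kh π)
    {h : H} (hi : ∀ c : Fd, h • a0 ≠ c • h⁻¹ • a0) : Two Kh (Np Kh) lam h :=
  two_of C (fun _ hφ g => ⟨_, F.comp_mem hφ g, fun _ => rfl⟩) (full_of F hS hcard C hl)
    (fun _ hφ c _ ha _ hb e => lin_of hS C hl hNl hφ c ha hb e) hi

end lnk

/-- **The `F`-module `Q = M / N⁺` with `Two`** (the construction of `exists_qm`). -/
theorem exists_qm_two {Fd : Type*} [Field Fd] {H : Type*} {M K : Type u} [Group H] [CommGroup M]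
    [MulDistribMulAction H M] [CommGroup K] [Module Fd (Additive K)] {T : Subgroup H} {lam U : Subgroup M}
    {Kh : Subgroup (M →* K)} (F : Flag T lam U Kh) (hS : FSp Fd lam Kh) (hcard : Nat.card Fd = Nat.card K)
    (hNl : ∀ a ∈ lam, a ∈ Np Kh → a = 1) :
    ∃ (Q : Type u) (_ : AddCommGroup Q) (_ : Module Fd Q) (_ : DistribMulAction H Q) (_ : SMulCommClass H Fd Q)
      (π : M → Q) (a0 : Q), Cnt.Qm Fd H π a0 (Np Kh) lam ∧
        ∀ h : H, (∀ c : Fd, h • a0 ≠ c • h⁻¹ • a0) → Two Kh (Np Kh) lam h := by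
  have := F.finM
  have : Finite K := by
    have h1 : Nat.card K ≠ 0 := by rw [F.cardR]; exact Nat.card_pos.ne'
    exact Nat.finite_of_card_ne_zero h1
  have : Finite Fd := by
    have h1 : Nat.card Fd ≠ 0 := by rw [hcard, F.cardR]; exact Nat.card_pos.ne'
    exact Nat.finite_of_card_ne_zero h1
  let Q : Submodule Fd (Kp Fd Kh → Additive K) :=
    { carrier := {d | ∃ m : M, ∀ φ : Kp Fd Kh, d φ = Additive.ofMul (φ.1 m)}
      zero_mem' := ⟨1, fun φ => by rw [map_one]; rfl⟩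
      add_mem' := by
        rintro d d' ⟨m, hm⟩ ⟨m', hm'⟩
        exact ⟨m * m', fun φ => by rw [map_mul, ofMul_mul, ← hm, ← hm']; rfl⟩
      smul_mem' := by
        rintro c d ⟨m, hm⟩
        obtain ⟨m', hm'⟩ := exists_sc F hS c m
        exact ⟨m', fun φ => by rw [hm' _ φ.2.1, ← hm]; rfl⟩ }
  let π : M → Q := fun m => ⟨fun φ => Additive.ofMul (φ.1 m), m, fun _ => rfl⟩
  have hsurj : Function.Surjective π := by
    rintro ⟨d, m, hm⟩
    exact ⟨m, Subtype.ext (funext fun φ => (hm φ).symm)⟩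
  let act : DistribMulAction H Q :=
    { smul := fun h q => ⟨fun φ => q.1 ⟨φ.1.comp (MulDistribMulAction.toMonoidHom M h), Kp_comp F φ.2 h⟩, by
        obtain ⟨d, m, hm⟩ := q
        exact ⟨h • m, fun φ => hm _⟩⟩
      one_smul := by
        rintro ⟨d, m, hm⟩
        refine Subtype.ext (funext fun φ => ?_)
        show d _ = d φ
        rw [hm, hm]
        exact congrArg (fun x => Additive.ofMul (φ.1 x)) (one_smul H m)
      mul_smul := by
        rintro g h ⟨d, m, hm⟩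
        refine Subtype.ext (funext fun φ => ?_)
        show d _ = d _
        rw [hm, hm]
        exact congrArg (fun x => Additive.ofMul (φ.1 x)) (mul_smul g h m)
      smul_zero := fun h => rfl
      smul_add := fun h q q' => rfl }
  have hact : ∀ (h : H) (m : M), π (h • m) = h • π m := fun _ _ => rfl
  have hcomm : SMulCommClass H Fd Q := ⟨fun h c q => rfl⟩
  have hker : ∀ m, π m = 0 ↔ m ∈ Np Kh := by
    intro m
    rw [mem_Np_iff F hS hcard]
    constructor
    · intro h φ hφ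
      exact congrFun (congrArg Subtype.val h) ⟨φ, hφ⟩
    · intro h
      exact Subtype.ext (funext fun φ => h φ.1 φ.2)
  have hpmul : ∀ m n, π (m * n) = π m + π n := by
    intro m n
    refine Subtype.ext (funext fun φ => ?_)
    show Additive.ofMul (φ.1 (m * n)) = Additive.ofMul (φ.1 m) + Additive.ofMul (φ.1 n)
    rw [map_mul]
    rfl
  have hlnk : Lnk Fd Kh π := fun c a b e => Subtype.ext (funext fun φ => e _ φ.2.1)
  obtain ⟨a₁, ha₁, ha₂⟩ : ∃ a ∈ lam, a ≠ 1 := by
    by_contra hcon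
    push Not at hcon
    have h1 : lam = ⊥ := by
      rw [eq_bot_iff]
      exact fun a ha => mem_bot.2 (hcon a ha)
    have h2 := F.four
    rw [h1, Subgroup.card_bot] at h2
    omega
  have hne : π a₁ ≠ 0 := fun h => ha₂ (hNl a₁ ha₁ ((hker _).1 h))
  have hb : ∀ c : Fd, ∃ b : lam, π b = c • π a₁ := by
    intro c
    obtain ⟨b, hb, e⟩ := hS c a₁ ha₁
    exact ⟨⟨b, hb⟩, hlnk c a₁ b e⟩
  choose β hβ using hb
  have hinj : Function.Injective β := by
    intro c d hcd
    have h1 : (c - d) • π a₁ = 0 := (sub_smul c d (π a₁)).trans (by rw [← hβ, ← hβ, hcd, sub_self])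
    by_contra h2
    exact hne ((smul_eq_zero_iff_right (sub_ne_zero.2 h2)).1 h1)
  have hbij := (Nat.bijective_iff_injective_and_card β).2 ⟨hinj, hcard.trans F.cardR⟩
  have C : Cnt.Qm Fd H π (π a₁) (Np Kh) lam := ⟨hpmul, hsurj, hact, hker, fun v => by
    rw [Submodule.mem_span_singleton]
    constructor
    · rintro ⟨a, ha, rfl⟩
      obtain ⟨c, hc⟩ := hbij.2 ⟨a, ha⟩
      exact ⟨c, by rw [← hβ, hc]⟩
    · rintro ⟨c, rfl⟩
      exact ⟨β c, (β c).2, hβ c⟩, hne⟩
  exact ⟨Q, inferInstance, inferInstance, act, hcomm, π, π a₁, C, fun h hi => two_of_lnk F hS hcard hNl C hlnk hi⟩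

end Cfsg.Agent.Omega.NO3S.FullQ
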