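import Cfsg.Agent.Omega.NO3S.FullQ.TwoEnd
import Cfsg.Agent.Omega.NO3S.FullQ.TwoFS

/-!
# FullB, `q ≥ 4`, `n = 2`: no critical pair has a subgroup of class P (input `hP` of helper471's `false_of_noP`)

* `Two.charP_of` : the field has characteristic two;
* **`Two.false_of_classP`** : over `Mid`, (NO), `q ≥ 4`.
-/

set_option autoImplicit false
set_option linter.unusedSectionVars false

namespace Cfsg.Agent.Omega.NO3S.FullQ

open Subgroup Cfsg Cfsg.Agent.ZN Cfsg.Agent.Omega.NOThree.Pts Cfsg.Agent.Omega.NO3S.PT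
open Cfsg.Agent.Omega.NO3S.MidQ (Adj Cr TypN)
open Cfsg.Agent.Omega.NO3S.MidB (Mid)
open Cfsg.Agent.Omega.NO3S.PtGeom (Pt inc)
open Cfsg.Agent.Omega.NOThree.LemmaM (NoOver)
open Cfsg.Agent.Omega.NO3S.FarQ Cfsg.Agent.Omega.NO3S.FarQ.Glue Cfsg.Agent.Omega.NO3S.FarQ.Free
open Cfsg.Agent.Omega.NO3S.FarQ.Asm (ExP)
open Cfsg.Agent.Omega.ML.Final (MLK)

universe u

/-- the field has characteristic two -/
theorem Two.charP_of {Fd : Type*} [Field Fd] {H M K : Type*} [Group H] [CommGroup M] [MulDistribMulAction H M] [CommGroup K]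
    [Module Fd (Additive K)] {T : Subgroup H} {lam U : Subgroup M} {Kh : Subgroup (M →* K)} (F : Flag T lam U Kh) :
    CharP Fd 2 := by
  have := F.finM
  have h1 : 1 < Nat.card K := by
    have h2 := F.four
    rw [← F.cardR] at h2
    omega
  have : Finite K := Nat.finite_of_card_ne_zero (by omega)
  have : Nontrivial K := (Finite.one_lt_card_iff_nontrivial).1 h1
  obtain ⟨k, hk⟩ := exists_ne (1 : K)
  refine CharTwo.of_one_ne_zero_of_two_eq_zero one_ne_zero ?_
  have h2 : (2 : Fd) • Additive.ofMul k = 0 := by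
    rw [two_smul, ← ofMul_mul, F.sqR k, ofMul_one]
  exact (smul_eq_zero.1 h2).resolve_right fun h3 => hk (Additive.ofMul.injective h3)

/-- **class P is impossible for `n = 2`** -/
theorem Two.false_of_classP {G : Type u} [Group G] [Finite G] {S : Sylow 2 G} {P V Z : Subgroup G} {Fd : Type*} [Field Fd]
    {H M K : Type u} [Group H] [CommGroup M] [MulDistribMulAction H M] [CommGroup K] [Module Fd (Additive K)]
    {p q r : Pt Z} {l : Pt V} {Sy : Subgroup G} {ρ : G → H} {π : G → M} {ζ : K →* G} {T : Subgroup H}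
    {lam U : Subgroup M} {Kh : Subgroup (M →* K)} (hML : MLK.{u, u}) (hK : IsKGroup H)
    (h : Mid S P V Z) (hNO : MidB.No.NOg V Z) (hq : 4 ≤ Nat.card Z)
    (hNO' : NoOver (inc (Z := Z) (V := V)) (fun x => x.sg) (fun x => ws V x.sg) (fun l => l.sg))
    (hS : FSp Fd lam Kh) (hcard : Nat.card Fd = Nat.card K)
    (F : Frm (inc (Z := Z) (V := V)) (fun x => x.sg) (fun x => ws V x.sg) (fun l => l.sg) p l Sy ρ π ζ T lam U Kh)
    (hc : Crit (inc (Z := Z) (V := V)) (fun x : Pt Z => ws V x.sg) 2 p q) (hrl : inc r l)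
    (hwk : Walk (inc (Z := Z) (V := V)) 1 r q) {A1 : Subgroup H}
    (hA1 : A1 ≤ im F.re (ws V q.sg) (W_le_cent (geom h) hc one_le_two)) (h1 : ClassP lam Kh A1) : False := by
  have := F.flag.finM
  have : CharP Fd 2 := Two.charP_of F.flag
  have : Finite Fd := by
    have h1 : Nat.card Fd ≠ 0 := by rw [hcard, F.flag.cardR]; exact Nat.card_pos.ne'
    exact Nat.finite_of_card_ne_zero h1
  obtain ⟨Q, i1, i2, i3, i4, κ, a0, Qd, hTwo⟩ := exists_qm_two F.flag hS hcard
    (fun a ha haN => F.flag.np_lam hML hK h1 ha haN)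
  exact Two.false_of_pa h hNO hq hNO' F Qd hTwo hc hrl hwk hA1 (h1.pa F.flag hML hK Qd)

end Cfsg.Agent.Omega.NO3S.FullQ
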